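import Groth.Agent.FSch.K181.IndCoh
import Groth.Agent.SiteCmp.K578.LocZero

/-!
# Vanishing of higher direct images along a morphism with good preimages
-/

set_option autoImplicit false
set_option linter.style.haveILetI false
universe u

open CategoryTheory TopologicalSpace Opposite AlgebraicGeometry CategoryTheory.Limits

noncomputable section

namespace K181.PushVan

open K29.RSec

/-- A covering of an open set by members of a basis. -/
theorem exists_cover {Y : TopCat.{u}} (B' : Set (Opens Y)) (hB' : ∀ (U : Opens Y) (y : Y), y ∈ U → ∃ W ∈ B', y ∈ W ∧ W ≤ U)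
    (U : Opens Y) : ∃ (ι : Type u) (V : ι → Opens Y) (g : ∀ i, V i ⟶ U),
      Sieve.ofArrows V g ∈ Opens.grothendieckTopology Y U ∧ ∀ i, V i ∈ B' := by
  choose W hW hy hWU using fun y : U => hB' U y.1 y.2
  refine ⟨U, W, fun y => homOfLE (hWU y), ?_, hW⟩
  intro y hy'
  exact ⟨W ⟨y, hy'⟩, homOfLE (hWU _), ⟨_, 𝟙 _, homOfLE (hWU _), Presieve.ofArrows.mk _, Subsingleton.elim _ _⟩, hy _⟩

end K181.PushVan
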