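import Groth.Agent.FSch.K181.SecCoprod
import Groth.Agent.FCompl.K29.RBasis
import Groth.Agent.FSch.K181.PushVan
import Groth.Agent.Ega3B.InjMod
import Groth.Agent.Etrest.RCoprod2
import Groth.Agent.S0452
import Mathlib.Topology.NoetherianSpace

/-!
# Direct images and direct sums on Noetherian spaces

* `isIso_sigmaComparison_push`: `f_*` commutes with direct sums if the source is a Noetherian space;
* `isFlasque_coproduct`: direct sums of injective modules are flasque;
* `isAcyc_sigma`;
* `preservesColimit_RpushD_of_isGE`: `Rf_*` commutes with direct sums of uniformly bounded below families.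
-/

set_option autoImplicit false
set_option linter.style.haveILetI false
universe u

open CategoryTheory CategoryTheory.Limits TopologicalSpace Opposite

attribute [local instance] HasDerivedCategory.standard

noncomputable section

namespace K181.PushCoprod

open K29.RSec K29.RStalk K181.Good K181.SecCoprod Groth.Agent.Etrest

variable {T₁ T₂ : TopCat.{u}} {O₁ : Sheaf (Opens.grothendieckTopology T₁) CommRingCat.{u}}
  {O₂ : Sheaf (Opens.grothendieckTopology T₂) CommRingCat.{u}} (f : ModSite.RMor O₁ O₂)

theorem app_push {M N : Mod O₁} (φ : M ⟶ N) (V : Opens T₂) (m : Sec (f.push.obj M) V) :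
    app (f.push.map φ) V m = app φ (f.fn.obj V) m := rfl

theorem app_sum' {M N : Mod O₂} (φ : M ⟶ N) (V : Opens T₂) {I : Type*} (t : Finset I) (m : I → Sec M V) :
    app φ V (∑ i ∈ t, m i) = ∑ i ∈ t, app φ V (m i) := map_sum _ _ _

/-- `f_*` commutes with direct sums. -/
theorem isIso_sigmaComparison_push [NoetherianSpace T₁] {J : Type u} (M : J → Mod O₁) :
    IsIso (sigmaComparison f.push M) := by
  classical
  let F := f.push
  let hc := coproductIsCoproduct M
  let hc' := coproductIsCoproduct fun j => F.obj (M j)
  let θ := sigmaComparison F M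
  have hθ : ∀ j, Limits.Sigma.ι (fun j => F.obj (M j)) j ≫ θ = F.map (Limits.Sigma.ι M j) :=
    fun j => ι_comp_sigmaComparison F M j
  have h3 : ∀ i, proj hc' i = θ ≫ F.map (proj hc i) := by
    intro i
    apply Cofan.IsColimit.hom_ext hc'
    intro j
    have e1 : (Cofan.mk _ (Limits.Sigma.ι fun j => F.obj (M j))).inj j ≫ θ ≫ F.map (proj hc i) =
        F.map (Limits.Sigma.ι M j ≫ proj hc i) := by
      rw [F.map_comp, ← hθ]
      exact (Category.assoc _ _ _).symm
    rw [e1]
    by_cases hji : j = i
    · subst hji
      rw [inj_proj hc' j]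
      have := inj_proj hc j
      exact ((F.congr_map this).trans (F.map_id _)).symm
    · rw [inj_proj_ne hc' hji]
      have := inj_proj_ne hc hji
      exact ((F.congr_map this).trans (F.map_zero _ _)).symm
  refine K29.RBasis.isIso_of_local _ fun x V hx => ⟨V, hx, le_rfl, ?_, fun t => ?_⟩
  · rw [injective_iff_map_eq_zero]
    intro s hs
    refine eq_zero_of_proj hc' fun i => ?_
    rw [h3, app_comp]
    exact (congrArg _ hs).trans (map_zero _)
  · obtain ⟨a, m, ha⟩ := isFinSum_of_isCompact (c := Cofan.mk (∐ M) (Limits.Sigma.ι M)) hc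
      (NoetherianSpace.isCompact ((f.fn.obj V : Opens T₁) : Set T₁)) (show Sec (∐ M) (f.fn.obj V) from t)
    refine ⟨∑ i ∈ a, app (Limits.Sigma.ι (fun j => F.obj (M j)) i) V (show Sec (F.obj (M i)) V from m i), ?_⟩
    have h6 : ∀ i, app θ V (app (Limits.Sigma.ι (fun j => F.obj (M j)) i) V (show Sec (F.obj (M i)) V from m i)) =
        (show Sec (F.obj (∐ M)) V from app (Limits.Sigma.ι M i) (f.fn.obj V) (m i)) := by
      intro i
      rw [← app_comp, hθ]
      rfl
    refine (app_sum' θ V _ _).trans ?_
    refine (Finset.sum_congr rfl fun i _ => h6 i).trans ?_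
    exact ha.symm

theorem preservesCoproducts_push [NoetherianSpace T₁] (J : Type u) :
    PreservesColimitsOfShape (Discrete J) f.push := by
  have h : ∀ K : J → Mod O₁, PreservesColimit (Discrete.functor K) f.push := fun K => by
    have := isIso_sigmaComparison_push f K
    exact PreservesCoproduct.of_iso_comparison _ _
  exact preservesColimitsOfShape_of_discrete _

/-- Sections of injective modules extend. -/
theorem res_surjective_of_injective (I : Mod O₁) [Injective I] {U V : Opens T₁} (h : V ≤ U) :
    Function.Surjective (res I h) :=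
  Groth.Agent.Ega3B.InjMod.surjective_map_of_injective_site (ringSheaf O₁) I (homOfLE h)

/-- Direct sums of injective modules on a Noetherian space are flasque. -/
theorem isFlasque_coproduct [NoetherianSpace T₁] {J : Type u} (I : J → Mod O₁) (hI : ∀ j, Injective (I j)) :
    TopCat.Sheaf.IsFlasque (ModSite.toAb (∐ I)) where
  epi {U V} i := by
    rw [AddCommGrpCat.epi_iff_surjective]
    intro s
    obtain ⟨a, m, ha⟩ := isFinSum_of_isCompact (c := Cofan.mk (∐ I) (Limits.Sigma.ι I)) (coproductIsCoproduct I)
      (NoetherianSpace.isCompact (V.unop : Set T₁)) (show Sec (∐ I) V.unop from s)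
    choose m' hm' using fun j => (have := hI j; res_surjective_of_injective (I j) (leOfHom i.unop) (m j))
    refine ⟨(show Sec (∐ I) U.unop from ∑ j ∈ a, app (Limits.Sigma.ι I j) U.unop (m' j)), ?_⟩
    have h1 : res (∐ I) (leOfHom i.unop) (∑ j ∈ a, app (Limits.Sigma.ι I j) U.unop (m' j)) =
        ∑ j ∈ a, app (Limits.Sigma.ι I j) V.unop (m j) := by
      rw [map_sum]
      refine Finset.sum_congr rfl fun j _ => ?_
      rw [← app_res, hm']
    exact h1.trans ha.symm

theorem exists_cover_univ (T : TopCat.{u}) (U : Opens T) : ∃ (ι : Type u) (V : ι → Opens T) (g : ∀ i, V i ⟶ U),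
      Sieve.ofArrows V g ∈ Opens.grothendieckTopology T U ∧ ∀ i, V i ∈ (Set.univ : Set (Opens T)) :=
  K181.PushVan.exists_cover Set.univ (fun U _ hy => ⟨U, trivial, hy, le_rfl⟩) U

/-- Direct sums of injectives are acyclic for `f_*`. -/
theorem isAcyc_sigma [NoetherianSpace T₁] {J : Type u} (I : J → Mod O₁) (hI : ∀ j, Injective (I j)) :
    haveI := K578.Der.enoughInjectives O₁
    RDer2.IsAcyc f.push (∐ I) := by
  have := K578.Der.enoughInjectives O₁
  intro q
  have : SiteCmp.HasRpushD f := K578.Der.hasRpushD f
  have h1 := isFlasque_coproduct I hI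
  have h2 := (K578.LocZero.isZero_homologySingle_of_local f (∐ I) (q + 1) Set.univ (exists_cover_univ T₂)
    (fun W _ => Groth.Agent.S0452.result (ModSite.toAb (∐ I)) (f.fn.obj W) q))
  exact h2.of_iso (K578.RpushSingle.homologySingle f (∐ I) (q + 1)).symm

end K181.PushCoprod
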