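import Groth.Agent.FSch.K181.Pres

/-!
# Global presentations: a cartesian module on the whole space is a cokernel of free modules
-/

set_option autoImplicit false
set_option linter.style.haveILetI false
universe u

open CategoryTheory TopologicalSpace Opposite CategoryTheory.Limits

noncomputable section

namespace K181.Good

open K29.RSec K181.BC K181.Pre
open Groth.Agent.Gaga.H976.TM0 Groth.Agent.Gaga.H976.TM1 Groth.Agent.Gaga.H976.TM2 Groth.Agent.Gaga.H976.TM3
  K919.QCSite K919.QCElem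

variable {T : TopCat.{u}} {R : Sheaf (Opens.grothendieckTopology T) RingCat.{u}}

/-- The global section defined by a section over `⊤`. -/
def topSec (N : SheafOfModules.{u} R) (s : N.val.obj (op (⊤ : Opens T))) : N.sections :=
  ⟨fun Y => rs N (show Y.unop ≤ ⊤ from le_top) s, fun {Y Z} f => by
    exact rs_rs N _ _ s⟩

lemma sec_topSec (N : SheafOfModules.{u} R) (s : N.val.obj (op (⊤ : Opens T))) (Y : (Opens T)ᵒᵖ) :
    sec (topSec N s) Y = rs N (show Y.unop ≤ ⊤ from le_top) s := rfl

lemma lc_topSec {N : SheafOfModules.{u} R} {I : Type u} (s : I → N.val.obj (op (⊤ : Opens T))) (Y : Opens T)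
    (c : I →₀ R.obj.obj (op Y)) : lc (fun j => topSec N (s j)) Y c = lcr N le_top s c := rfl

lemma exists_sieve_top (Y : Opens T) (P : ∀ (Z : Opens T), (Z ⟶ Y) → Prop)
    (hP : ∀ (Z Z' : Opens T) (g : Z ⟶ Y) (k : Z' ⟶ Z), P Z g → P Z' (k ≫ g))
    (h : ∀ x ∈ Y, ∃ (V : Opens T) (h : V ≤ Y), x ∈ V ∧ P V (homOfLE h)) :
    ∃ S : Sieve Y, S ∈ (Opens.grothendieckTopology T) Y ∧
      ∀ ⦃Z : Opens T⦄ (g : Z ⟶ Y), S.arrows g → P Z g := by
  refine ⟨⟨fun Z g => P Z g, fun {Z Z'} g hg k => hP Z Z' g k hg⟩, ?_, fun Z g hg => hg⟩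
  intro x hx
  obtain ⟨V, hV, hxV, hP⟩ := h x hx
  exact ⟨V, homOfLE hV, hP, hxV⟩

lemma gen_of_lgenI_top {N : SheafOfModules.{u} R} {I : Type u}
    (s : I → N.val.obj (op (⊤ : Opens T))) (h : LGenI N ⊤ s) : K919.QCSite.Gen (fun j => topSec N (s j)) := by
  intro Y t
  refine exists_sieve_top Y (fun Z g => ∃ c : I →₀ R.obj.obj (op Z),
    N.val.restrictₛₗ g.op t = lc (fun j => topSec N (s j)) Z c) ?_ ?_
  · rintro Z Z' g k ⟨c, hc⟩
    refine ⟨rc k c, ?_⟩
    rw [lc_rc, ← hc]
    exact N.val.map_comp_apply g.op k.op t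
  · intro x hx
    obtain ⟨V', h', hxV', c, hc⟩ := h Y le_top t x hx
    exact ⟨V', h', hxV', c, hc⟩

/-- The section of the free module with given coordinates. -/
def freeSecTop {I : Type u} (r : I →₀ R.obj.obj (op (⊤ : Opens T))) :
    (SheafOfModules.free (R := R) I).sections :=
  ⟨fun Y => lc (fun j : I => SheafOfModules.freeSection (R := R) j) Y.unop
    (r.mapRange (rr (show Y.unop ≤ ⊤ from le_top)) (map_zero _)), by
    intro Y Z f
    have h := lc_rc (fun j : I => SheafOfModules.freeSection (R := R) j) f.unop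
      (r.mapRange (rr (show Y.unop ≤ ⊤ from le_top)) (map_zero _))
    refine h.symm.trans ?_
    congr 1
    ext j
    exact rr_rr _ _ _⟩

lemma sec_freeSecTop {I : Type u} (r : I →₀ R.obj.obj (op (⊤ : Opens T))) (Y : (Opens T)ᵒᵖ) :
    sec (freeSecTop r) Y = lc (fun j : I => SheafOfModules.freeSection (R := R) j) Y.unop
    (r.mapRange (rr (show Y.unop ≤ ⊤ from le_top)) (map_zero _)) := rfl

lemma rel_of_lrelI_top {N : SheafOfModules.{u} R} {I K : Type u}
    (s : I → N.val.obj (op (⊤ : Opens T))) (r : K → I →₀ R.obj.obj (op (⊤ : Opens T))) (h : LRelI N ⊤ s r) :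
    K919.QCSite.Rel (fun j => topSec N (s j)) (fun k => freeSecTop (r k)) := by
  classical
  constructor
  · intro k Y
    rw [sec_freeSecTop, map_lc_free, lc_topSec]
    have h1 := congrArg (rs N (show Y.unop ≤ ⊤ from le_top)) (h.1 k)
    rw [rs_lcr, map_zero] at h1
    exact h1
  · intro Y c hc
    rw [lc_topSec] at hc
    refine exists_sieve_top Y (fun Z g => ∃ d : K →₀ R.obj.obj (op Z),
      lc (fun j : I => SheafOfModules.freeSection (R := R) j) Z (rc g c) =
        lc (fun k => freeSecTop (r k)) Z d) ?_ ?_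
    · rintro Z Z' g k ⟨d, hd⟩
      refine ⟨rc k d, ?_⟩
      rw [lc_rc, lc_rc, ← hd, lc_rc]
      exact (SheafOfModules.free (R := R) I).val.map_comp_apply g.op k.op _
    · intro x hx
      obtain ⟨V', h', hxV', d, hd⟩ := h.2 Y le_top c hc x hx
      refine ⟨V', h', hxV', d, ?_⟩
      apply ext_co
      intro j
      rw [co_lc, co_lc']
      refine (hd j).trans ?_
      refine Finset.sum_congr rfl fun k _ => ?_
      refine congrArg (fun z : R.obj.obj (op V') => d k * z) ?_
      rw [sec_freeSecTop, co_lc]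
      rfl

/-- A module with global generators and relations is a cokernel of free modules. -/
theorem exists_cokernel_free {N : SheafOfModules.{u} R} {I K : Type u} (s : I → N.val.obj (op (⊤ : Opens T)))
    (r : K → I →₀ R.obj.obj (op (⊤ : Opens T))) (hs : LGenI N ⊤ s) (hr : LRelI N ⊤ s r) :
    ∃ (α β : Type u) (φ : (SheafOfModules.free α : SheafOfModules.{u} R) ⟶ SheafOfModules.free β),
      Nonempty (cokernel φ ≅ N) := by
  obtain ⟨P⟩ := presentation_of_gen_rel _ _ (gen_of_lgenI_top s hs) (rel_of_lrelI_top s r hr)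
  exact ⟨_, _, _, ⟨(cokernelIsCokernel _).coconePointUniqueUpToIso P.isColimit⟩⟩

end K181.Good
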