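import Groth.Agent.FSch.K181.IndCoh
import Groth.Agent.FSch.K181.TopPres
import Groth.Agent.FSch.K180.FSchCls

/-!
# The class of (ind-)coherent modules on a locally Noetherian formal scheme; free modules
-/

set_option autoImplicit false
set_option linter.style.haveILetI false
universe u

open CategoryTheory TopologicalSpace Opposite TensorProduct AlgebraicGeometry CategoryTheory.Limits

noncomputable section

namespace K181.Good

open K29.RSec K181.BC K181.Pre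

variable {T : TopCat.{u}} {R : Sheaf (Opens.grothendieckTopology T) CommRingCat.{u}}

/-- The structure sheaf is cartesian with finitely generated sections. -/
theorem cartF_unit (𝔅 : GoodCov R) {U : Opens T} (hU : U ∈ 𝔅.B) : CartF 𝔅 (ModSite.unit R) U := by
  refine ⟨⟨hU, fun V hV hVU => ?_⟩, ?_⟩
  · let f : O R U →ₛₗ[resO (R := R) hVU] O R V :=
      { toFun := resO hVU
        map_add' := map_add _
        map_smul' := fun a b => map_mul _ a b }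
    exact IsBC.self (σ := resO (R := R) hVU) f fun _ => rfl
  · exact inferInstanceAs (Module.Finite (O R U) (O R U))

end K181.Good

namespace K181.Formal

open K29.RSec K181.BC K181.Pre K181.Good K29.RPres

variable {𝔛 : FSch.Sys.{u}} (h𝔛 : 𝔛.IsLocNoethFormal)

theorem qcFacts : K180.FSchCls.QCFacts 𝔛 h𝔛 where
  qc_of_ind _ h := isQuasicoherent_of_indCoh h𝔛 h
  ker_im_coker φ := ⟨isQuasicoherent_kernel (fcov h𝔛) φ ‹_› ‹_›, isQuasicoherent_image (fcov h𝔛) φ ‹_› ‹_›,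
    isQuasicoherent_cokernel (fcov h𝔛) φ ‹_› ‹_›⟩
  sub h _ ι _ := isFinitePresentation_of_mono (fcov h𝔛) (fun _ hU => isNoetherianRing_O h𝔛 hU) h ‹_› ι
  quot h _ π _ := isFinitePresentation_of_epi (fcov h𝔛) (fun _ hU => isNoetherianRing_O h𝔛 hU) h ‹_› π

theorem cohCls : K180.IndUnion.CohCls (fun 𝔊 : FSch.ModF 𝔛 h𝔛.1 => FSch.IsCohF 𝔛 h𝔛.1 𝔊) :=
  K180.FSchCls.cohCls (qcFacts h𝔛)

theorem isCohF_iff {𝔉 : FSch.ModF 𝔛 h𝔛.1} : FSch.IsCohF 𝔛 h𝔛.1 𝔉 ↔ ∀ x, ∃ U : (𝔛.X 0).Opens, x ∈ U ∧ CartF (fcov h𝔛) 𝔉 U :=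
  fp_iff (fcov h𝔛) (fun _ hU => isNoetherianRing_O h𝔛 hU) 𝔉

theorem isCohF_unit : FSch.IsCohF 𝔛 h𝔛.1 (FSch.unitF 𝔛 h𝔛.1) :=
  (isCohF_iff h𝔛).2 fun x => by
    obtain ⟨U, hU, hxU, -⟩ := (fcov h𝔛).exists_mem (show x ∈ (⊤ : Opens (𝔛.X 0)) from trivial)
    exact ⟨U, hxU, cartF_unit (fcov h𝔛) hU⟩

theorem indCoh_free (α : Type u) : IndCoh h𝔛 (SheafOfModules.free α : FSch.ModF 𝔛 h𝔛.1) :=
  (cohCls h𝔛).ind_sigma _ fun _ => indCoh_of_coh h𝔛 (isCohF_unit h𝔛)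

/-- Cokernels of maps of free modules are ind-coherent. -/
theorem indCoh_of_cokernel_free {α β : Type u} (φ : (SheafOfModules.free α : FSch.ModF 𝔛 h𝔛.1) ⟶ SheafOfModules.free β) :
    IndCoh h𝔛 (cokernel φ) := (cohCls h𝔛).ind_cokernel φ (indCoh_free h𝔛 α) (indCoh_free h𝔛 β)

/-- Ind-coherent modules on an affine formal scheme are cokernels of maps of free modules. -/
theorem exists_cokernel_free_of_cart {𝔉 : FSch.ModF 𝔛 h𝔛.1} (h : Cart (fcov h𝔛) 𝔉 ⊤) :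
    ∃ (α β : Type u) (φ : (SheafOfModules.free α : FSch.ModF 𝔛 h𝔛.1) ⟶ SheafOfModules.free β),
      Nonempty (cokernel φ ≅ 𝔉) := by
  obtain ⟨I, K, s, r, hs, hr⟩ := exists_pres_of_cart h
  exact exists_cokernel_free (R := ModSite.ringSh (𝔛.Osh h𝔛.1)) s r ((genI_iff _ _ _).1 hs) ((relI_iff _ _ _ _).1 hr)

theorem indCoh_of_iso {𝔉 𝔊 : FSch.ModF 𝔛 h𝔛.1} (e : 𝔉 ≅ 𝔊) (h : IndCoh h𝔛 𝔉) : IndCoh h𝔛 𝔊 :=
  (ObjectProperty.ind.{u} fun 𝔊 : FSch.ModF 𝔛 h𝔛.1 => FSch.IsCohF 𝔛 h𝔛.1 𝔊).prop_of_iso e h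

end K181.Formal
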