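import Groth.Agent.FSch.K181.Pres

/-!
# Modules of finite presentation and cartesian modules with finitely generated sections

`CartF 𝔅 F U`: `F` is cartesian on `U` and `F(U)` is a finitely generated `O(U)`-module.

* `exists_cartF_of_fp`: a module of finite presentation is `CartF` on all small members of the basis;
* `fp_of_cartF`, `fp_iff`: conversely when the rings `O(U)`, `U ∈ B`, are Noetherian.
-/

set_option autoImplicit false
set_option linter.style.haveILetI false
universe u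

open CategoryTheory TopologicalSpace Opposite TensorProduct CategoryTheory.Limits

noncomputable section

namespace K181.Good

open K29.RSec K29.RExact K29.RPres K181.BC K181.Pre

variable {T : TopCat.{u}} {R : Sheaf (Opens.grothendieckTopology T) CommRingCat.{u}}

/-- `F` is cartesian on `U` with finitely generated sections. -/
def CartF (𝔅 : GoodCov R) (F : Mod R) (U : Opens T) : Prop := Cart 𝔅 F U ∧ Module.Finite (O R U) (Sec F U)

theorem lin_fin (F : Mod R) {U V : Opens T} (h : V ≤ U) {n : ℕ} (s : Fin n → Sec F U)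
    (c : ULift.{u} (Fin n) →₀ O R V) : lin F h (fun i : ULift.{u} (Fin n) => s i.down) c =
      ∑ j, c ⟨j⟩ • res F h (s j) := by
  rw [lin_eq]
  refine (Finsupp.sum_fintype c (fun j a => a • res F h (s j.down)) (fun i => zero_smul _ _)).trans ?_
  exact Fintype.sum_equiv Equiv.ulift _ _ fun i => rfl

theorem genI_of_gen {F : Mod R} {U : Opens T} {n : ℕ} {s : Fin n → Sec F U} (h : Gen F U s) :
    GenI F U (fun i : ULift.{u} (Fin n) => s i.down) := by
  intro V hV t x hx
  obtain ⟨V', h', hxV', c, hc⟩ := h V hV t x hx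
  refine ⟨V', h', hxV', Finsupp.equivFunOnFinite.symm fun i => c i.down, ?_⟩
  rw [lin_fin, hc]
  rfl

theorem gen_of_genI {F : Mod R} {U : Opens T} {n : ℕ} {s : Fin n → Sec F U}
    (h : GenI F U (fun i : ULift.{u} (Fin n) => s i.down)) : Gen F U s := by
  intro V hV t x hx
  obtain ⟨V', h', hxV', c, hc⟩ := h V hV t x hx
  rw [lin_fin] at hc
  exact ⟨V', h', hxV', fun j => c ⟨j⟩, hc⟩

theorem relI_of_rel {F : Mod R} {U : Opens T} {n m : ℕ} {s : Fin n → Sec F U} {r : Fin m → Fin n → O R U}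
    (h : Rel F U s r) : RelI F U (fun i : ULift.{u} (Fin n) => s i.down)
      (fun k : ULift.{u} (Fin m) => Finsupp.equivFunOnFinite.symm fun i : ULift.{u} (Fin n) => r k.down i.down) := by
  refine ⟨fun k => ?_, fun V hV c hc x hx => ?_⟩
  · rw [lin_fin, ← h.1 k.down]
    refine Finset.sum_congr rfl fun j _ => ?_
    rw [res_self]
    rfl
  · rw [lin_fin] at hc
    obtain ⟨V', h', hxV', d, hd⟩ := h.2 V hV (fun j => c ⟨j⟩) hc x hx
    refine ⟨V', h', hxV', Finsupp.equivFunOnFinite.symm fun k : ULift.{u} (Fin m) => d k.down, fun j => ?_⟩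
    rw [Finsupp.sum_fintype _ _ (fun i => zero_mul _)]
    refine (hd j.down).trans ?_
    exact (Fintype.sum_equiv Equiv.ulift _ _ fun i => rfl).symm

theorem rel_of_relI {F : Mod R} {U : Opens T} {n m : ℕ} {s : Fin n → Sec F U} 
    {r : ULift.{u} (Fin m) → ULift.{u} (Fin n) →₀ O R U}
    (h : RelI F U (fun i : ULift.{u} (Fin n) => s i.down) r) : Rel F U s fun k j => r ⟨k⟩ ⟨j⟩ := by
  refine ⟨fun k => ?_, fun V hV c hc x hx => ?_⟩
  · rw [← h.1 ⟨k⟩, lin_fin]
    refine Finset.sum_congr rfl fun j _ => ?_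
    rw [res_self]
  · obtain ⟨V', h', hxV', d, hd⟩ := h.2 V hV (Finsupp.equivFunOnFinite.symm fun i => c i.down) (by
      rw [lin_fin]; exact hc) x hx
    refine ⟨V', h', hxV', fun k => d ⟨k⟩, fun j => ?_⟩
    refine (hd ⟨j⟩).trans ?_
    rw [Finsupp.sum_fintype _ _ (fun i => zero_mul _)]
    exact Fintype.sum_equiv Equiv.ulift _ _ fun i => rfl

variable {𝔅 : GoodCov R} {F : Mod R}

theorem CartF.cart {U : Opens T} (h : CartF 𝔅 F U) : Cart 𝔅 F U := h.1

theorem CartF.finite {U : Opens T} (h : CartF 𝔅 F U) : Module.Finite (O R U) (Sec F U) := h.2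

theorem CartF.mono {U V : Opens T} (h : CartF 𝔅 F U) (hV : V ∈ 𝔅.B) (hVU : V ≤ U) : CartF 𝔅 F V := by
  refine ⟨h.1.mono hV hVU, ?_⟩
  have : Module.Finite (O R U) ((PM.ofMod F).S U) := h.2
  exact (h.1.2 V hV hVU).finite

/-- Modules of finite presentation are cartesian with finitely generated sections on small opens. -/
theorem exists_cartF_of_fp (𝔅 : GoodCov R) (F : Mod R)
    (hF : SheafOfModules.IsFinitePresentation (R := ModSite.ringSh R) F) (x : T) :
    ∃ (W : Opens T) (_ : x ∈ W), ∀ V ∈ 𝔅.B, V ≤ W → CartF 𝔅 F V := by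
  rw [Groth.Agent.Gaga.H976.TM3.isFinitePresentation_iff] at hF
  obtain ⟨W, hW, n, m, s, r, hs, hr⟩ := (fpAt_iff F x).1 (hF x)
  refine ⟨W, hW, fun V hV hVW => ?_⟩
  have h1 := genI_of_gen (hs.res hVW)
  have h2 := relI_of_rel (hr.res hVW)
  refine ⟨cart_of_pres hV h1 h2, ?_⟩
  have h3 := span_eq_top_of_pres hV h1 h2
  exact ⟨⟨(Set.finite_range _).toFinset, by rw [Set.Finite.coe_toFinset]; exact h3⟩⟩

theorem exists_cartF_of_fp' (𝔅 : GoodCov R) (F : Mod R)
    (hF : SheafOfModules.IsFinitePresentation (R := ModSite.ringSh R) F) (x : T) :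
    ∃ U : Opens T, x ∈ U ∧ CartF 𝔅 F U := by
  obtain ⟨W, hxW, h⟩ := exists_cartF_of_fp 𝔅 F hF x
  obtain ⟨V, hV, hxV, hVW⟩ := 𝔅.exists_mem hxW
  exact ⟨V, hxV, h V hV hVW⟩

theorem fp_of_cartF (h : ∀ x : T, ∃ U : Opens T, x ∈ U ∧ CartF 𝔅 F U ∧ IsNoetherianRing (O R U)) :
    SheafOfModules.IsFinitePresentation (R := ModSite.ringSh R) F := by
  rw [Groth.Agent.Gaga.H976.TM3.isFinitePresentation_iff]
  intro x
  obtain ⟨U, hxU, ⟨hc, hf⟩, hN⟩ := h x
  obtain ⟨n, s, hs⟩ := Module.Finite.exists_fin (R := O R U) (M := Sec F U)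
  have hs' : Submodule.span (O R U) (Set.range fun i : ULift.{u} (Fin n) => s i.down) = ⊤ := by
    rw [← hs]
    congr 1
    exact (Equiv.ulift.surjective.range_comp s)
  obtain ⟨m, r, hr⟩ := Submodule.fg_iff_exists_fin_generating_family.1
    (IsNoetherian.noetherian (LinearMap.ker (Finsupp.linearCombination (O R U)
      (fun i : ULift.{u} (Fin n) => s i.down))))
  have hr' : Submodule.span (O R U) (Set.range fun k : ULift.{u} (Fin m) => r k.down) =
      LinearMap.ker (Finsupp.linearCombination (O R U) (fun i : ULift.{u} (Fin n) => s i.down)) := by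
    rw [← hr]
    congr 1
    exact (Equiv.ulift.surjective.range_comp r)
  exact (fpAt_iff F x).2 ⟨U, hxU, n, m, s, _, gen_of_genI (gen_of_cart hc hs'), rel_of_relI (rel_of_cart hc hs' hr')⟩

theorem fp_iff (𝔅 : GoodCov R) (hN : ∀ U ∈ 𝔅.B, IsNoetherianRing (O R U)) (F : Mod R) :
    SheafOfModules.IsFinitePresentation (R := ModSite.ringSh R) F ↔ ∀ x : T, ∃ U : Opens T, x ∈ U ∧ CartF 𝔅 F U :=
  ⟨exists_cartF_of_fp' 𝔅 F, fun h => fp_of_cartF fun x => by
    obtain ⟨U, hxU, hU⟩ := h x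
    exact ⟨U, hxU, hU, hN U hU.1.mem⟩⟩

theorem CartF.of_iso {G : Mod R} (e : F ≅ G) {U : Opens T} (h : CartF 𝔅 F U) : CartF 𝔅 G U := by
  refine ⟨h.1.of_iso e, ?_⟩
  have := h.2
  refine Module.Finite.of_surjective (app e.hom U) fun t => ⟨app e.inv U t, ?_⟩
  rw [← app_comp, e.inv_hom_id]
  rfl

/-- A cartesian submodule of a coherent module is coherent. -/
theorem CartF.of_mono {G : Mod R} (φ : G ⟶ F) [Mono φ] {U : Opens T} [IsNoetherianRing (O R U)] (h : CartF 𝔅 F U)
    (hG : Cart 𝔅 G U) : CartF 𝔅 G U := by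
  refine ⟨hG, ?_⟩
  have := h.2
  exact Module.Finite.of_injective (app φ U) (app_injective φ U)

/-- A cartesian quotient of a coherent module is coherent. -/
theorem CartF.of_epi {G : Mod R} (φ : F ⟶ G) [Epi φ] {U : Opens T} (h : CartF 𝔅 F U)
    (hG : Cart 𝔅 G U) : CartF 𝔅 G U := by
  refine ⟨hG, ?_⟩
  have := h.2
  have hS : (ShortComplex.mk (kernel.ι φ) φ (kernel.condition φ)).ShortExact :=
    ⟨ShortComplex.exact_of_f_is_kernel _ (kernelIsKernel φ)⟩
  exact Module.Finite.of_surjective (app φ U) (surjective_app hS (Cart.kernel φ h.1 hG) h.1.mem le_rfl)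

theorem CartF.ext {S : ShortComplex (Mod R)} (hS : S.ShortExact) {U : Opens T} (h1 : CartF 𝔅 S.X₁ U)
    (h3 : CartF 𝔅 S.X₃ U) : CartF 𝔅 S.X₂ U := by
  have := hS.mono_f
  refine ⟨Cart.ext hS h1.1 h3.1, ?_⟩
  have i1 := h1.2
  have i3 := h3.2
  have hex := exact_app hS.exact U
  have hsurj := surjective_app hS h1.1 h1.1.mem le_rfl
  exact Module.Finite.of_exact hex hsurj

end K181.Good
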