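import Groth.Agent.FSch.K181.Good
import Groth.Agent.FCompl.K29.RStalk
import Mathlib.Topology.Sheaves.Skyscraper
import Mathlib.Algebra.Category.Grp.FilteredColimits
import Mathlib.CategoryTheory.Limits.ConcreteCategory.Filtered

/-!
# Filtered colimits of sheaves of modules, elementwise, and cartesian sheaves

* `exists_local_rep`, `exists_local_eq_zero`: local descriptions of sections of a filtered colimit;
* `exists_eq_zero`: over a quasi-compact open;
* `exists_rep`: over a member of a good basis;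
* `Cart.colim`: filtered colimits of cartesian sheaves are cartesian.
-/

set_option autoImplicit false
set_option linter.style.haveILetI false
universe u

open CategoryTheory TopologicalSpace Opposite TensorProduct CategoryTheory.Limits

noncomputable section

namespace K181.Good

open K29.RSec K29.RStalk K29.RExact K181.BC K181.Pre

variable {T : TopCat.{u}} {R : Sheaf (Opens.grothendieckTopology T) CommRingCat.{u}}

variable (R) in
/-- The stalk functor. -/
def stalkF (x : T) : Mod R ⥤ AddCommGrpCat.{u} :=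
  SheafOfModules.toSheaf.{u} (ModSite.ringSh R) ⋙ TopCat.Sheaf.forget AddCommGrpCat.{u} T ⋙
    TopCat.Presheaf.stalkFunctor AddCommGrpCat.{u} x

instance preservesColimitsOfShape_toSheaf (J : Type u) [SmallCategory J] :
    PreservesColimitsOfShape J (SheafOfModules.toSheaf.{u} (ModSite.ringSh R)) :=
  Groth.Agent.CycB.StalkExact.toSheaf_preservesColimitsOfShape (ModSite.ringSh R) J

instance preservesColimitsOfShape_stalkF (J : Type u) [SmallCategory J] (x : T) :
    PreservesColimitsOfShape J (stalkF R x) := by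
  have h : PreservesColimitsOfSize.{u, u} (TopCat.Sheaf.forget AddCommGrpCat.{u} T ⋙
      TopCat.Presheaf.stalkFunctor AddCommGrpCat.{u} x) := by
    classical
    exact (stalkSkyscraperSheafAdjunction (C := AddCommGrpCat.{u}) (X := T) x).leftAdjoint_preservesColimits
  have h' := h.preservesColimitsOfShape (J := J)
  exact @comp_preservesColimitsOfShape _ _ _ _ _ _ _ _ (SheafOfModules.toSheaf.{u} (ModSite.ringSh R))
    (TopCat.Sheaf.forget AddCommGrpCat.{u} T ⋙ TopCat.Presheaf.stalkFunctor AddCommGrpCat.{u} x) inferInstance h'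

theorem stalkF_map_gm {M N : Mod R} (φ : M ⟶ N) (x : T) {V : Opens T} (hx : x ∈ V) (m : Sec M V) :
    (stalkF R x).map φ (gm M x V hx m) = gm N x V hx (app φ V m) :=
  TopCat.Presheaf.stalkFunctor_map_germ_apply V x hx _ _

/-- The inclusion of a term of a diagram in the colimit. -/
def inj {J : Type*} [Category J] {D : J ⥤ Mod R} (c : Cocone D) (j : J) : D.obj j ⟶ c.pt := c.ι.app j

theorem map_inj {J : Type*} [Category J] {D : J ⥤ Mod R} (c : Cocone D) {j k : J} (φ : j ⟶ k) :
    D.map φ ≫ inj c k = inj c j := c.w φ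

section Colim

variable {J : Type u} [SmallCategory J] [IsFiltered J] {D : J ⥤ Mod R} {c : Cocone D} (hc : IsColimit c)

include hc

theorem exists_local_rep {V : Opens T} (s : Sec c.pt V) (x : T) (hx : x ∈ V) :
    ∃ (j : J) (W : Opens T) (_ : x ∈ W) (hW : W ≤ V) (t : Sec (D.obj j) W),
      app (inj c j) W t = res c.pt hW s := by
  obtain ⟨j, t, ht⟩ := Concrete.isColimit_exists_rep _ (isColimitOfPreserves (stalkF R x) hc) (gm c.pt x V hx s)
  obtain ⟨W, hxW, m, rfl⟩ := exists_gm (D.obj j) x t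
  have ht' : gm c.pt x W hxW (app (inj c j) W m) = gm c.pt x V hx s := (stalkF_map_gm (inj c j) x hxW m).symm.trans ht
  have hxWV : x ∈ W ⊓ V := ⟨hxW, hx⟩
  have e : gm c.pt x (W ⊓ V) hxWV (res c.pt inf_le_left (app (inj c j) W m)) =
      gm c.pt x (W ⊓ V) hxWV (res c.pt inf_le_right s) := by
    rw [gm_res, gm_res, ht']
  obtain ⟨W', hxW', hW', e'⟩ := exists_res_eq c.pt _ e
  rw [res_res, res_res] at e'
  exact ⟨j, W', hxW', hW'.trans inf_le_right, res _ (hW'.trans inf_le_left) m, by rw [app_res, e']⟩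

theorem exists_local_eq_zero {V : Opens T} {j : J} (t : Sec (D.obj j) V) (ht : app (inj c j) V t = 0)
    (x : T) (hx : x ∈ V) :
    ∃ (k : J) (φ : j ⟶ k) (W : Opens T) (_ : x ∈ W) (hW : W ≤ V), res _ hW (app (D.map φ) V t) = 0 := by
  have e : (stalkF R x).map (inj c j) (gm (D.obj j) x V hx t) =
      (stalkF R x).map (inj c j) (0 : St (D.obj j) x) :=
    (stalkF_map_gm _ _ _ _).trans (((congrArg _ ht).trans (map_zero _)).trans
      (map_zero ((stalkF R x).map (inj c j)).hom).symm)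
  obtain ⟨k, φ, ψ, e'⟩ := Concrete.isColimit_exists_of_rep_eq _ (isColimitOfPreserves (stalkF R x) hc) _ _ e
  have e2 : gm (D.obj k) x V hx (app (D.map φ) V t) = 0 :=
    (stalkF_map_gm _ _ _ _).symm.trans (e'.trans (map_zero ((stalkF R x).map (D.map ψ)).hom))
  obtain ⟨W, hxW, hW, e3⟩ := exists_res_eq_zero _ hx e2
  exact ⟨k, φ, W, hxW, hW, e3⟩

theorem exists_eq_zero {V : Opens T} (hV : IsCompact (V : Set T)) {j : J} (t : Sec (D.obj j) V)
    (ht : app (inj c j) V t = 0) : ∃ (k : J) (φ : j ⟶ k), app (D.map φ) V t = 0 := by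
  choose k φ W hxW hW h0 using fun x : V => exists_local_eq_zero hc t ht x.1 x.2
  obtain ⟨S, hS⟩ := hV.elim_finite_subcover (fun x : V => (W x : Set T)) (fun x => (W x).isOpen)
    (fun x hx => Set.mem_iUnion.2 ⟨⟨x, hx⟩, hxW _⟩)
  classical
  obtain ⟨l, φl, hl⟩ : ∃ (l : J) (φl : j ⟶ l), ∀ x ∈ S, ∃ ψ : k x ⟶ l, φ x ≫ ψ = φl := by
    clear hS
    induction S using Finset.induction_on with
    | empty => exact ⟨j, 𝟙 j, fun x hx => absurd hx (Finset.notMem_empty x)⟩
    | insert a S ha ih =>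
      obtain ⟨l, φl, hl⟩ := ih
      obtain ⟨m, a1, a2, ham⟩ := IsFiltered.span (φ a) φl
      refine ⟨m, φ a ≫ a1, fun x hx => ?_⟩
      rw [Finset.mem_insert] at hx
      rcases hx with rfl | hx
      · exact ⟨a1, rfl⟩
      · obtain ⟨ψ, hψ⟩ := hl x hx
        exact ⟨ψ ≫ a2, by rw [← Category.assoc, hψ, ham]⟩
  refine ⟨l, φl, ?_⟩
  refine eq_of_locally (D.obj l) (fun x : S => W x.1) V ?_ (fun x => hW x.1) _ _ fun x => ?_
  · intro y hy
    obtain ⟨x, hx, hyx⟩ := Set.mem_iUnion₂.1 (hS hy)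
    exact Opens.mem_iSup.2 ⟨⟨x, hx⟩, hyx⟩
  · obtain ⟨ψ, hψ⟩ := hl x.1 x.2
    rw [map_zero, ← hψ, D.map_comp, app_comp, ← app_res, h0, map_zero]

theorem exists_eq {V : Opens T} (hV : IsCompact (V : Set T)) {j j' : J} (t : Sec (D.obj j) V) (t' : Sec (D.obj j') V)
    (ht : app (inj c j) V t = app (inj c j') V t') :
    ∃ (k : J) (φ : j ⟶ k) (φ' : j' ⟶ k), app (D.map φ) V t = app (D.map φ') V t' := by
  have e : app (inj c (IsFiltered.max j j')) V
      (app (D.map (IsFiltered.leftToMax j j')) V t - app (D.map (IsFiltered.rightToMax j j')) V t') = 0 := by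
    rw [map_sub, ← app_comp, ← app_comp, map_inj, map_inj, ht, sub_self]
  obtain ⟨k, φ, h⟩ := exists_eq_zero hc hV _ e
  refine ⟨k, IsFiltered.leftToMax j j' ≫ φ, IsFiltered.rightToMax j j' ≫ φ, ?_⟩
  rw [map_sub, sub_eq_zero] at h
  rw [D.map_comp, D.map_comp, app_comp, app_comp, h]

/-- Sections of a filtered colimit over a quasi-compact member of a basis stable under some intersections. -/
theorem exists_rep {V : Opens T}
    (h : ∀ {κ : Type u} (W : κ → Opens T), iSup W = V → ∃ (ι : Type u) (_ : Finite ι) (W' : ι → Opens T),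
      iSup W' = V ∧ (∀ i, ∃ k, W' i ≤ W k) ∧ ∀ i i', IsCompact ((W' i ⊓ W' i' : Opens T) : Set T))
    (s : Sec c.pt V) : ∃ (j : J) (t : Sec (D.obj j) V), app (inj c j) V t = s := by
  choose j W hxW hW t ht using fun x : V => exists_local_rep hc s x.1 x.2
  obtain ⟨ι, hι, W', hW'1, hW'2, hW'3⟩ := h W (le_antisymm (iSup_le hW)
    fun x hx => Opens.mem_iSup.2 ⟨⟨x, hx⟩, hxW _⟩)
  choose r hr using hW'2
  have hle : ∀ i, W' i ≤ V := fun i => (le_iSup W' i).trans hW'1.le
  classical
  cases nonempty_fintype ι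
  -- a common index
  obtain ⟨j0, hj0⟩ := IsFiltered.sup_objs_exists (Finset.univ.image fun i => j (r i))
  have hj0' : ∀ i, Nonempty (j (r i) ⟶ j0) := fun i => hj0 (Finset.mem_image_of_mem _ (Finset.mem_univ i))
  let a : ∀ i, j (r i) ⟶ j0 := fun i => (hj0' i).some
  obtain ⟨t0, ht0⟩ : ∃ t0 : ∀ i, Sec (D.obj j0) (W' i), ∀ i, app (inj c j0) _ (t0 i) = res c.pt (hle i) s :=
    ⟨fun i => app (D.map (a i)) _ (res _ (hr i) (t (r i))), fun i => by
      rw [← app_comp, map_inj, app_res, ht, res_res]⟩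
  -- compatible after moving to a later index
  have hc2 : ∀ p : ι × ι, ∃ (k : J) (φ : j0 ⟶ k), app (D.map φ) (W' p.1 ⊓ W' p.2)
      (res _ inf_le_left (t0 p.1) - res _ inf_le_right (t0 p.2)) = 0 := by
    intro p
    refine exists_eq_zero hc (hW'3 p.1 p.2) _ ?_
    rw [map_sub, app_res, app_res, ht0, ht0, res_res, res_res, sub_self]
  choose k φ hk using hc2
  obtain ⟨l, φl, hl⟩ : ∃ (l : J) (φl : j0 ⟶ l), ∀ p, ∃ ψ : k p ⟶ l, φ p ≫ ψ = φl := by
    have : ∀ S : Finset (ι × ι), ∃ (l : J) (φl : j0 ⟶ l), ∀ x ∈ S, ∃ ψ : k x ⟶ l, φ x ≫ ψ = φl := by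
      intro S
      induction S using Finset.induction_on with
      | empty => exact ⟨j0, 𝟙 j0, fun x hx => absurd hx (Finset.notMem_empty x)⟩
      | insert a S ha ih =>
        obtain ⟨l, φl, hl⟩ := ih
        obtain ⟨m, a1, a2, ham⟩ := IsFiltered.span (φ a) φl
        refine ⟨m, φ a ≫ a1, fun x hx => ?_⟩
        rw [Finset.mem_insert] at hx
        rcases hx with rfl | hx
        · exact ⟨a1, rfl⟩
        · obtain ⟨ψ, hψ⟩ := hl x hx
          exact ⟨ψ ≫ a2, by rw [← Category.assoc, hψ, ham]⟩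
    obtain ⟨l, φl, hl⟩ := this Finset.univ
    exact ⟨l, φl, fun p => hl p (Finset.mem_univ p)⟩
  have hcomp : ∀ i i', res _ (inf_le_left : W' i ⊓ W' i' ≤ W' i) (app (D.map φl) _ (t0 i)) =
      res _ inf_le_right (app (D.map φl) _ (t0 i')) := by
    intro i i'
    obtain ⟨ψ, hψ⟩ := hl (i, i')
    have e := hk (i, i')
    rw [map_sub, sub_eq_zero] at e
    rw [← app_res, ← app_res, ← hψ, D.map_comp, app_comp, app_comp]
    exact congrArg _ e
  obtain ⟨y, hy⟩ := exists_glue (D.obj l) W' V hW'1.ge hle (fun i => app (D.map φl) _ (t0 i)) fun i i' W hi hi' => by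
    rw [← res_res _ inf_le_left (le_inf hi hi'), ← res_res _ inf_le_right (le_inf hi hi'), hcomp]
  refine ⟨l, y, eq_of_locally c.pt W' V hW'1.ge hle _ _ fun i => ?_⟩
  rw [← app_res, hy, ← app_comp, map_inj, ht0]

variable {𝔅 : GoodCov R}

/-- Sections over a member of the basis commute with filtered colimits. -/
theorem exists_rep_of_mem {V : Opens T} (hV : V ∈ 𝔅.B) (s : Sec c.pt V) :
    ∃ (j : J) (t : Sec (D.obj j) V), app (inj c j) V t = s := by
  refine exists_rep hc (fun {κ} W hW => ?_) s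
  obtain ⟨ι, W', hW', hr⟩ := 𝔅.cov_refine V hV κ W hW
  exact ⟨ι, 𝔅.cov_fin hW', W', 𝔅.cov_sup hW', hr, fun i i' => 𝔅.compact _ (𝔅.cov_mem2 hV hW' i i')⟩

/-- Filtered colimits of cartesian sheaves are cartesian. -/
theorem Cart.colim {U : Opens T} (h : ∀ j, Cart 𝔅 (D.obj j) U) : Cart 𝔅 c.pt U := by
  obtain ⟨j0⟩ : Nonempty J := IsFiltered.nonempty
  refine ⟨(h j0).mem, fun V hV hVU => ?_⟩
  refine IsBC.of_filtered (Mj := fun j => Sec (D.obj j) U) (Nj := fun j => Sec (D.obj j) V)
    (fj := fun j => resS (D.obj j) hVU) (fun j => (h j).2 V hV hVU) (fun {j k} φ => app (D.map φ) U)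
    (fun {j k} φ => app (D.map φ) V) (fun j => app (inj c j) U) (fun j => app (inj c j) V)
    (fun {j k} φ m => ?_) (fun {j k} φ m => ?_) (fun j m => ?_) (fun m => exists_rep_of_mem hc (h j0).mem m)
    (fun m => exists_rep_of_mem hc hV m) (fun j n hn => exists_eq_zero hc (𝔅.compact V hV) n hn)
  · exact congrArg (fun f => app f U m) (map_inj c φ)
  · exact (app_res (D.map φ) hVU m).symm
  · exact (app_res (inj c j) hVU m).symm

end Colim

end K181.Good
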