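import Groth.Agent.FSch.K181.Formal

/-!
# Quasi-coherent and coherent modules on a locally Noetherian formal scheme: abelian operations
-/

set_option autoImplicit false
set_option linter.style.haveILetI false
universe u

open CategoryTheory TopologicalSpace Opposite TensorProduct AlgebraicGeometry CategoryTheory.Limits

noncomputable section

namespace K181.Good

open K29.RSec K181.BC K181.Pre

variable {T : TopCat.{u}} {R : Sheaf (Opens.grothendieckTopology T) CommRingCat.{u}} (𝔅 : GoodCov R)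

theorem exists_common_cart {F G : Mod R} (hF : SheafOfModules.IsQuasicoherent.{u} F)
    (hG : SheafOfModules.IsQuasicoherent.{u} G) (x : T) : ∃ U : Opens T, x ∈ U ∧ Cart 𝔅 F U ∧ Cart 𝔅 G U := by
  obtain ⟨W, hxW, h⟩ := exists_cart_of_qc 𝔅 F hF x
  obtain ⟨W', hxW', h'⟩ := exists_cart_of_qc 𝔅 G hG x
  obtain ⟨V, hV, hxV, hVW⟩ := 𝔅.exists_mem (show x ∈ W ⊓ W' from ⟨hxW, hxW'⟩)
  exact ⟨V, hxV, h V hV (hVW.trans inf_le_left), h' V hV (hVW.trans inf_le_right)⟩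

theorem exists_common_cartF {F G : Mod R} (hF : SheafOfModules.IsFinitePresentation (R := ModSite.ringSh R) F)
    (hG : SheafOfModules.IsQuasicoherent.{u} G) (x : T) : ∃ U : Opens T, x ∈ U ∧ CartF 𝔅 F U ∧ Cart 𝔅 G U := by
  obtain ⟨W, hxW, h⟩ := exists_cartF_of_fp 𝔅 F hF x
  obtain ⟨W', hxW', h'⟩ := exists_cart_of_qc 𝔅 G hG x
  obtain ⟨V, hV, hxV, hVW⟩ := 𝔅.exists_mem (show x ∈ W ⊓ W' from ⟨hxW, hxW'⟩)
  exact ⟨V, hxV, h V hV (hVW.trans inf_le_left), h' V hV (hVW.trans inf_le_right)⟩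

include 𝔅 in
theorem isQuasicoherent_kernel {F G : Mod R} (φ : F ⟶ G) (hF : SheafOfModules.IsQuasicoherent.{u} F)
    (hG : SheafOfModules.IsQuasicoherent.{u} G) : SheafOfModules.IsQuasicoherent.{u} (kernel φ) :=
  qc_of_cart (𝔅 := 𝔅) fun x => by
    obtain ⟨U, hxU, h1, h2⟩ := exists_common_cart 𝔅 hF hG x
    exact ⟨U, hxU, Cart.kernel φ h1 h2⟩

include 𝔅 in
theorem isQuasicoherent_image {F G : Mod R} (φ : F ⟶ G) (hF : SheafOfModules.IsQuasicoherent.{u} F)
    (hG : SheafOfModules.IsQuasicoherent.{u} G) : SheafOfModules.IsQuasicoherent.{u} (Abelian.image φ) :=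
  qc_of_cart (𝔅 := 𝔅) fun x => by
    obtain ⟨U, hxU, h1, h2⟩ := exists_common_cart 𝔅 hF hG x
    exact ⟨U, hxU, Cart.image φ h1 h2⟩

include 𝔅 in
theorem isQuasicoherent_cokernel {F G : Mod R} (φ : F ⟶ G) (hF : SheafOfModules.IsQuasicoherent.{u} F)
    (hG : SheafOfModules.IsQuasicoherent.{u} G) : SheafOfModules.IsQuasicoherent.{u} (cokernel φ) :=
  qc_of_cart (𝔅 := 𝔅) fun x => by
    obtain ⟨U, hxU, h1, h2⟩ := exists_common_cart 𝔅 hF hG x
    exact ⟨U, hxU, Cart.cokernel φ h1 h2⟩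

theorem isFinitePresentation_of_mono (hN : ∀ U ∈ 𝔅.B, IsNoetherianRing (O R U)) {F G : Mod R}
    (hF : SheafOfModules.IsFinitePresentation (R := ModSite.ringSh R) F)
    (hG : SheafOfModules.IsQuasicoherent.{u} G) (φ : G ⟶ F) [Mono φ] :
    SheafOfModules.IsFinitePresentation (R := ModSite.ringSh R) G := by
  rw [fp_iff 𝔅 hN]
  intro x
  obtain ⟨U, hxU, h1, h2⟩ := exists_common_cartF 𝔅 hF hG x
  have := hN U h2.mem
  exact ⟨U, hxU, CartF.of_mono φ h1 h2⟩

theorem isFinitePresentation_of_epi (hN : ∀ U ∈ 𝔅.B, IsNoetherianRing (O R U)) {F G : Mod R}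
    (hF : SheafOfModules.IsFinitePresentation (R := ModSite.ringSh R) F)
    (hG : SheafOfModules.IsQuasicoherent.{u} G) (φ : F ⟶ G) [Epi φ] :
    SheafOfModules.IsFinitePresentation (R := ModSite.ringSh R) G := by
  rw [fp_iff 𝔅 hN]
  intro x
  obtain ⟨U, hxU, h1, h2⟩ := exists_common_cartF 𝔅 hF hG x
  exact ⟨U, hxU, CartF.of_epi φ h1 h2⟩

end K181.Good
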