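import Groth.Agent.FSch.K181.QC

/-!
# Local generators of cartesian modules generate the sections; quasi-coherent modules of finite type
-/

set_option autoImplicit false
set_option linter.style.haveILetI false
universe u

open CategoryTheory TopologicalSpace Opposite TensorProduct AlgebraicGeometry CategoryTheory.Limits

noncomputable section

namespace K181.Good

open K29.RSec K29.RPres K181.BC K181.Pre

variable {T : TopCat.{u}} {R : Sheaf (Opens.grothendieckTopology T) CommRingCat.{u}} {𝔅 : GoodCov R}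

/-- If sections generate a cartesian module locally they generate its sections. -/
theorem span_eq_top_of_gen {F : Mod R} {U : Opens T} (h : Cart 𝔅 F U) {I : Type u} {s : I → Sec F U}
    (hs : GenI F U s) : Submodule.span (O R U) (Set.range s) = ⊤ := by
  rw [eq_top_iff]
  intro t _
  let N : Submodule (O R U) (Sec F U) := Submodule.span (O R U) (Set.range s)
  change t ∈ N
  rw [← Submodule.Quotient.mk_eq_zero N]
  choose W hWU hxW c hc using fun x : U => hs U le_rfl t x.1 x.2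
  obtain ⟨ι, W', hW', hr'⟩ := 𝔅.cov_refine U h.mem U W (le_antisymm (iSup_le hWU)
    fun x hx => Opens.mem_iSup.2 ⟨⟨x, hx⟩, hxW _⟩)
  -- the class of `t` in `O(U) ⊗ (F(U)/N)`
  have key : inTP R U (Sec F U ⧸ N) le_rfl (Submodule.Quotient.mk t) = 0 := by
    refine (cgood 𝔅 (cartOn_TP R U (Sec F U ⧸ N) 𝔅.B) h.mem hW').sep _ fun k => ?_
    obtain ⟨x, hx⟩ := hr' k
    have hkB : W' k ∈ 𝔅.B := 𝔅.cov_mem1 h.mem hW' k
    have hkU : W' k ≤ U := hx.trans (hWU x)
    -- the map `F(W' k) → O(W' k) ⊗ F(U)/N`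
    have hbc := h.2 (W' k) hkB hkU
    obtain ⟨g, hg⟩ : ∃ g : Sec F (W' k) →ₗ[O R (W' k)] (TP R U (Sec F U ⧸ N)).S (W' k),
        ∀ m : Sec F U, g (res F hkU m) = inTP R U (Sec F U ⧸ N) hkU (Submodule.Quotient.mk m) :=
      IsBC.exists_lift hbc ((inTP R U (Sec F U ⧸ N) hkU).comp N.mkQ)
    have e1 : (TP R U (Sec F U ⧸ N)).r (𝔅.cov_le hW' k) (inTP R U (Sec F U ⧸ N) le_rfl (Submodule.Quotient.mk t)) =
        inTP R U (Sec F U ⧸ N) hkU (Submodule.Quotient.mk t) := by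
      change (TP R U (Sec F U ⧸ N)).r _ ((1 : OA R U U) ⊗ₜ[O R U] _) = (1 : OA R U (W' k)) ⊗ₜ[O R U] _
      rw [TP_r_tmul, map_one]
    refine e1.trans ?_
    have e2 : g (res F hkU t) = inTP R U (Sec F U ⧸ N) hkU (Submodule.Quotient.mk t) := hg t
    rw [← e2, ← res_res F (hWU x) hx t, hc x, res_lin, lin_eq, Finsupp.sum, map_sum]
    refine Finset.sum_eq_zero fun j _ => ?_
    have e3 : g (res F hkU (s j)) = 0 := by
      refine (hg (s j)).trans ?_
      have : (Submodule.Quotient.mk (s j) : Sec F U ⧸ N) = 0 :=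
        (Submodule.Quotient.mk_eq_zero N).2 (Submodule.subset_span ⟨j, rfl⟩)
      rw [this, map_zero]
    rw [map_smul, e3, smul_zero]
  -- descend
  obtain ⟨g, hg⟩ := IsBC.exists_lift (isBC_inTP R U (Sec F U ⧸ N) (le_refl U))
    (Q := Sec F U ⧸ N) 
    { toFun := fun m => m
      map_add' := fun _ _ => rfl
      map_smul' := fun a m => by rw [resO_self] }
  have e := hg (Submodule.Quotient.mk t)
  rw [key, map_zero] at e
  exact e.symm

theorem finite_of_gen {F : Mod R} {U : Opens T} (h : Cart 𝔅 F U) {n : ℕ} {s : Fin n → Sec F U}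
    (hs : Gen F U s) : Module.Finite (O R U) (Sec F U) := by
  have h3 := span_eq_top_of_gen h (genI_of_gen hs)
  exact ⟨⟨(Set.finite_range _).toFinset, by rw [Set.Finite.coe_toFinset]; exact h3⟩⟩

/-- Quasi-coherent modules of finite type are of finite presentation. -/
theorem isFinitePresentation_of_isFiniteType (𝔅 : GoodCov R) (hN : ∀ U ∈ 𝔅.B, IsNoetherianRing (O R U)) {F : Mod R}
    (hF : SheafOfModules.IsQuasicoherent.{u} F) (hF' : SheafOfModules.IsFiniteType (R := ModSite.ringSh R) F) :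
    SheafOfModules.IsFinitePresentation (R := ModSite.ringSh R) F := by
  rw [fp_iff 𝔅 hN]
  intro x
  obtain ⟨W, hxW, h⟩ := exists_cart_of_qc 𝔅 F hF x
  rw [Groth.Agent.Gaga.H976.TM3.isFiniteType_iff] at hF'
  obtain ⟨W', hxW', n, s, hs⟩ := (ftAt_iff F x).1 (hF' x)
  obtain ⟨V, hV, hxV, hVW⟩ := 𝔅.exists_mem (show x ∈ W ⊓ W' from ⟨hxW, hxW'⟩)
  have hc := h V hV (hVW.trans inf_le_left)
  exact ⟨V, hxV, hc, finite_of_gen hc (hs.res (hVW.trans inf_le_right))⟩

/-- The middle term of an exact sequence of quasi-coherent modules. -/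
theorem isQuasicoherent_five (𝔅 : GoodCov R) {F₁ F₂ F₃ F₄ F₅ : Mod R} (a : F₁ ⟶ F₂) (b : F₂ ⟶ F₃) (c : F₃ ⟶ F₄)
    (d : F₄ ⟶ F₅) (hab : a ≫ b = 0) (hbc : b ≫ c = 0) (hcd : c ≫ d = 0) (h2 : (ShortComplex.mk a b hab).Exact)
    (h3 : (ShortComplex.mk b c hbc).Exact) (h4 : (ShortComplex.mk c d hcd).Exact)
    (k1 : SheafOfModules.IsQuasicoherent.{u} F₁) (k2 : SheafOfModules.IsQuasicoherent.{u} F₂)
    (k4 : SheafOfModules.IsQuasicoherent.{u} F₄) (k5 : SheafOfModules.IsQuasicoherent.{u} F₅) :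
    SheafOfModules.IsQuasicoherent.{u} F₃ :=
  qc_of_cart (𝔅 := 𝔅) fun x => by
    obtain ⟨W1, hx1, h1'⟩ := exists_cart_of_qc 𝔅 F₁ k1 x
    obtain ⟨W2, hx2, h2'⟩ := exists_cart_of_qc 𝔅 F₂ k2 x
    obtain ⟨W4, hx4, h4'⟩ := exists_cart_of_qc 𝔅 F₄ k4 x
    obtain ⟨W5, hx5, h5'⟩ := exists_cart_of_qc 𝔅 F₅ k5 x
    obtain ⟨V, hV, hxV, hVW⟩ := 𝔅.exists_mem (show x ∈ (W1 ⊓ W2) ⊓ (W4 ⊓ W5) from ⟨⟨hx1, hx2⟩, ⟨hx4, hx5⟩⟩)
    exact ⟨V, hxV, Cart.five a b c d hab hbc hcd h2 h3 h4 (h1' V hV (hVW.trans (inf_le_left.trans inf_le_left)))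
      (h2' V hV (hVW.trans (inf_le_left.trans inf_le_right))) (h4' V hV (hVW.trans (inf_le_right.trans inf_le_left)))
      (h5' V hV (hVW.trans (inf_le_right.trans inf_le_right)))⟩

end K181.Good
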