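import Mathlib.RingTheory.AdicCompletion.Basic
import Mathlib.RingTheory.AdicCompletion.Functoriality
import Mathlib.RingTheory.Flat.Basic
import Mathlib.LinearAlgebra.TensorProduct.Finiteness
import Mathlib.LinearAlgebra.TensorProduct.RightExactness
import Groth.Agent.FormalA.AdicFin

/-!
# Exactness of `M ⊗ (C⁰ → C¹ → C²)` for all modules from exactness for `I`-torsion modules

`C⁰ → C¹ → C²` is a complex of flat modules over a ring `A`, `I` an ideal.  If `N ⊗ C` is exact for every
module `N` killed by `I`, and `M ⊗ C⁰` is `I`-precomplete, `M ⊗ C¹` is `I`-separated, then `M ⊗ C` is exact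
(`exact_of_complete`).  Exactness for all finitely generated modules implies exactness for all modules
(`exact_of_finite`).
-/

set_option autoImplicit false

universe u v

open TensorProduct

namespace K181.AcycAlg

variable {A : Type u} [CommRing A] (I : Ideal A)

section Smul

variable {M : Type v} [AddCommGroup M] [Module A M] {C : Type v} [AddCommGroup C] [Module A C]

/-- `J (M ⊗ C)` is contained in the image of `JM ⊗ C`. -/
theorem smul_top_le_range (J : Ideal A) :
    (J • ⊤ : Submodule A (M ⊗[A] C)) ≤ LinearMap.range ((J • ⊤ : Submodule A M).subtype.rTensor C) := by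
  rw [Submodule.smul_le]
  intro a ha x hx0
  clear hx0
  induction x using TensorProduct.induction_on with
  | zero => rw [smul_zero]; exact Submodule.zero_mem _
  | tmul m c =>
    refine ⟨(⟨a • m, Submodule.smul_mem_smul ha trivial⟩ : (J • ⊤ : Submodule A M)) ⊗ₜ c, ?_⟩
    rw [LinearMap.rTensor_tmul]
    rfl
  | add x y hx hy => rw [smul_add]; exact Submodule.add_mem _ hx hy

/-- The image of `JM ⊗ C` in `M ⊗ C` is contained in `J (M ⊗ C)`. -/
theorem range_le_smul_top (J : Ideal A) :
    LinearMap.range ((J • ⊤ : Submodule A M).subtype.rTensor C) ≤ (J • ⊤ : Submodule A (M ⊗[A] C)) := by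
  rintro _ ⟨x, rfl⟩
  induction x using TensorProduct.induction_on with
  | zero => rw [map_zero]; exact Submodule.zero_mem _
  | tmul m c =>
    rw [LinearMap.rTensor_tmul]
    obtain ⟨m, hm⟩ := m
    change m ⊗ₜ[A] c ∈ _
    refine Submodule.smul_induction_on hm ?_ ?_
    · intro a ha n _
      rw [← TensorProduct.smul_tmul']
      exact Submodule.smul_mem_smul ha trivial
    · intro x y hx hy
      rw [TensorProduct.add_tmul]
      exact Submodule.add_mem _ hx hy
  | add x y hx hy => rw [map_add]; exact Submodule.add_mem _ hx hy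

theorem range_eq_smul_top (J : Ideal A) :
    LinearMap.range ((J • ⊤ : Submodule A M).subtype.rTensor C) = (J • ⊤ : Submodule A (M ⊗[A] C)) :=
  le_antisymm (range_le_smul_top J) (smul_top_le_range J)

end Smul

section Main

variable {C0 C1 C2 : Type v} [AddCommGroup C0] [Module A C0] [AddCommGroup C1] [Module A C1]
  [AddCommGroup C2] [Module A C2] (d0 : C0 →ₗ[A] C1) (d1 : C1 →ₗ[A] C2)

theorem lTensor_mem_smul_top {M : Type v} [AddCommGroup M] [Module A M] (J : Ideal A) (x : M ⊗[A] C0)
    (hx : x ∈ (J • ⊤ : Submodule A (M ⊗[A] C0))) :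
    d0.lTensor M x ∈ (J • ⊤ : Submodule A (M ⊗[A] C1)) := by
  have h1 : (J • ⊤ : Submodule A (M ⊗[A] C0)).map (d0.lTensor M) ≤ (J • ⊤ : Submodule A (M ⊗[A] C1)) := by
    rw [Submodule.map_smul'']
    exact Submodule.smul_mono le_rfl le_top
  exact h1 (Submodule.mem_map_of_mem hx)

/-- One step of the approximation. -/
theorem step [Module.Flat A C2]
    (hI : ∀ (N : Type v) [AddCommGroup N] [Module A N], (∀ a ∈ I, ∀ x : N, a • x = 0) →
      ∀ x : N ⊗[A] C1, d1.lTensor N x = 0 → ∃ y, d0.lTensor N y = x)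
    (M : Type v) [AddCommGroup M] [Module A M] (n : ℕ) (s : M ⊗[A] C1) (hs : d1.lTensor M s = 0)
    (hsn : s ∈ (I ^ n • ⊤ : Submodule A (M ⊗[A] C1))) :
    ∃ t ∈ (I ^ n • ⊤ : Submodule A (M ⊗[A] C0)),
      s - d0.lTensor M t ∈ (I ^ (n + 1) • ⊤ : Submodule A (M ⊗[A] C1)) := by
  let P : Submodule A M := I ^ n • ⊤
  let Q : Submodule A M := I ^ (n + 1) • ⊤
  let Q' : Submodule A P := Q.comap P.subtype
  have hN : ∀ a ∈ I, ∀ x : P ⧸ Q', a • x = 0 := by
    intro a ha x
    obtain ⟨x, rfl⟩ := Submodule.Quotient.mk_surjective _ x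
    rw [← Submodule.Quotient.mk_smul, Submodule.Quotient.mk_eq_zero]
    change a • (x : M) ∈ (I ^ (n + 1) • ⊤ : Submodule A M)
    rw [pow_succ', ← smul_eq_mul, smul_assoc]
    exact Submodule.smul_mem_smul ha x.2
  obtain ⟨s', hs'⟩ := smul_top_le_range (M := M) (C := C1) (I ^ n) hsn
  have hs'0 : d1.lTensor P s' = 0 := by
    have hinj : Function.Injective (P.subtype.rTensor C2) :=
      Module.Flat.rTensor_preserves_injective_linearMap _ P.injective_subtype
    apply hinj
    rw [map_zero, ← LinearMap.comp_apply, LinearMap.rTensor_comp_lTensor, ← LinearMap.lTensor_comp_rTensor,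
      LinearMap.comp_apply, hs', hs]
  have h1 : d1.lTensor (P ⧸ Q') (Q'.mkQ.rTensor C1 s') = 0 := by
    rw [← LinearMap.comp_apply, LinearMap.lTensor_comp_rTensor, ← LinearMap.rTensor_comp_lTensor,
      LinearMap.comp_apply, hs'0, map_zero]
  obtain ⟨t', ht'⟩ := hI (P ⧸ Q') hN _ h1
  obtain ⟨t'', rfl⟩ := LinearMap.rTensor_surjective C0 Q'.mkQ_surjective t'
  have h2 : Q'.mkQ.rTensor C1 (s' - d0.lTensor P t'') = 0 := by
    rw [map_sub, ← ht', sub_eq_zero, ← LinearMap.comp_apply, LinearMap.lTensor_comp_rTensor,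
      ← LinearMap.rTensor_comp_lTensor, LinearMap.comp_apply]
  have hex := rTensor_exact C1 (LinearMap.exact_subtype_mkQ Q') Q'.mkQ_surjective
  obtain ⟨w, hw⟩ := (hex _).1 h2
  refine ⟨P.subtype.rTensor C0 t'', range_le_smul_top _ ⟨_, rfl⟩, ?_⟩
  have h3 : s - d0.lTensor M (P.subtype.rTensor C0 t'') = P.subtype.rTensor C1 (s' - d0.lTensor P t'') := by
    rw [map_sub, hs', ← LinearMap.comp_apply (d0.lTensor M), LinearMap.lTensor_comp_rTensor,
      ← LinearMap.rTensor_comp_lTensor, LinearMap.comp_apply]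
  rw [h3, ← hw, ← LinearMap.comp_apply, ← LinearMap.rTensor_comp]
  have h4 : P.subtype ∘ₗ Q'.subtype = Q.subtype ∘ₗ (P.subtype.restrict (p := Q') (q := Q) (fun x hx => hx)) := by
    ext x
    rfl
  rw [h4, LinearMap.rTensor_comp]
  exact range_le_smul_top _ ⟨_, rfl⟩

/-- Exactness after tensoring with `M` from exactness for modules killed by `I`, when `M ⊗ C⁰` is
`I`-precomplete and `M ⊗ C¹` is `I`-separated. -/
theorem exact_of_complete [Module.Flat A C2] (hd : d1 ∘ₗ d0 = 0)
    (hI : ∀ (N : Type v) [AddCommGroup N] [Module A N], (∀ a ∈ I, ∀ x : N, a • x = 0) →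
      ∀ x : N ⊗[A] C1, d1.lTensor N x = 0 → ∃ y, d0.lTensor N y = x)
    (M : Type v) [AddCommGroup M] [Module A M] [IsPrecomplete I (M ⊗[A] C0)] [IsHausdorff I (M ⊗[A] C1)]
    (s : M ⊗[A] C1) (hs : d1.lTensor M s = 0) : ∃ t, d0.lTensor M t = s := by
  have hstep : ∀ (n : ℕ) (t : M ⊗[A] C0), ∃ t' : M ⊗[A] C0,
      s - d0.lTensor M t ∈ (I ^ n • ⊤ : Submodule A (M ⊗[A] C1)) →
      t' - t ∈ (I ^ n • ⊤ : Submodule A (M ⊗[A] C0)) ∧
        s - d0.lTensor M t' ∈ (I ^ (n + 1) • ⊤ : Submodule A (M ⊗[A] C1)) := by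
    intro n t
    by_cases h : s - d0.lTensor M t ∈ (I ^ n • ⊤ : Submodule A (M ⊗[A] C1))
    · have h0 : d1.lTensor M (s - d0.lTensor M t) = 0 := by
        rw [map_sub, hs, zero_sub, neg_eq_zero, ← LinearMap.comp_apply, ← LinearMap.lTensor_comp, hd,
          LinearMap.lTensor_zero, LinearMap.zero_apply]
      obtain ⟨r, hr, hr'⟩ := step I d0 d1 hI M n _ h0 h
      exact ⟨t + r, fun _ => ⟨by rwa [add_sub_cancel_left], by rwa [map_add, ← sub_sub]⟩⟩
    · exact ⟨t, fun h' => absurd h' h⟩
  choose T hT using hstep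
  let f : ℕ → M ⊗[A] C0 := fun n => Nat.rec 0 (fun n t => T n t) n
  have hf0 : f 0 = 0 := rfl
  have hfs : ∀ n, f (n + 1) = T n (f n) := fun n => rfl
  have hf : ∀ n, s - d0.lTensor M (f n) ∈ (I ^ n • ⊤ : Submodule A (M ⊗[A] C1)) := by
    intro n
    induction n with
    | zero => rw [pow_zero, Ideal.one_eq_top, Submodule.top_smul]; trivial
    | succ n ih => rw [hfs]; exact (hT n (f n) ih).2
  have hc : ∀ n, f (n + 1) - f n ∈ (I ^ n • ⊤ : Submodule A (M ⊗[A] C0)) := fun n => (hT n (f n) (hf n)).1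
  have hcauchy : ∀ {m n : ℕ}, m ≤ n → f m ≡ f n [SMOD (I ^ m • ⊤ : Submodule A (M ⊗[A] C0))] := by
    intro m n hmn
    obtain ⟨k, rfl⟩ := Nat.exists_eq_add_of_le hmn
    clear hmn
    induction k with
    | zero => exact SModEq.refl _
    | succ k ih =>
      refine ih.trans ?_
      rw [SModEq.comm, SModEq.sub_mem]
      exact (Submodule.smul_mono_left (Ideal.pow_le_pow_right (Nat.le_add_right m k))) (hc (m + k))
  obtain ⟨t, ht⟩ := IsPrecomplete.prec' (I := I) f hcauchy
  refine ⟨t, ?_⟩
  rw [← sub_eq_zero]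
  refine IsHausdorff.haus' (I := I) _ fun n => ?_
  rw [SModEq.zero]
  have h1 := lTensor_mem_smul_top d0 (I ^ n) (f n - t) (SModEq.sub_mem.1 (ht n))
  have h2 := hf n
  have h3 : d0.lTensor M t - s = -(s - d0.lTensor M (f n)) - d0.lTensor M (f n - t) := by
    rw [map_sub]; abel
  rw [h3]
  exact Submodule.sub_mem _ (Submodule.neg_mem _ h2) h1

/-- Exactness for all finitely generated modules implies exactness for all modules. -/
theorem exact_of_finite [Module.Flat A C2]
    (h : ∀ (N : Type v) [AddCommGroup N] [Module A N], Module.Finite A N →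
      ∀ x : N ⊗[A] C1, d1.lTensor N x = 0 → ∃ y, d0.lTensor N y = x)
    (M : Type v) [AddCommGroup M] [Module A M]
    (s : M ⊗[A] C1) (hs : d1.lTensor M s = 0) : ∃ t, d0.lTensor M t = s := by
  obtain ⟨P, hP, hs'⟩ := TensorProduct.exists_finite_submodule_left_of_setFinite {s} (Set.finite_singleton s)
  obtain ⟨s', rfl⟩ := hs' rfl
  have hs'0 : d1.lTensor P s' = 0 := by
    have hinj : Function.Injective (P.subtype.rTensor C2) :=
      Module.Flat.rTensor_preserves_injective_linearMap _ P.injective_subtype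
    apply hinj
    rw [map_zero, ← LinearMap.comp_apply, LinearMap.rTensor_comp_lTensor, ← LinearMap.lTensor_comp_rTensor,
      LinearMap.comp_apply]
    exact hs
  obtain ⟨t, rfl⟩ := h P hP s' hs'0
  refine ⟨P.subtype.rTensor C0 t, ?_⟩
  rw [← LinearMap.comp_apply, LinearMap.lTensor_comp_rTensor, ← LinearMap.rTensor_comp_lTensor,
    LinearMap.comp_apply]

end Main

section Pi

theorem isAdicComplete_pi {ι : Type v} [Finite ι] (M : ι → Type v) [∀ i, AddCommGroup (M i)] [∀ i, Module A (M i)]
    [∀ i, IsAdicComplete I (M i)] : IsAdicComplete I (∀ i, M i) := by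
  classical
  cases nonempty_fintype ι
  rw [← AdicCompletion.of_bijective_iff]
  have h : ⇑(AdicCompletion.piEquivOfFintype I M) ∘ ⇑(AdicCompletion.of I (∀ i, M i)) =
      fun x j => AdicCompletion.of I (M j) (x j) := by
    ext x j n
    rfl
  have h2 : Function.Bijective (fun (x : ∀ i, M i) (j : ι) => AdicCompletion.of I (M j) (x j)) := by
    constructor
    · intro x y hxy
      funext j
      exact (AdicCompletion.of_bijective I (M j)).1 (congrFun hxy j)
    · intro y
      choose x hx using fun j => (AdicCompletion.of_bijective I (M j)).2 (y j)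
      exact ⟨x, funext hx⟩
  rw [← h] at h2
  exact (Function.Bijective.of_comp_iff' (AdicCompletion.piEquivOfFintype I _).bijective _).mp h2

/-- Finite base changes of finite modules to a Noetherian ring complete for the extended ideal are complete. -/
theorem isAdicComplete_tensor (R : Type u) [CommRing R] [Algebra A R] [IsNoetherianRing R]
    [IsAdicComplete (I.map (algebraMap A R)) R] (M : Type u) [AddCommGroup M] [Module A M] [Module.Finite A M] :
    IsAdicComplete I (M ⊗[A] R) := by
  have h1 : IsAdicComplete (I.map (algebraMap A R)) (R ⊗[A] M) :=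
    Groth.Agent.FormalA.AdicFin.isAdicComplete_of_finite _
  have h2 : IsAdicComplete I (R ⊗[A] M) := (IsAdicComplete.map_algebraMap_iff I _).1 h1
  have h3 := (AdicCompletion.of_bijective_iff).2 h2
  rw [← AdicCompletion.of_bijective_iff]
  have h : ⇑(AdicCompletion.of I (M ⊗[A] R)) =
      ⇑(AdicCompletion.congr I (TensorProduct.comm A R M)) ∘ ⇑(AdicCompletion.of I (R ⊗[A] M)) ∘
        ⇑(TensorProduct.comm A R M).symm := by
    ext1 x
    simp only [Function.comp_apply, AdicCompletion.congr_apply, AdicCompletion.map_of]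
    simp
  rw [h]
  exact (AdicCompletion.congr I _).bijective.comp (h3.comp (TensorProduct.comm A R M).symm.bijective)

end Pi

end K181.AcycAlg
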