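import Mathlib.RingTheory.IsTensorProduct
import Mathlib.RingTheory.Flat.Basic
import Mathlib.RingTheory.RingHom.Flat
import Mathlib.LinearAlgebra.TensorProduct.RightExactness
import Mathlib.CategoryTheory.Filtered.Basic

/-!
# Semilinear maps that are base changes

For a ring map `σ : A → B` and a `σ`-semilinear map `f : M → N`, `IsBC σ f` says that the induced map
`B ⊗ M → N` is bijective.  Permanence under kernels (flat `σ`), cokernels, extensions, composition, filtered colimits.
-/

set_option autoImplicit false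
set_option linter.style.haveILetI false

open TensorProduct

namespace K181.BC

section Alg

variable {A B : Type*} [CommRing A] [CommRing B] [Algebra A B]

/-- The linear map `B ⊗ M → N` of an `A`-linear map `M → N` to a `B`-module. -/
noncomputable def bc {M N : Type*} [AddCommGroup M] [Module A M] [AddCommGroup N] [Module A N] [Module B N]
    [IsScalarTower A B N] (f : M →ₗ[A] N) : B ⊗[A] M →ₗ[A] N :=
  TensorProduct.lift (((Algebra.linearMap B <| Module.End B (M →ₗ[A] N)).flip f).restrictScalars A)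

theorem bc_tmul {M N : Type*} [AddCommGroup M] [Module A M] [AddCommGroup N] [Module A N] [Module B N]
    [IsScalarTower A B N] (f : M →ₗ[A] N) (b : B) (m : M) : bc f (b ⊗ₜ m) = b • f m := rfl

theorem isBaseChange_iff {M N : Type*} [AddCommGroup M] [Module A M] [AddCommGroup N] [Module A N] [Module B N]
    [IsScalarTower A B N] (f : M →ₗ[A] N) : IsBaseChange B f ↔ Function.Bijective (bc (B := B) f) := Iff.rfl

variable {M₁ M₂ M₃ N₁ N₂ N₃ : Type*} [AddCommGroup M₁] [Module A M₁] [AddCommGroup M₂] [Module A M₂]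
  [AddCommGroup M₃] [Module A M₃] [AddCommGroup N₁] [Module A N₁] [Module B N₁] [IsScalarTower A B N₁]
  [AddCommGroup N₂] [Module A N₂] [Module B N₂] [IsScalarTower A B N₂]
  [AddCommGroup N₃] [Module A N₃] [Module B N₃] [IsScalarTower A B N₃]
  {i : M₁ →ₗ[A] M₂} {g : M₂ →ₗ[A] M₃} {i' : N₁ →ₗ[B] N₂} {g' : N₂ →ₗ[B] N₃}
  {f₁ : M₁ →ₗ[A] N₁} {f₂ : M₂ →ₗ[A] N₂} {f₃ : M₃ →ₗ[A] N₃}

theorem bc_comm (h : ∀ m, f₂ (i m) = i' (f₁ m)) (x : B ⊗[A] M₁) :
    bc (B := B) f₂ (i.lTensor B x) = i' (bc (B := B) f₁ x) := by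
  induction x using TensorProduct.induction_on with
  | zero => simp
  | tmul b m => rw [LinearMap.lTensor_tmul, bc_tmul, bc_tmul, h, map_smul]
  | add x y hx hy => rw [map_add, map_add, map_add, map_add, hx, hy]

theorem ker_bijective [Module.Flat A B] (h12 : ∀ m, f₂ (i m) = i' (f₁ m)) (h23 : ∀ m, f₃ (g m) = g' (f₂ m))
    (hi : Function.Injective i) (hex : Function.Exact i g) (hi' : Function.Injective i')
    (hex' : Function.Exact i' g')
    (h2 : Function.Bijective (bc (B := B) f₂)) (h3 : Function.Injective (bc (B := B) f₃)) :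
    Function.Bijective (bc (B := B) f₁) := by
  have hiB : Function.Injective (i.lTensor B) := Module.Flat.lTensor_preserves_injective_linearMap _ hi
  have hexB : Function.Exact (i.lTensor B) (g.lTensor B) := Module.Flat.lTensor_exact B hex
  constructor
  · rw [injective_iff_map_eq_zero]
    intro x hx
    have h := bc_comm h12 x
    rw [hx, map_zero] at h
    have h' := (injective_iff_map_eq_zero _).1 h2.1 _ h
    exact (injective_iff_map_eq_zero _).1 hiB _ h'
  · intro y
    obtain ⟨z, hz⟩ := h2.2 (i' y)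
    have h := bc_comm h23 z
    rw [hz, hex'.apply_apply_eq_zero] at h
    have h' := (injective_iff_map_eq_zero _).1 h3 _ h
    obtain ⟨x, rfl⟩ := (hexB z).1 h'
    refine ⟨x, hi' ?_⟩
    rw [← bc_comm h12, hz]

theorem coker_bijective (h12 : ∀ m, f₂ (i m) = i' (f₁ m)) (h23 : ∀ m, f₃ (g m) = g' (f₂ m))
    (hex : Function.Exact i g) (hg : Function.Surjective g)
    (hex' : Function.Exact i' g') (hg' : Function.Surjective g')
    (h1 : Function.Surjective (bc (B := B) f₁)) (h2 : Function.Bijective (bc (B := B) f₂)) :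
    Function.Bijective (bc (B := B) f₃) := by
  have hgB : Function.Surjective (g.lTensor B) := LinearMap.lTensor_surjective _ hg
  have hexB : Function.Exact (i.lTensor B) (g.lTensor B) := lTensor_exact B hex hg
  constructor
  · rw [injective_iff_map_eq_zero]
    intro x hx
    obtain ⟨z, rfl⟩ := hgB x
    rw [bc_comm h23] at hx
    obtain ⟨y, hy⟩ := (hex' _).1 hx
    obtain ⟨w, rfl⟩ := h1 y
    rw [← bc_comm h12] at hy
    rw [← h2.1 hy]
    exact hexB.apply_apply_eq_zero w
  · intro y
    obtain ⟨y, rfl⟩ := hg' y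
    obtain ⟨z, rfl⟩ := h2.2 y
    exact ⟨g.lTensor B z, bc_comm h23 z⟩

theorem ext_bijective (h12 : ∀ m, f₂ (i m) = i' (f₁ m)) (h23 : ∀ m, f₃ (g m) = g' (f₂ m))
    (hex : Function.Exact i g) (hg : Function.Surjective g)
    (hex' : Function.Exact i' g') (hi' : Function.Injective i')
    (h1 : Function.Bijective (bc (B := B) f₁)) (h3 : Function.Bijective (bc (B := B) f₃)) :
    Function.Bijective (bc (B := B) f₂) := by
  have hgB : Function.Surjective (g.lTensor B) := LinearMap.lTensor_surjective _ hg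
  have hexB : Function.Exact (i.lTensor B) (g.lTensor B) := lTensor_exact B hex hg
  constructor
  · rw [injective_iff_map_eq_zero]
    intro z hz
    have h := bc_comm h23 z
    rw [hz, map_zero] at h
    have h' := (injective_iff_map_eq_zero _).1 h3.1 _ h
    obtain ⟨x, rfl⟩ := (hexB z).1 h'
    rw [bc_comm h12] at hz
    have h4 := (injective_iff_map_eq_zero _).1 hi' _ hz
    rw [(injective_iff_map_eq_zero _).1 h1.1 _ h4, map_zero]
  · intro y
    obtain ⟨w, hw⟩ := h3.2 (g' y)
    obtain ⟨z, rfl⟩ := hgB w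
    rw [bc_comm h23, ← sub_eq_zero, ← map_sub] at hw
    obtain ⟨v, hv⟩ := (hex' _).1 hw
    obtain ⟨x, rfl⟩ := h1.2 v
    refine ⟨z - i.lTensor B x, ?_⟩
    rw [map_sub, bc_comm h12, hv]
    abel

end Alg

section Semi

variable {A B : Type*} [CommRing A] [CommRing B] (σ : A →+* B)

/-- The `σ`-semilinear map `f : M → N` exhibits `N` as the base change of `M` along `σ`. -/
structure IsBC {M N : Type*} [AddCommGroup M] [Module A M] [AddCommGroup N] [Module B N] (f : M →ₛₗ[σ] N) :
    Prop where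
  bij : ∀ (_ : Algebra A B) (_ : Module A N) (_ : IsScalarTower A B N) (_ : algebraMap A B = σ) (f' : M →ₗ[A] N)
    (_ : ∀ m, f' m = f m), Function.Bijective (bc (B := B) f')

/-- The linear map underlying a semilinear map. -/
def toLin {M N : Type*} [Algebra A B] [AddCommGroup M] [Module A M] [AddCommGroup N] [Module A N] [Module B N]
    [IsScalarTower A B N] (hσ : algebraMap A B = σ) (f : M →ₛₗ[σ] N) : M →ₗ[A] N where
  toFun := f
  map_add' := map_add f
  map_smul' a m := by
    rw [f.map_smulₛₗ]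
    have h : σ a = algebraMap A B a := by rw [hσ]
    rw [h, algebraMap_smul]
    rfl

theorem smul_eq_of_tower {N : Type*} [Algebra A B] [AddCommGroup N] [Module A N] [Module B N]
    [IsScalarTower A B N] (a : A) (n : N) : a • n = algebraMap A B a • n := (algebraMap_smul B a n).symm

variable {σ}

theorem isBC_iff {M N : Type*} [ia : Algebra A B] (hσ : algebraMap A B = σ) [AddCommGroup M] [Module A M]
    [AddCommGroup N] [im : Module A N] [Module B N] [IsScalarTower A B N] (f : M →ₛₗ[σ] N) (f' : M →ₗ[A] N)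
    (hf : ∀ m, f' m = f m) : IsBC σ f ↔ Function.Bijective (bc (B := B) f') := by
  constructor
  · intro h
    exact h.bij _ _ _ hσ f' hf
  · intro h; refine ⟨?_⟩; intro ia' im' _ hσ' g hg
    have e1 : ia' = ia := by
      apply Algebra.algebra_ext
      intro r
      rw [hσ, hσ']
    subst e1
    have e2 : im' = im := by
      apply Module.ext'
      intro a n
      exact (letI := im'; smul_eq_of_tower (A := A) (B := B) a n).trans
        (letI := im; smul_eq_of_tower (A := A) (B := B) a n).symm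
    subst e2
    have e3 : g = f' := LinearMap.ext fun m => (hg m).trans (hf m).symm
    rw [e3]
    exact h

/-- If `f` is a base change map then any algebra structure computes it. -/
theorem IsBC.out {M N : Type*} [Algebra A B] [AddCommGroup M] [Module A M]
    [AddCommGroup N] [Module A N] [Module B N] [IsScalarTower A B N] {f : M →ₛₗ[σ] N} (h : IsBC σ f)
    (hσ : algebraMap A B = σ) : Function.Bijective (bc (B := B) (toLin σ hσ f)) :=
  h.bij _ _ _ hσ _ fun _ => rfl

section Exact

variable {M₁ M₂ M₃ N₁ N₂ N₃ : Type*} [AddCommGroup M₁] [Module A M₁] [AddCommGroup M₂] [Module A M₂]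
  [AddCommGroup M₃] [Module A M₃] [AddCommGroup N₁] [Module B N₁]
  [AddCommGroup N₂] [Module B N₂] [AddCommGroup N₃] [Module B N₃]
  {i : M₁ →ₗ[A] M₂} {g : M₂ →ₗ[A] M₃} {i' : N₁ →ₗ[B] N₂} {g' : N₂ →ₗ[B] N₃}
  {f₁ : M₁ →ₛₗ[σ] N₁} {f₂ : M₂ →ₛₗ[σ] N₂} {f₃ : M₃ →ₛₗ[σ] N₃}

theorem IsBC.ker (hσ : σ.Flat) (h12 : ∀ m, f₂ (i m) = i' (f₁ m)) (h23 : ∀ m, f₃ (g m) = g' (f₂ m))
    (hi : Function.Injective i) (hex : Function.Exact i g) (hi' : Function.Injective i')
    (hex' : Function.Exact i' g') (h2 : IsBC σ f₂) (h3 : IsBC σ f₃) : IsBC σ f₁ := by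
  refine ⟨?_⟩
  intro ia _ _ hA f₁' hf₁
  have : Module.Flat A B := by
    rw [← RingHom.flat_algebraMap_iff, hA]
    exact hσ
  letI : Module A N₂ := Module.compHom N₂ (algebraMap A B)
  letI : Module A N₃ := Module.compHom N₃ (algebraMap A B)
  haveI : IsScalarTower A B N₂ := IsScalarTower.of_algebraMap_smul fun _ _ => rfl
  haveI : IsScalarTower A B N₃ := IsScalarTower.of_algebraMap_smul fun _ _ => rfl
  exact ker_bijective (f₁ := f₁') (f₂ := toLin σ hA f₂) (f₃ := toLin σ hA f₃)
    (fun m => (h12 m).trans (congrArg i' (hf₁ m).symm)) h23 hi hex hi' hex' (h2.out hA) (h3.out hA).1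

theorem IsBC.coker (h12 : ∀ m, f₂ (i m) = i' (f₁ m)) (h23 : ∀ m, f₃ (g m) = g' (f₂ m))
    (hex : Function.Exact i g) (hg : Function.Surjective g)
    (hex' : Function.Exact i' g') (hg' : Function.Surjective g')
    (h1 : IsBC σ f₁) (h2 : IsBC σ f₂) : IsBC σ f₃ := by
  refine ⟨?_⟩
  intro ia _ _ hA f₃' hf₃
  letI : Module A N₁ := Module.compHom N₁ (algebraMap A B)
  letI : Module A N₂ := Module.compHom N₂ (algebraMap A B)
  haveI : IsScalarTower A B N₁ := IsScalarTower.of_algebraMap_smul fun _ _ => rfl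
  haveI : IsScalarTower A B N₂ := IsScalarTower.of_algebraMap_smul fun _ _ => rfl
  exact coker_bijective (f₁ := toLin σ hA f₁) (f₂ := toLin σ hA f₂) (f₃ := f₃')
    h12 (fun m => (hf₃ _).trans (h23 m)) hex hg hex' hg' (h1.out hA).2 (h2.out hA)

theorem IsBC.ext (h12 : ∀ m, f₂ (i m) = i' (f₁ m)) (h23 : ∀ m, f₃ (g m) = g' (f₂ m))
    (hex : Function.Exact i g) (hg : Function.Surjective g)
    (hex' : Function.Exact i' g') (hi' : Function.Injective i')
    (h1 : IsBC σ f₁) (h3 : IsBC σ f₃) : IsBC σ f₂ := by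
  refine ⟨?_⟩
  intro ia _ _ hA f₂' hf₂
  letI : Module A N₁ := Module.compHom N₁ (algebraMap A B)
  letI : Module A N₃ := Module.compHom N₃ (algebraMap A B)
  haveI : IsScalarTower A B N₁ := IsScalarTower.of_algebraMap_smul fun _ _ => rfl
  haveI : IsScalarTower A B N₃ := IsScalarTower.of_algebraMap_smul fun _ _ => rfl
  exact ext_bijective (f₁ := toLin σ hA f₁) (f₂ := f₂') (f₃ := toLin σ hA f₃)
    (fun m => (hf₂ _).trans (h12 m)) (fun m => (h23 m).trans (congrArg g' (hf₂ m).symm)) hex hg hex' hi'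
    (h1.out hA) (h3.out hA)

end Exact

section Misc

variable {M N : Type*} [AddCommGroup M] [Module A M] [AddCommGroup N] [Module B N] {f : M →ₛₗ[σ] N}

/-- Every element of the target is a combination of elements of the image. -/
theorem IsBC.mem_span (h : IsBC σ f) (n : N) : n ∈ Submodule.span B (Set.range f) := by
  letI := σ.toAlgebra
  letI : Module A N := Module.compHom N σ
  haveI : IsScalarTower A B N := IsScalarTower.of_algebraMap_smul fun _ _ => rfl
  obtain ⟨x, rfl⟩ := (h.out rfl).2 n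
  induction x using TensorProduct.induction_on with
  | zero => rw [map_zero]; exact Submodule.zero_mem _
  | tmul b m => rw [bc_tmul]; exact Submodule.smul_mem _ _ (Submodule.subset_span ⟨m, rfl⟩)
  | add x y hx hy => rw [map_add]; exact Submodule.add_mem _ hx hy

/-- Invariance under isomorphisms. -/
theorem IsBC.congr {M' N' : Type*} [AddCommGroup M'] [Module A M'] [AddCommGroup N'] [Module B N']
    {f' : M' →ₛₗ[σ] N'} (h : IsBC σ f) (e : M ≃ₗ[A] M') (e' : N ≃ₗ[B] N')
    (hee' : ∀ m, f' (e m) = e' (f m)) : IsBC σ f' := by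
  refine ⟨?_⟩
  intro ia _ _ hA f'' hf
  letI : Module A N := Module.compHom N (algebraMap A B)
  haveI : IsScalarTower A B N := IsScalarTower.of_algebraMap_smul fun _ _ => rfl
  have h1 : ∀ x : B ⊗[A] M, bc (B := B) f'' (e.toLinearMap.lTensor B x) = e' (bc (B := B) (toLin σ hA f) x) :=
    bc_comm (i' := e'.toLinearMap) fun m => (hf _).trans (hee' m)
  have h2 : ⇑(bc (B := B) f'') = ⇑e' ∘ ⇑(bc (B := B) (toLin σ hA f)) ∘ ⇑(e.symm.toLinearMap.lTensor B) := by
    funext x
    rw [Function.comp_apply, Function.comp_apply, ← h1, ← LinearMap.comp_apply (e.toLinearMap.lTensor B),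
      ← LinearMap.lTensor_comp]
    simp
  rw [h2]
  exact e'.bijective.comp ((h.out hA).comp (LinearEquiv.lTensor B e.symm).bijective)

theorem IsBC.finite [Module.Finite A M] (h : IsBC σ f) : Module.Finite B N := by
  letI := σ.toAlgebra
  letI : Module A N := Module.compHom N σ
  haveI : IsScalarTower A B N := IsScalarTower.of_algebraMap_smul fun _ _ => rfl
  have h1 : IsBaseChange B (toLin σ rfl f) := h.out rfl
  exact Module.Finite.equiv h1.equiv

end Misc

section Comp

variable {C : Type*} [CommRing C] {τ : B →+* C} {ρ : A →+* C}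
  {M N P : Type*} [AddCommGroup M] [Module A M] [AddCommGroup N] [Module B N] [AddCommGroup P] [Module C P]
  {f : M →ₛₗ[σ] N} {g : N →ₛₗ[τ] P} {k : M →ₛₗ[ρ] P}

theorem IsBC.comp_iff (hρ : ∀ a, ρ a = τ (σ a)) (hk : ∀ m, k m = g (f m)) (hf : IsBC σ f) :
    IsBC τ g ↔ IsBC ρ k := by
  letI := σ.toAlgebra
  letI := τ.toAlgebra
  letI := ρ.toAlgebra
  haveI : IsScalarTower A B C := IsScalarTower.of_algebraMap_eq hρ
  letI : Module A N := Module.compHom N σ
  haveI : IsScalarTower A B N := IsScalarTower.of_algebraMap_smul fun _ _ => rfl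
  letI : Module B P := Module.compHom P τ
  haveI : IsScalarTower B C P := IsScalarTower.of_algebraMap_smul fun _ _ => rfl
  letI : Module A P := Module.compHom P ρ
  haveI : IsScalarTower A C P := IsScalarTower.of_algebraMap_smul fun _ _ => rfl
  haveI : IsScalarTower A B P := ⟨fun a b p => by
    change (τ (σ a * b)) • p = ρ a • (τ b • p)
    rw [map_mul, hρ, mul_smul]⟩
  have h1 : IsBaseChange B (toLin σ rfl f) := hf.out rfl
  have e : (toLin ρ rfl k : M →ₗ[A] P) = ((toLin τ rfl g).restrictScalars A) ∘ₗ (toLin σ rfl f) :=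
    LinearMap.ext fun m => hk m
  rw [isBC_iff (σ := τ) rfl g (toLin τ rfl g) fun _ => rfl, isBC_iff (σ := ρ) rfl k (toLin ρ rfl k) fun _ => rfl]
  constructor
  · intro h2
    have h3 : IsBaseChange C (toLin τ rfl g) := h2
    have := h1.comp h3
    rw [← e] at this
    exact this
  · intro h2
    have h3 : IsBaseChange C (toLin ρ rfl k) := h2
    rw [e] at h3
    exact IsBaseChange.of_comp h1 h3

end Comp

section Id

theorem IsBC.id {M : Type*} [AddCommGroup M] [Module A M] {f : M →ₛₗ[RingHom.id A] M} (hf : Function.Bijective f) :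
    IsBC (RingHom.id A) f := by
  letI : Algebra A A := Algebra.id A
  rw [isBC_iff (σ := RingHom.id A) rfl f f fun _ => rfl]
  exact IsBaseChange.ofEquiv (LinearEquiv.ofBijective f hf)

/-- The ring map itself is a base change map. -/
theorem IsBC.self (f : A →ₛₗ[σ] B) (hf : ∀ a, f a = σ a) : IsBC σ f := by
  letI := σ.toAlgebra
  rw [isBC_iff (σ := σ) rfl f (Algebra.linearMap A B) fun a => (hf a).symm]
  exact IsBaseChange.linearMap A B

end Id

section Filtered

open CategoryTheory

variable {M N : Type*} [AddCommGroup M] [Module A M] [AddCommGroup N] [Module B N] {f : M →ₛₗ[σ] N}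

/-- Base change maps are stable under filtered colimits. -/
theorem IsBC.of_filtered {J : Type*} [Category J] [IsFiltered J] {Mj Nj : J → Type*}
    [∀ j, AddCommGroup (Mj j)] [∀ j, Module A (Mj j)] [∀ j, AddCommGroup (Nj j)] [∀ j, Module B (Nj j)]
    {fj : ∀ j, Mj j →ₛₗ[σ] Nj j} (h : ∀ j, IsBC σ (fj j))
    (tM : ∀ {j k : J}, (j ⟶ k) → (Mj j →ₗ[A] Mj k)) (tN : ∀ {j k : J}, (j ⟶ k) → (Nj j →ₗ[B] Nj k))
    (u : ∀ j, Mj j →ₗ[A] M) (v : ∀ j, Nj j →ₗ[B] N)
    (hu : ∀ {j k : J} (φ : j ⟶ k) (m : Mj j), u k (tM φ m) = u j m)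
    (ht : ∀ {j k : J} (φ : j ⟶ k) (m : Mj j), fj k (tM φ m) = tN φ (fj j m))
    (huv : ∀ j (m : Mj j), f (u j m) = v j (fj j m))
    (H1 : ∀ m : M, ∃ j m', u j m' = m) (H2 : ∀ n : N, ∃ j n', v j n' = n)
    (H3 : ∀ j (n : Nj j), v j n = 0 → ∃ (k : J) (φ : j ⟶ k), tN φ n = 0) : IsBC σ f := by
  refine ⟨?_⟩
  intro ia im _ hA f' hf
  letI : ∀ j, Module A (Nj j) := fun j => Module.compHom (Nj j) (algebraMap A B)
  haveI : ∀ j, IsScalarTower A B (Nj j) := fun j => IsScalarTower.of_algebraMap_smul fun _ _ => rfl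
  have c1 : ∀ j (x : B ⊗[A] Mj j), bc (B := B) f' ((u j).lTensor B x) = v j (bc (B := B) (toLin σ hA (fj j)) x) :=
    fun j => bc_comm fun m => (hf _).trans (huv j m)
  have c2 : ∀ {j k : J} (φ : j ⟶ k) (x : B ⊗[A] Mj j), bc (B := B) (toLin σ hA (fj k)) ((tM φ).lTensor B x) =
      tN φ (bc (B := B) (toLin σ hA (fj j)) x) := fun {j k} φ => bc_comm fun m => ht φ m
  have c3 : ∀ {j k : J} (φ : j ⟶ k) (x : B ⊗[A] Mj j), (u k).lTensor B ((tM φ).lTensor B x) = (u j).lTensor B x := by
    intro j k φ x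
    rw [← LinearMap.comp_apply, ← LinearMap.lTensor_comp]
    congr 2
    ext m
    exact hu φ m
  have lift : ∀ x : B ⊗[A] M, ∃ (j : J) (y : B ⊗[A] Mj j), (u j).lTensor B y = x := by
    intro x
    induction x using TensorProduct.induction_on with
    | zero =>
      obtain ⟨j⟩ : Nonempty J := IsFiltered.nonempty
      exact ⟨j, 0, map_zero _⟩
    | tmul b m =>
      obtain ⟨j, m', rfl⟩ := H1 m
      exact ⟨j, b ⊗ₜ m', rfl⟩
    | add x y hx hy =>
      obtain ⟨j, x, rfl⟩ := hx
      obtain ⟨k, y, rfl⟩ := hy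
      refine ⟨IsFiltered.max j k, (tM (IsFiltered.leftToMax j k)).lTensor B x +
        (tM (IsFiltered.rightToMax j k)).lTensor B y, ?_⟩
      rw [map_add, c3, c3]
  constructor
  · rw [injective_iff_map_eq_zero]
    intro x hx
    obtain ⟨j, y, rfl⟩ := lift x
    rw [c1] at hx
    obtain ⟨k, φ, hk⟩ := H3 j _ hx
    rw [← c2] at hk
    rw [← c3 φ, (injective_iff_map_eq_zero _).1 (IsBC.out (h k) hA).1 _ hk, map_zero]
  · intro n
    obtain ⟨j, n, rfl⟩ := H2 n
    obtain ⟨y, rfl⟩ := (IsBC.out (h j) hA).2 n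
    exact ⟨_, c1 j y⟩

end Filtered

end Semi

end K181.BC
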