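import Groth.Agent.FSch.K181.PushCoprod
import Groth.Agent.Etdl.H430.CoprodTR

/-!
# Triangulated functors bounded on a class of complexes, and coproducts
-/

set_option autoImplicit false
universe t w w' v v' u u'

open CategoryTheory CategoryTheory.Limits CategoryTheory.Pretriangulated

noncomputable section

namespace K181.CoprodBound

open Groth.Agent.Etrest Groth.Agent.Etdl.H430.CoprodTR

variable {A : Type u} [Category.{v} A] [Abelian A] [HasDerivedCategory.{w} A]
  {B : Type u'} [Category.{v'} B] [Abelian B] [HasDerivedCategory.{w'} B]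
  (F : DerivedCategory A ⥤ DerivedCategory B) [F.CommShift ℤ] [F.IsTriangulated]
  (P : ObjectProperty A) [P.IsClosedUnderIsomorphisms]

/-- `F` is bounded on the complexes with cohomology in `P`. -/
def BoundedOn (e : ℤ) : Prop :=
  ∀ (G : DerivedCategory A) (b : ℤ), (∀ i, P ((DerivedCategory.homologyFunctor A i).obj G)) → G.IsLE b →
    ∀ i, b + e < i → IsZero ((DerivedCategory.homologyFunctor B i).obj (F.obj G))

variable {F P}

theorem isIso_homology_map (hP0 : ∀ Z : A, IsZero Z → P Z) {e : ℤ} (hF : BoundedOn F P e) {K L : DerivedCategory A}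
    (φ : K ⟶ L) (a : ℤ) (hL : L.IsGE a)
    (h1 : ∀ i, a ≤ i → IsIso ((DerivedCategory.homologyFunctor A i).map φ))
    (hK : ∀ i, P ((DerivedCategory.homologyFunctor A i).obj K)) (m : ℤ) (hm : a - 1 + e < m) :
    IsIso ((DerivedCategory.homologyFunctor B m).map (F.map φ)) := by
  obtain ⟨X, f, h, hT⟩ := distinguished_cocone_triangle₁ φ
  have hge : ∀ i, a ≤ i → IsZero ((DerivedCategory.homologyFunctor A i).obj X) := by
    intro i hi
    have hmono : Mono ((DerivedCategory.homologyFunctor A i).map f) := by
      refine (DerivedCategory.HomologySequence.mono_homologyMap_mor₁_iff _ hT (i - 1) i (by omega)).2 ?_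
      refine (DerivedCategory.HomologySequence.epi_homologyMap_mor₂_iff _ hT (i - 1) i (by omega)).1 ?_
      by_cases h2 : a ≤ i - 1
      · have := h1 (i - 1) h2
        exact (inferInstance : Epi ((DerivedCategory.homologyFunctor A (i - 1)).map φ))
      · have h3 : IsZero ((DerivedCategory.homologyFunctor A (i - 1)).obj L) :=
          DerivedCategory.isZero_of_isGE L a (i - 1) (by omega)
        exact ⟨fun _ _ _ => h3.eq_of_src _ _⟩
    have hzero : (DerivedCategory.homologyFunctor A i).map f = 0 := by
      have := h1 i hi
      exact (DerivedCategory.HomologySequence.mono_homologyMap_mor₂_iff _ hT i).1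
        (inferInstance : Mono ((DerivedCategory.homologyFunctor A i).map φ))
    rw [IsZero.iff_id_eq_zero, ← cancel_mono ((DerivedCategory.homologyFunctor A i).map f), hzero, comp_zero, comp_zero]
  have hlt : ∀ i, i < a → IsIso ((DerivedCategory.homologyFunctor A i).map f) := by
    intro i hi
    have hmono : Mono ((DerivedCategory.homologyFunctor A i).map f) := by
      refine (DerivedCategory.HomologySequence.mono_homologyMap_mor₁_iff _ hT (i - 1) i (by omega)).2 ?_
      have h3 : IsZero ((DerivedCategory.homologyFunctor A (i - 1)).obj L) :=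
        DerivedCategory.isZero_of_isGE L a (i - 1) (by omega)
      exact h3.eq_of_src _ _
    have hepi : Epi ((DerivedCategory.homologyFunctor A i).map f) := by
      refine (DerivedCategory.HomologySequence.epi_homologyMap_mor₁_iff _ hT i).2 ?_
      have h3 : IsZero ((DerivedCategory.homologyFunctor A i).obj L) :=
        DerivedCategory.isZero_of_isGE L a i (by omega)
      exact h3.eq_of_tgt _ _
    exact isIso_of_mono_of_epi _
  have hXP : ∀ i, P ((DerivedCategory.homologyFunctor A i).obj X) := by
    intro i
    by_cases hi : a ≤ i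
    · exact hP0 _ (hge i hi)
    · have := hlt i (by omega)
      exact P.prop_of_iso (asIso ((DerivedCategory.homologyFunctor A i).map f)).symm (hK i)
  have hXLE : X.IsLE (a - 1) := by
    rw [DerivedCategory.isLE_iff]
    intro i hi
    exact hge i (by omega)
  have hFT := F.map_distinguished _ hT
  have hz : ∀ i, a - 1 + e < i → IsZero ((DerivedCategory.homologyFunctor B i).obj (F.obj X)) :=
    fun i hi => hF X (a - 1) hXP hXLE i hi
  have hmono : Mono ((DerivedCategory.homologyFunctor B m).map (F.map φ)) :=
    (DerivedCategory.HomologySequence.mono_homologyMap_mor₂_iff _ hFT m).2 ((hz m hm).eq_of_src _ _)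
  have hepi : Epi ((DerivedCategory.homologyFunctor B m).map (F.map φ)) :=
    (DerivedCategory.HomologySequence.epi_homologyMap_mor₂_iff _ hFT m (m + 1) rfl).2
      ((hz (m + 1) (by omega)).eq_of_tgt _ _)
  exact isIso_of_mono_of_epi _

variable [EnoughInjectives A] {J : Type t} [HasCoproductsOfShape J A] [HasExactColimitsOfShape (Discrete J) A]
  [HasCoproductsOfShape J B] [HasExactColimitsOfShape (Discrete J) B]

/-- A triangulated functor bounded on the complexes with cohomology in `P`, commuting with coproducts of uniformly
bounded below families, commutes with coproducts of families of complexes with cohomology in `P`. -/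
theorem preservesColimit_of_boundedOn (hP0 : ∀ Z : A, IsZero Z → P Z) (hPJ : ∀ Z : J → A, (∀ j, P (Z j)) → P (∐ Z))
    {e : ℤ} (hF : BoundedOn F P e)
    (hge : ∀ (K : J → DerivedCategory A) (a : ℤ), (∀ j, (K j).IsGE a) → PreservesColimit (Discrete.functor K) F)
    (K : J → DerivedCategory A) (hK : ∀ j i, P ((DerivedCategory.homologyFunctor A i).obj (K j))) :
    PreservesColimit (Discrete.functor K) F := by
  suffices h : IsIso (sigmaComparison F K) from PreservesCoproduct.of_iso_comparison F K
  rw [DerivedCategory.isIso_iff]
  intro m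
  choose I φ hI hI2 h1 h2 using fun j => exists_trunc (K j) (m - e)
  have hIge : ∀ j, (DerivedCategory.Q.obj (I j)).IsGE (m - e) := fun j => by
    have := hI j
    infer_instance
  have hP := hge (fun j => DerivedCategory.Q.obj (I j)) (m - e) hIge
  have hsig : IsIso (sigmaComparison F fun j => DerivedCategory.Q.obj (I j)) := inferInstance
  have hnat := sigmaComparison_naturality F φ
  have g1 : IsIso ((DerivedCategory.homologyFunctor B m).map (Limits.Sigma.map fun j => F.map (φ j))) :=
    isIso_map_sigmaMap _ _ (fun j => isIso_homology_map hP0 hF (φ j) (m - e) (hIge j) (h1 j) (hK j) m (by omega))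
  have hcop : ∀ i : ℤ, P ((DerivedCategory.homologyFunctor A i).obj (∐ K)) := fun i =>
    P.prop_of_iso (asIso (sigmaComparison (DerivedCategory.homologyFunctor A i) K)) (hPJ _ fun j => hK j i)
  have hGE : (∐ fun j => DerivedCategory.Q.obj (I j)).IsGE (m - e) := by
    rw [DerivedCategory.isGE_iff]
    intro i hi
    refine IsZero.of_iso ?_ (asIso (sigmaComparison (DerivedCategory.homologyFunctor A i)
      fun j => DerivedCategory.Q.obj (I j))).symm
    rw [IsZero.iff_id_eq_zero]
    apply Sigma.hom_ext
    intro j
    have := hIge j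
    exact (DerivedCategory.isZero_of_isGE (DerivedCategory.Q.obj (I j)) (m - e) i hi).eq_of_src _ _
  have g2 : IsIso ((DerivedCategory.homologyFunctor B m).map (F.map (Limits.Sigma.map φ))) :=
    isIso_homology_map hP0 hF (Limits.Sigma.map φ) (m - e) hGE
      (fun i hi => isIso_map_sigmaMap _ _ (fun j => h1 j i hi)) hcop m (by omega)
  have g3 := congrArg (DerivedCategory.homologyFunctor B m).map hnat
  rw [Functor.map_comp, Functor.map_comp] at g3
  have g4 : IsIso ((DerivedCategory.homologyFunctor B m).map (sigmaComparison F K) ≫
      (DerivedCategory.homologyFunctor B m).map (F.map (Limits.Sigma.map φ))) := by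
    rw [← g3]
    infer_instance
  exact IsIso.of_isIso_comp_right _ ((DerivedCategory.homologyFunctor B m).map (F.map (Limits.Sigma.map φ)))

end K181.CoprodBound

namespace K181.PushCoprod

open K29.RSec Groth.Agent.Etrest TopologicalSpace

attribute [local instance] HasDerivedCategory.standard

variable {T₁ T₂ : TopCat.{u}} {O₁ : Sheaf (Opens.grothendieckTopology T₁) CommRingCat.{u}}
  {O₂ : Sheaf (Opens.grothendieckTopology T₂) CommRingCat.{u}} (f : ModSite.RMor O₁ O₂)

/-- Direct sums of modules are exact. -/
theorem hasExact (O : Sheaf (Opens.grothendieckTopology T₁) CommRingCat.{u}) (J : Type u) :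
    HasExactColimitsOfShape (Discrete J) (ModSite.Mod O) := by
  have := K578.Der.isGrothendieckAbelian O
  have h : AB4OfSize.{u} (ModSite.Mod O) := inferInstance
  exact AB4OfSize.ofShape J

/-- `Rf_*` commutes with direct sums of uniformly bounded below families, on a Noetherian space. -/
theorem preservesColimit_RpushD_of_isGE [NoetherianSpace T₁] [SiteCmp.HasRpushD f] {J : Type u}
    (K : J → DerivedCategory (ModSite.Mod O₁)) (a : ℤ) (hK : ∀ j, (K j).IsGE a) :
    PreservesColimit (Discrete.functor K) (SiteCmp.RpushD f) := by
  have := K578.Der.enoughInjectives O₁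
  have := K578.Der.isGrothendieckAbelian O₁
  have := K578.Der.isGrothendieckAbelian O₂
  have := hasExact O₁ J
  have := hasExact O₂ J
  have := preservesCoproducts_push f J
  have := K578.LocZero.preservesFiniteLimits_push f
  exact RCoprod.preservesCoproduct (K578.Der.hasKInj O₁) (SiteCmp.RpushD f) (K578.Der.rpushUnit f)
    (fun I hI => isAcyc_sigma f I hI) K a hK

/-- `Rf_*` commutes with direct sums of complexes with cohomology in a class on which it is bounded. -/
theorem preservesColimit_RpushD [NoetherianSpace T₁] [SiteCmp.HasRpushD f] {J : Type u}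
    (P : ObjectProperty (ModSite.Mod O₁)) [P.IsClosedUnderIsomorphisms] (hP0 : ∀ Z, IsZero Z → P Z)
    (hPJ : ∀ Z : J → ModSite.Mod O₁, (∀ j, P (Z j)) → P (∐ Z)) (e : ℤ)
    (hF : letI := K578.Der.rpushCommShift f; K181.CoprodBound.BoundedOn (SiteCmp.RpushD f) P e)
    (K : J → DerivedCategory (ModSite.Mod O₁))
    (hK : ∀ j i, P ((DerivedCategory.homologyFunctor (ModSite.Mod O₁) i).obj (K j))) :
    PreservesColimit (Discrete.functor K) (SiteCmp.RpushD f) := by
  letI := K578.Der.rpushCommShift f
  have := K578.Der.rpush_isTriangulated f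
  have := K578.Der.enoughInjectives O₁
  have := K578.Der.isGrothendieckAbelian O₁
  have := K578.Der.isGrothendieckAbelian O₂
  have := hasExact O₁ J
  have := hasExact O₂ J
  exact K181.CoprodBound.preservesColimit_of_boundedOn hP0 hPJ hF
    (fun K a hK => preservesColimit_RpushD_of_isGE f K a hK) K hK

end K181.PushCoprod
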