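import Mathlib.RingTheory.Localization.BaseChange
import Mathlib.LinearAlgebra.TensorProduct.RightExactness
import Mathlib.RingTheory.Flat.Basic

/-!
# Localization after reduction modulo an ideal

`A → B₁ → B₂`, `I ⊂ A`, `Bᵢ → Lᵢ` surjective with kernel `I Bᵢ` and `L₂` the localization of `L₁` at `f ∈ A`.  Then for a
module `N` killed by `I`, `B₂ ⊗ N` is the localization of `B₁ ⊗ N` at `f`, elementwise.
-/

set_option autoImplicit false
universe u

open TensorProduct

namespace K181.LocAlg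

variable {A : Type u} [CommRing A] (I : Ideal A)

theorem tmul_eq_zero {B N : Type u} [CommRing B] [Algebra A B] [AddCommGroup N] [Module A N]
    (hN : ∀ a ∈ I, ∀ x : N, a • x = 0) {b : B} (hb : b ∈ I.map (algebraMap A B)) (x : N) :
    (b ⊗ₜ x : B ⊗[A] N) = 0 := by
  refine Submodule.span_induction (p := fun b _ => (b ⊗ₜ x : B ⊗[A] N) = 0) ?_ ?_ ?_ ?_ hb
  · rintro _ ⟨a, ha, rfl⟩
    rw [Algebra.algebraMap_eq_smul_one, smul_tmul, hN a ha, tmul_zero]
  · rw [zero_tmul]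
  · intro y z _ _ hy hz
    rw [add_tmul, hy, hz, add_zero]
  · intro c y _ hy
    have h : ((c • y) ⊗ₜ x : B ⊗[A] N) = c • (y ⊗ₜ x) := by rw [smul_tmul']
    rw [h, hy, smul_zero]

theorem bijective_rTensor {B L N : Type u} [CommRing B] [Algebra A B] [CommRing L] [Algebra A L]
    [AddCommGroup N] [Module A N] (hN : ∀ a ∈ I, ∀ x : N, a • x = 0) (q : B →ₐ[A] L) (hq : Function.Surjective q)
    (hk : ∀ b, q b = 0 → b ∈ I.map (algebraMap A B)) : Function.Bijective (q.toLinearMap.rTensor N) := by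
  refine ⟨?_, LinearMap.rTensor_surjective N hq⟩
  rw [injective_iff_map_eq_zero]
  intro x hx
  have hex := rTensor_exact N (LinearMap.exact_subtype_ker_map q.toLinearMap) hq
  obtain ⟨y, rfl⟩ := (hex x).1 hx
  induction y using TensorProduct.induction_on with
  | zero => rw [map_zero]
  | tmul b n =>
    rw [LinearMap.rTensor_tmul]
    exact tmul_eq_zero I hN (hk _ b.2) n
  | add y z hy hz =>
    rw [map_add, hy (hex.apply_apply_eq_zero y), hz (hex.apply_apply_eq_zero z), add_zero]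

variable (f : A) {B1 B2 L1 L2 N : Type u} [CommRing B1] [CommRing B2] [CommRing L1] [CommRing L2] [Algebra A B1]
  [Algebra A B2] [Algebra A L1] [Algebra A L2] [AddCommGroup N] [Module A N] (hN : ∀ a ∈ I, ∀ x : N, a • x = 0)
  (ρ : B1 →ₐ[A] B2) (l : L1 →ₐ[A] L2) (q1 : B1 →ₐ[A] L1) (q2 : B2 →ₐ[A] L2) (sq : ∀ b, q2 (ρ b) = l (q1 b))
  (hq1 : Function.Surjective q1) (hk1 : ∀ b, q1 b = 0 → b ∈ I.map (algebraMap A B1))
  (hq2 : Function.Surjective q2) (hk2 : ∀ b, q2 b = 0 → b ∈ I.map (algebraMap A B2))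
  [hl : IsLocalizedModule (Submonoid.powers f) l.toLinearMap]

include sq in
theorem sq_rTensor (x : B1 ⊗[A] N) : q2.toLinearMap.rTensor N (ρ.toLinearMap.rTensor N x) =
    l.toLinearMap.rTensor N (q1.toLinearMap.rTensor N x) := by
  rw [← LinearMap.comp_apply, ← LinearMap.comp_apply, ← LinearMap.rTensor_comp, ← LinearMap.rTensor_comp]
  congr 2
  ext b
  exact sq b

include hN sq hq1 hk1 in
theorem exists_smul_eq_zero (x : B1 ⊗[A] N) (hx : ρ.toLinearMap.rTensor N x = 0) : ∃ n : ℕ, f ^ n • x = 0 := by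
  have h1 := sq_rTensor ρ l q1 q2 sq x
  rw [hx, map_zero] at h1
  have hl' : IsLocalizedModule (Submonoid.powers f) (l.toLinearMap.rTensor N) :=
    IsLocalizedModule.rTensor (R := A) (A := A) (Submonoid.powers f) l.toLinearMap
  obtain ⟨⟨_, n, rfl⟩, hc⟩ := (IsLocalizedModule.eq_zero_iff (Submonoid.powers f) (l.toLinearMap.rTensor N)).1 h1.symm
  refine ⟨n, (injective_iff_map_eq_zero _).1 (bijective_rTensor I hN q1 hq1 hk1).1 _ ?_⟩
  rw [map_smul]
  exact hc

include hN sq hq1 hq2 hk2 in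
theorem exists_smul_eq (y : B2 ⊗[A] N) : ∃ (n : ℕ) (x : B1 ⊗[A] N), ρ.toLinearMap.rTensor N x = f ^ n • y := by
  have hl' : IsLocalizedModule (Submonoid.powers f) (l.toLinearMap.rTensor N) :=
    IsLocalizedModule.rTensor (R := A) (A := A) (Submonoid.powers f) l.toLinearMap
  obtain ⟨⟨x', ⟨_, n, rfl⟩⟩, hx'⟩ := IsLocalizedModule.surj (Submonoid.powers f) (l.toLinearMap.rTensor N)
    (q2.toLinearMap.rTensor N y)
  obtain ⟨x, rfl⟩ := LinearMap.rTensor_surjective N (g := q1.toLinearMap) hq1 x'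
  refine ⟨n, x, (bijective_rTensor I hN q2 hq2 hk2).1 ?_⟩
  rw [map_smul, sq_rTensor ρ l q1 q2 sq]
  exact hx'.symm

end K181.LocAlg
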