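import Groth.Agent.FSch.K181.Mat
import Groth.Agent.FSch.K181.LocAlg
import Groth.Agent.CohqA.CechLoc

/-!
# Exactness of augmented Čech complexes of localization type, and for all modules over complete rings
-/

set_option autoImplicit false
set_option linter.style.haveILetI false
universe u

open CategoryTheory TopologicalSpace Opposite TensorProduct

noncomputable section

namespace K181.Loc

open K29.RSec K181.BC K181.Pre K181.Mat Groth.Agent.CohqA Groth.Agent.CohqA.CechBasic Groth.Agent.CohqA.CechSheaf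

variable {T : TopCat.{u}}

/-- Augmented Čech complexes of presheaves of localization type are exact. -/
theorem cgood_of_loc {ι : Type u} [Finite ι] {U : Opens T} {W : ι → Opens T} (hW : ∀ k, W k ≤ U)
    (P : TopCat.Presheaf AddCommGrpCat.{u} T) {A : Type u} [CommRing A] [∀ V : Opens T, Module A (P.obj (op V))]
    (hlin : ∀ {V V' : Opens T} (h : V ≤ V') (a : A) (x : P.obj (op V')),
      CechBasic.res P h (a • x) = a • CechBasic.res P h x)
    (f : ι → A) (hf : Ideal.span (Set.range f) = ⊤) (𝒱 : Set (Opens T)) (hU : U ∈ 𝒱) (hW1 : ∀ k, W k ∈ 𝒱)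
    (hW2 : ∀ (p : ℕ) (i : Fin (p + 1) → ι), ⨅ a, W (i a) ∈ 𝒱)
    (L1 : ∀ (k : ι), ∀ V ∈ 𝒱, ∀ (x : P.obj (op V)),
      CechBasic.res P (inf_le_right : W k ⊓ V ≤ V) x = 0 → ∃ n : ℕ, f k ^ n • x = 0)
    (L2 : ∀ (k : ι), ∀ V ∈ 𝒱, ∀ (y : P.obj (op (W k ⊓ V))),
      ∃ (n : ℕ) (x : P.obj (op V)), CechBasic.res P (inf_le_right : W k ⊓ V ≤ V) x = f k ^ n • y) :
    CGood hW P := by
  cases nonempty_fintype ι
  have hspan : ∀ n : ℕ, ∃ c : ι → A, ∑ k, c k * f k ^ n = 1 := by
    intro n
    have e5 : Ideal.span (Set.range fun k => f k ^ n) = ⊤ := by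
      have := Ideal.span_pow_eq_top _ hf n
      rwa [← Set.range_comp] at this
    exact (Ideal.mem_span_range_iff_exists_fun (R := A)).1 ((Ideal.eq_top_iff_one _).1 e5)
  refine ⟨fun x hx => ?_, fun t ht => ?_, fun p s hs => ?_⟩
  · have h1 : ∀ k, ∃ n : ℕ, f k ^ n • x = 0 := fun k => L1 k U hU x (by
      rw [← CechBasic.res_res P (inf_le_left : W k ⊓ U ≤ W k) (hW k), hx, map_zero])
    choose n hn using h1
    obtain ⟨N, hN⟩ := Finite.exists_le n
    obtain ⟨c, hc⟩ := hspan N
    rw [← one_smul A x, ← hc, Finset.sum_smul]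
    refine Finset.sum_eq_zero fun k _ => ?_
    rw [← Nat.sub_add_cancel (hN k), pow_add, mul_smul, mul_smul, hn, smul_zero, smul_zero]
  · have h1 : ∀ k, ∃ (n : ℕ) (x : P.obj (op U)), CechBasic.res P (hW k) x = f k ^ n • t k := by
      intro k
      obtain ⟨n, x, hx⟩ := L2 k U hU (CechBasic.res P inf_le_left (t k))
      refine ⟨n, x, ?_⟩
      have e := congrArg (CechBasic.res P (le_inf le_rfl (hW k) : W k ≤ W k ⊓ U)) hx
      rw [CechBasic.res_res, hlin, CechBasic.res_res] at e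
      exact e.trans (congrArg _ (CechBasic.res_self P (t k)))
    choose n x hx using h1
    obtain ⟨N, hN⟩ := Finite.exists_le n
    obtain ⟨x', hx'⟩ : ∃ x' : ι → P.obj (op U), ∀ k, CechBasic.res P (hW k) (x' k) = f k ^ N • t k := 
      ⟨fun k => f k ^ (N - n k) • x k, fun k => by
        rw [hlin, hx, smul_smul, ← pow_add, Nat.sub_add_cancel (hN k)]⟩
    have h2 : ∀ q : ι × ι, ∃ m : ℕ, f q.1 ^ m • (CechBasic.res P (hW q.2) (x' q.1) - f q.1 ^ N • t q.2) = 0 := by
      rintro ⟨k, l⟩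
      refine L1 k (W l) (hW1 l) _ ?_
      have e := congrArg (CechBasic.res P (inf_le_left : W k ⊓ W l ≤ W k)) (hx' k)
      rw [CechBasic.res_res, hlin, ht k l] at e
      rw [map_sub, hlin, CechBasic.res_res, e, sub_self]
    choose m hm using h2
    obtain ⟨L, hL⟩ := Finite.exists_le m
    have h3 : ∀ k l, f k ^ L • CechBasic.res P (hW l) (x' k) = f k ^ (L + N) • t l := by
      intro k l
      have e := hm (k, l)
      dsimp only at e
      rw [← sub_eq_zero, pow_add, mul_smul, ← smul_sub, ← Nat.sub_add_cancel (hL (k, l)), pow_add, mul_smul, e,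
        smul_zero]
    obtain ⟨c, hc⟩ := hspan (L + N)
    refine ⟨∑ k, (c k * f k ^ L) • x' k, fun l => ?_⟩
    rw [map_sum]
    have e : ∀ k, CechBasic.res P (hW l) ((c k * f k ^ L) • x' k) = (c k * f k ^ (L + N)) • t l := by
      intro k
      rw [hlin, mul_smul, h3, ← mul_smul]
    rw [Finset.sum_congr rfl fun k _ => e k, ← Finset.sum_smul, hc, one_smul]
  · exact CechLoc.exact_of_localization W P (A := A) hlin f hf p (fun k i x hx => L1 k _ (hW2 _ i) x hx)
      (fun k i y => L2 k _ (hW2 _ i) y) s hs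

section Complete

variable {R : Sheaf (Opens.grothendieckTopology T) CommRingCat.{u}}

/-- The arrow `P(U) → ∏ P(W k)`. -/
def arr1 {ι : Type u} {U : Opens T} {W : ι → Opens T} (hW : ∀ k, W k ≤ U) : Arr (fun _ : PUnit.{u + 1} => U) W where
  m := 1
  ε _ := 1
  a _ _ := PUnit.unit
  le b _ := hW b

/-- The zero arrow. -/
def arr0 {β : Type u} (V : β → Opens T) : Arr (fun _ : PEmpty.{u + 1} => (⊤ : Opens T)) V where
  m := 0
  ε j := j.elim0
  a _ j := j.elim0
  le _ j := j.elim0

/-- The arrow `∏ P(W k) → ∏ P(W k ⊓ W l)`. -/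
def arr2 {ι : Type u} (W : ι → Opens T) : Arr W (fun q : ι × ι => W q.1 ⊓ W q.2) where
  m := 2
  ε := ![1, -1]
  a q := ![q.1, q.2]
  le q j := by
    fin_cases j
    · exact inf_le_left
    · exact inf_le_right

/-- The Čech differentials. -/
def arrC {ι : Type u} (W : ι → Opens T) (p : ℕ) :
    Arr (fun i : Fin (p + 1) → ι => ⨅ a, W (i a)) (fun i : Fin (p + 2) → ι => ⨅ a, W (i a)) where
  m := p + 2
  ε j := (-1) ^ (j : ℕ)
  a i j := i ∘ j.succAbove
  le i j := le_face W i j

theorem arrC_d {ι : Type u} (W : ι → Opens T) (p : ℕ) (P : TopCat.Presheaf AddCommGrpCat.{u} T)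
    (s : Cochain W P p) (i : Fin (p + 2) → ι) : (arrC W p).d P s i = dC W P p s i := rfl

theorem arr1_d {ι : Type u} {U : Opens T} {W : ι → Opens T} (hW : ∀ k, W k ≤ U)
    (P : TopCat.Presheaf AddCommGrpCat.{u} T) (s : PUnit.{u + 1} → P.obj (op U)) (k : ι) :
    (arr1 hW).d P s k = CechBasic.res P (hW k) (s PUnit.unit) := by
  refine (Fin.sum_univ_one _).trans ?_
  exact one_smul _ _

theorem arr2_d {ι : Type u} (W : ι → Opens T) (P : TopCat.Presheaf AddCommGrpCat.{u} T)
    (s : ∀ k, P.obj (op (W k))) (q : ι × ι) :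
    (arr2 W).d P s q = CechBasic.res P (inf_le_left : W q.1 ⊓ W q.2 ≤ W q.1) (s q.1) - 
      CechBasic.res P (inf_le_right : W q.1 ⊓ W q.2 ≤ W q.2) (s q.2) := by
  refine (Fin.sum_univ_two _).trans ?_
  rw [sub_eq_add_neg]
  refine congrArg₂ _ (one_smul _ _) ?_
  exact (neg_smul _ _).trans (congrArg _ (one_smul _ _))

theorem dO_eq_d {α β : Type u} {V0 : α → Opens T} {V1 : β → Opens T} (D : Arr V0 V1) (U : Opens T)
    (s : ∀ a, OA R U (V0 a)) (b : β) : D.dO U s b = D.d (OP (R := R) U) s b := Arr.dO_apply D U s b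

variable {ι : Type u} [Finite ι] {U : Opens T} {W : ι → Opens T} (hW : ∀ k, W k ≤ U) (I : Ideal (O R U))
    (𝒱 : Set (Opens T)) (hU : U ∈ 𝒱) (hW1 : ∀ k, W k ∈ 𝒱) (hW2 : ∀ k l, W k ⊓ W l ∈ 𝒱)
    (hW3 : ∀ (p : ℕ) (i : Fin (p + 1) → ι), ⨅ a, W (i a) ∈ 𝒱)
    (hflat : ∀ V ∈ 𝒱, Module.Flat (O R U) (OA R U V)) (hn : ∀ V ∈ 𝒱, IsNoetherianRing (OA R U V))
    (hc : ∀ V ∈ 𝒱, IsAdicComplete (I.map (algebraMap (O R U) (OA R U V))) (OA R U V))
    (hI : ∀ (N : Type u) [AddCommGroup N] [Module (O R U) N], (∀ a ∈ I, ∀ x : N, a • x = 0) →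
      CGood hW (TP R U N).ab)

include hW2 hU hW1 hW3 hflat hn hc hI

/-- Exactness of the augmented Čech complexes for modules killed by `I` implies it for all modules. -/
theorem cgood_of_torsion (M : Type u) [AddCommGroup M] [Module (O R U) M] : CGood hW (TP R U M).ab := by
  refine ⟨fun x hx => ?_, fun t ht => ?_, fun p s hs => ?_⟩
  · have key : ∃ t, ∀ b, (arr0 fun _ : PUnit.{u + 1} => U).d (TP R U M).ab t b = (fun _ => x) b := by
      refine exact_of_torsion (R := R) U M I (arr0 fun _ : PUnit.{u + 1} => U) (arr1 hW)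
        (fun s => funext fun c => ?_) (fun c => hflat _ (hW1 c)) (fun a => a.elim) (fun _ => hn U hU)
        (fun a => a.elim) (fun _ => hc U hU) (fun N _ _ hN s hs => ?_) (fun _ => x) (fun c => ?_)
      · rw [dO_eq_d, arr1_d]
        exact map_zero _
      · refine ⟨fun a => a.elim, fun b => ?_⟩
        refine ((hI N hN).sep _ fun k => ?_).symm
        rw [← arr1_d hW]
        exact hs k
      · rw [arr1_d]
        exact hx c
    obtain ⟨t, h⟩ := key
    exact (h PUnit.unit).symm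
  · have key : ∃ x, ∀ b, (arr1 hW).d (TP R U M).ab x b = t b := by
      refine exact_of_torsion (R := R) U M I (arr1 hW) (arr2 W) (fun s => funext fun c => ?_)
        (fun c => hflat _ (hW2 c.1 c.2)) (fun _ => hn U hU) (fun k => hn _ (hW1 k))
        (fun _ => hc U hU) (fun k => hc _ (hW1 k)) (fun N _ _ hN s hs => ?_) t (fun c => ?_)
      · rw [dO_eq_d, arr2_d]
        have e : ∀ k, (arr1 hW).dO U s k = CechBasic.res (OP (R := R) U) (hW k) (s PUnit.unit) := fun k => by
          rw [dO_eq_d, arr1_d]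
        rw [e, e, CechBasic.res_res, CechBasic.res_res, sub_self]
        rfl
      · obtain ⟨x, hx⟩ := (hI N hN).glue s fun k l => by
          have := hs (k, l)
          rw [arr2_d, sub_eq_zero] at this
          exact this
        exact ⟨fun _ => x, fun k => by rw [arr1_d]; exact hx k⟩
      · rw [arr2_d, ht, sub_self]
    obtain ⟨x, h⟩ := key
    refine ⟨x PUnit.unit, fun k => ?_⟩
    rw [← h k, arr1_d]
  · have key : ∃ x, ∀ b, (arrC W p).d (TP R U M).ab x b = s b := by
      refine exact_of_torsion (R := R) U M I (arrC W p) (arrC W (p + 1)) (fun s => funext fun c => ?_)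
        (fun c => hflat _ (hW3 _ c)) (fun i => hn _ (hW3 _ i)) (fun k => hn _ (hW3 _ k))
        (fun i => hc _ (hW3 _ i)) (fun k => hc _ (hW3 _ k)) (fun N _ _ hN s hs => ?_) s (fun c => ?_)
      · have h1 : (arrC W p).dO U s = dC W (OP (R := R) U) p s := funext fun i => dO_eq_d _ _ _ _
        rw [dO_eq_d, h1]
        exact congrFun (dC_dC W (OP (R := R) U) p s) c
      · obtain ⟨x, hx⟩ := (hI N hN).cech p s (funext fun i => hs i)
        exact ⟨x, fun k => congrFun hx k⟩
      · exact congrFun hs c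
    obtain ⟨x, h⟩ := key
    exact ⟨x, funext h⟩

end Complete

end K181.Loc
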