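import Groth.Agent.FSch.K181.Coh
import Groth.Agent.FSch.K181.Colim
import Groth.Agent.FSch.K181.Loc
import Groth.Agent.FTors.K919.AffFlat

/-!
# The good family of affine opens of a locally Noetherian formal system

`fcov h𝔛 : GoodCov (𝔛.Osh h𝔛.1)`: the affine opens of `𝔛.X 0`, coverings by basic opens.
-/

set_option autoImplicit false
set_option linter.style.haveILetI false
universe u

open CategoryTheory TopologicalSpace Opposite TensorProduct AlgebraicGeometry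

noncomputable section

namespace K181.Formal

open K29.RSec K181.BC K181.Pre K181.Mat K181.Loc K181.Good K919.AffBasic K919.AffFlat Groth.Agent.CohqA

variable {𝔛 : FSch.Sys.{u}} (h𝔛 : 𝔛.IsLocNoethFormal)

/-- The sheaf of rings. -/
abbrev RR : Sheaf (Opens.grothendieckTopology (𝔛.X 0)) CommRingCat.{u} := 𝔛.Osh h𝔛.1

theorem aff {U : (𝔛.X 0).Opens} (hU : IsAffineOpen U) : IsAffineOpen (𝔛.lvU h𝔛.1 0 U) := by
  rw [lvU_zero]; exact hU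

/-- The basic open of a section. -/
def Dp {U : (𝔛.X 0).Opens} (f : O (RR h𝔛) U) : (𝔛.X 0).Opens :=
  (𝔛.X 0).basicOpen (show Γ(𝔛.X 0, 𝔛.lvU h𝔛.1 0 U) from pr 𝔛 h𝔛.1 0 U f)

theorem Dp_le {U : (𝔛.X 0).Opens} (f : O (RR h𝔛) U) : Dp h𝔛 f ≤ U :=
  ((𝔛.X 0).basicOpen_le _).trans (lvU_zero 𝔛 h𝔛.1 U).le

theorem Dp_resO {U V : (𝔛.X 0).Opens} (hVU : V ≤ U) (f : O (RR h𝔛) U) :
    Dp h𝔛 (resO (R := RR h𝔛) hVU f) = V ⊓ Dp h𝔛 f := by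
  have e : pr 𝔛 h𝔛.1 0 V (resO (R := RR h𝔛) hVU f) = rsL 𝔛 h𝔛.1 0 hVU (pr 𝔛 h𝔛.1 0 U f) := pr_rs 𝔛 h𝔛.1 0 hVU f
  rw [Dp, e]
  refine ((𝔛.X 0).basicOpen_res _ _).trans ?_
  rw [lvU_zero]
  rfl

theorem isAffineOpen_Dp {U : (𝔛.X 0).Opens} (hU : IsAffineOpen U) (f : O (RR h𝔛) U) : IsAffineOpen (Dp h𝔛 f) :=
  (aff h𝔛 hU).basicOpen _

theorem isAffineOpen_Dp_inf {U V : (𝔛.X 0).Opens} (hVU : V ≤ U) (hV : IsAffineOpen V) (f : O (RR h𝔛) U) :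
    IsAffineOpen (Dp h𝔛 f ⊓ V) := by
  rw [inf_comm, ← Dp_resO h𝔛 hVU f]
  exact isAffineOpen_Dp h𝔛 hV _

/-- The good coverings. -/
def FCov (U : (𝔛.X 0).Opens) (ι : Type u) (W : ι → (𝔛.X 0).Opens) : Prop :=
  Finite ι ∧ ∃ f : ι → O (RR h𝔛) U, Ideal.span (Set.range f) = ⊤ ∧ ∀ k, W k = Dp h𝔛 (f k)

theorem iInf_affine {U : (𝔛.X 0).Opens} (hU : IsAffineOpen U) {ι : Type u} {W : ι → (𝔛.X 0).Opens}
    (hW : FCov h𝔛 U ι W) : ∀ (p : ℕ) (i : Fin (p + 1) → ι), IsAffineOpen (⨅ a, W (i a)) := by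
  obtain ⟨_, f, hf, hWf⟩ := hW
  intro p
  induction p with
  | zero =>
    intro i
    have e : ⨅ a, W (i a) = W (i 0) := by
      apply le_antisymm (iInf_le _ 0)
      refine le_iInf fun a => ?_
      have : a = 0 := Fin.fin_one_eq_zero a
      rw [this]
    rw [e, hWf]
    exact isAffineOpen_Dp h𝔛 hU _
  | succ p ih =>
    intro i
    have e := CechLoc.inf_eq_iInf_cons W (i 0) (Fin.tail i)
    rw [Fin.cons_self_tail] at e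
    rw [e, hWf (i 0)]
    refine isAffineOpen_Dp_inf h𝔛 ((iInf_le _ 0).trans ?_) (ih _) _
    rw [hWf]
    exact Dp_le h𝔛 _

/-- An ideal generating the unit ideal modulo `II` is the unit ideal. -/
theorem eq_top_of_map {U : (𝔛.X 0).Opens} (hU : IsAffineOpen U) (J : Ideal (OU 𝔛 h𝔛.1 U))
    (hJ : J.map (pr 𝔛 h𝔛.1 0 U) = ⊤) : J = ⊤ := by
  have h1 := Ideal.comap_map_of_surjective (pr 𝔛 h𝔛.1 0 U) (pr_surjective h𝔛 (aff h𝔛 hU) 0) J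
  rw [hJ, Ideal.comap_top] at h1
  have h2 : (1 : OU 𝔛 h𝔛.1 U) ∈ J ⊔ Ideal.comap (pr 𝔛 h𝔛.1 0 U) ⊥ := by rw [← h1]; trivial
  obtain ⟨j, hj, i, hi, e⟩ := Submodule.mem_sup.1 h2
  have hc := isAdicComplete h𝔛 (aff h𝔛 hU)
  have hi' : i ∈ II 𝔛 h𝔛.1 U := hi
  have h3 := IsAdicComplete.le_jacobson_bot (II 𝔛 h𝔛.1 U) hi'
  rw [Ideal.mem_jacobson_bot] at h3
  have h4 := h3 (-1)
  have h5 : i * -1 + 1 = j := by linear_combination (-1 : OU 𝔛 h𝔛.1 U) * e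
  rw [h5] at h4
  exact Ideal.eq_top_of_isUnit_mem _ hj h4

theorem cov_sup {U : (𝔛.X 0).Opens} (hU : IsAffineOpen U) {ι : Type u} {W : ι → (𝔛.X 0).Opens}
    (hW : FCov h𝔛 U ι W) : iSup W = U := by
  obtain ⟨_, f, hf, hWf⟩ := hW
  let f' : ι → Γ(𝔛.X 0, 𝔛.lvU h𝔛.1 0 U) := fun k => pr 𝔛 h𝔛.1 0 U (f k)
  have h1 : Ideal.span (Set.range f') = ⊤ := by
    have h2 : Set.range f' = (pr 𝔛 h𝔛.1 0 U) '' (Set.range f) := by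
      rw [← Set.range_comp]; rfl
    rw [h2]
    exact (Ideal.map_span (pr 𝔛 h𝔛.1 0 U) (Set.range f)).symm.trans
      ((congrArg (Ideal.map (pr 𝔛 h𝔛.1 0 U)) hf).trans (Ideal.map_top _))
  have h3 := ((aff h𝔛 hU).iSup_basicOpen_eq_self_iff).2 h1
  refine Eq.trans ?_ (h3.trans (lvU_zero 𝔛 h𝔛.1 U))
  refine le_antisymm (iSup_le fun k => ?_) (iSup_le ?_)
  · rw [hWf]
    exact le_iSup (fun f : Set.range f' => (𝔛.X 0).basicOpen (f : Γ(𝔛.X 0, 𝔛.lvU h𝔛.1 0 U))) ⟨f' k, k, rfl⟩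
  · rintro ⟨_, k, rfl⟩
    have : (𝔛.X 0).basicOpen (f' k) = W k := (hWf k).symm
    rw [this]
    exact le_iSup W k

theorem cov_refine {U : (𝔛.X 0).Opens} (hU : IsAffineOpen U) (κ : Type u) (V : κ → (𝔛.X 0).Opens) (hV : iSup V = U) :
    ∃ (ι : Type u) (W : ι → (𝔛.X 0).Opens), FCov h𝔛 U ι W ∧ ∀ i, ∃ k, W i ≤ V k := by
  have hx : ∀ x : U, ∃ (k : κ) (g : O (RR h𝔛) U), Dp h𝔛 g ≤ V k ∧ x.1 ∈ Dp h𝔛 g := by
    intro x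
    have hxV : x.1 ∈ iSup V := by rw [hV]; exact x.2
    obtain ⟨k, hk⟩ := Opens.mem_iSup.1 hxV
    have hxU : x.1 ∈ 𝔛.lvU h𝔛.1 0 U := by rw [lvU_zero]; exact x.2
    obtain ⟨g, hg1, hg2⟩ := (aff h𝔛 hU).exists_basicOpen_le ⟨x.1, hk⟩ hxU
    obtain ⟨g, rfl⟩ := pr_surjective h𝔛 (aff h𝔛 hU) 0 g
    exact ⟨k, g, hg1, hg2⟩
  choose k g hg1 hg2 using hx
  obtain ⟨S, hS⟩ := hU.isCompact.elim_finite_subcover (fun x : U => (Dp h𝔛 (g x) : Set (𝔛.X 0)))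
    (fun x => (Dp h𝔛 (g x)).isOpen) (fun x hx => Set.mem_iUnion.2 ⟨⟨x, hx⟩, hg2 _⟩)
  refine ⟨S, fun x => Dp h𝔛 (g x.1), ⟨inferInstance, fun x => g x.1, ?_, fun _ => rfl⟩, fun x => ⟨k x.1, hg1 _⟩⟩
  refine eq_top_of_map h𝔛 hU _ ?_
  refine (Ideal.map_span (pr 𝔛 h𝔛.1 0 U) _).trans ?_
  let f' : S → Γ(𝔛.X 0, 𝔛.lvU h𝔛.1 0 U) := fun x => pr 𝔛 h𝔛.1 0 U (g x.1)
  have h2 : (pr 𝔛 h𝔛.1 0 U) '' (Set.range fun x : S => g x.1) = Set.range f' := (Set.range_comp _ _).symm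
  refine (congrArg Ideal.span h2).trans ?_
  refine ((aff h𝔛 hU).self_le_iSup_basicOpen_iff (s := Set.range f')).1 fun x hx => ?_
  rw [lvU_zero] at hx
  obtain ⟨y, hy, hxy⟩ := Set.mem_iUnion₂.1 (hS hx)
  exact Opens.mem_iSup.2 ⟨⟨_, ⟨y, hy⟩, rfl⟩, hxy⟩

section Torsion

/-- `O_{X 0}(U ⊓ V)` as an algebra over `O_𝔛(U)`. -/
def LA (U V : (𝔛.X 0).Opens) : Type u := LU 𝔛 h𝔛.1 0 (U ⊓ V)

instance (U V : (𝔛.X 0).Opens) : CommRing (LA h𝔛 U V) := inferInstanceAs (CommRing (LU 𝔛 h𝔛.1 0 (U ⊓ V)))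

instance (U V : (𝔛.X 0).Opens) : Algebra (O (RR h𝔛) U) (LA h𝔛 U V) :=
  ((pr 𝔛 h𝔛.1 0 (U ⊓ V)).comp (resO (R := RR h𝔛) (inf_le_left : U ⊓ V ≤ U))).toAlgebra

/-- Restriction. -/
def rLA (U : (𝔛.X 0).Opens) {V W : (𝔛.X 0).Opens} (h : W ≤ V) : LA h𝔛 U V →ₐ[O (RR h𝔛) U] LA h𝔛 U W where
  toRingHom := rsL 𝔛 h𝔛.1 0 (inf_le_inf_left U h)
  commutes' a := by
    change rsL 𝔛 h𝔛.1 0 (inf_le_inf_left U h) (pr 𝔛 h𝔛.1 0 (U ⊓ V) (rs 𝔛 h𝔛.1 _ a)) = 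
      pr 𝔛 h𝔛.1 0 (U ⊓ W) (rs 𝔛 h𝔛.1 _ a)
    rw [← pr_rs]
    exact congrArg _ (resO_resO (R := RR h𝔛) _ _ a)

/-- Reduction to the smallest level. -/
def qLA (U V : (𝔛.X 0).Opens) : OA (RR h𝔛) U V →ₐ[O (RR h𝔛) U] LA h𝔛 U V where
  toRingHom := pr 𝔛 h𝔛.1 0 (U ⊓ V)
  commutes' _ := rfl

theorem isLocalizedModule_rLA {U V : (𝔛.X 0).Opens} (hVU : V ≤ U) (hV : IsAffineOpen V) (f : O (RR h𝔛) U) :
    IsLocalizedModule (Submonoid.powers f) (rLA h𝔛 U (inf_le_right : Dp h𝔛 f ⊓ V ≤ V)).toLinearMap := by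
  have e1 : U ⊓ V = V := inf_eq_right.2 hVU
  have hUV : IsAffineOpen (U ⊓ V) := by rw [e1]; exact hV
  let g : Γ(𝔛.X 0, 𝔛.lvU h𝔛.1 0 (U ⊓ V)) := pr 𝔛 h𝔛.1 0 (U ⊓ V) (resO (R := RR h𝔛) inf_le_left f)
  have e2 : 𝔛.lvU h𝔛.1 0 (U ⊓ (Dp h𝔛 f ⊓ V)) = (𝔛.X 0).basicOpen g := by
    have := Dp_resO h𝔛 (inf_le_left : U ⊓ V ≤ U) f
    refine (lvU_zero 𝔛 h𝔛.1 _).trans (Eq.trans ?_ this.symm)
    rw [inf_assoc, inf_comm V]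
  have hloc := (aff h𝔛 hUV).isLocalization_of_eq_basicOpen g
    (homOfLE ((Opens.map (𝔛.gInv h𝔛.1 0)).monotone (inf_le_inf_left U (inf_le_right : Dp h𝔛 f ⊓ V ≤ V)))) e2
  letI : Algebra (LA h𝔛 U V) (LA h𝔛 U (Dp h𝔛 f ⊓ V)) := (rLA h𝔛 U inf_le_right).toRingHom.toAlgebra
  haveI : IsScalarTower (O (RR h𝔛) U) (LA h𝔛 U V) (LA h𝔛 U (Dp h𝔛 f ⊓ V)) :=
    IsScalarTower.of_algebraMap_eq fun a => ((rLA h𝔛 U inf_le_right).commutes a).symm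
  have h3 : IsLocalization (Algebra.algebraMapSubmonoid (LA h𝔛 U V) (Submonoid.powers f))
      (LA h𝔛 U (Dp h𝔛 f ⊓ V)) := by
    rw [Algebra.algebraMapSubmonoid, Submonoid.map_powers]
    exact hloc
  have h4 := (isLocalizedModule_iff_isLocalization (S := Submonoid.powers f) (R := O (RR h𝔛) U) (A := LA h𝔛 U V)
    (Aₛ := LA h𝔛 U (Dp h𝔛 f ⊓ V))).2 h3
  exact h4

/-- The ideal of definition. -/
def IO (U : (𝔛.X 0).Opens) : Ideal (O (RR h𝔛) U) := II 𝔛 h𝔛.1 U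

theorem mem_map_of_qLA {U V : (𝔛.X 0).Opens} (hU : IsAffineOpen U) (hVU : V ≤ U) (hV : IsAffineOpen V)
    (b : OA (RR h𝔛) U V) (hb : qLA h𝔛 U V b = 0) : b ∈ (IO h𝔛 U).map (algebraMap (O (RR h𝔛) U) (OA (RR h𝔛) U V)) := by
  have e1 : U ⊓ V = V := inf_eq_right.2 hVU
  have hUV : IsAffineOpen (U ⊓ V) := by rw [e1]; exact hV
  have := map_II h𝔛 (aff h𝔛 hU) (aff h𝔛 hUV) inf_le_left
  have hb' : b ∈ II 𝔛 h𝔛.1 (U ⊓ V) := hb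
  rw [← this] at hb'
  exact hb'

theorem cgood_torsion {U : (𝔛.X 0).Opens} (hU : IsAffineOpen U) {ι : Type u} {W : ι → (𝔛.X 0).Opens}
    (hW : FCov h𝔛 U ι W) (hle : ∀ k, W k ≤ U) (N : Type u) [AddCommGroup N] [Module (O (RR h𝔛) U) N]
    (hN : ∀ a ∈ IO h𝔛 U, ∀ x : N, a • x = 0) : CGood hle (TP (RR h𝔛) U N).ab := by
  have haff := iInf_affine h𝔛 hU hW
  obtain ⟨hfin, f, hf, hWf⟩ := hW
  obtain rfl : W = fun k => Dp h𝔛 (f k) := funext hWf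
  letI : ∀ V : (𝔛.X 0).Opens, Module (O (RR h𝔛) U) ((TP (RR h𝔛) U N).ab.obj (op V)) := fun V =>
    inferInstanceAs (Module (O (RR h𝔛) U) (OA (RR h𝔛) U V ⊗[O (RR h𝔛) U] N))
  refine cgood_of_loc hle (TP (RR h𝔛) U N).ab (A := O (RR h𝔛) U) ?_ f hf {V | IsAffineOpen V ∧ V ≤ U}
    ⟨hU, le_rfl⟩ (fun k => ⟨isAffineOpen_Dp h𝔛 hU _, Dp_le h𝔛 _⟩) (fun p i => ⟨haff p i, (iInf_le _ 0).trans (hle _)⟩) ?_ ?_
  · intro V V' h a x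
    exact ((rOA (R := RR h𝔛) U h).toLinearMap.rTensor N).map_smul a x
  · rintro k V ⟨hV, hVU⟩ x hx
    have e1 : U ⊓ V = V := inf_eq_right.2 hVU
    have hUV : IsAffineOpen (U ⊓ V) := by rw [e1]; exact hV
    have := isLocalizedModule_rLA h𝔛 hVU hV (f k)
    exact LocAlg.exists_smul_eq_zero (IO h𝔛 U) (f k) hN (rOA (R := RR h𝔛) U inf_le_right)
      (rLA h𝔛 U inf_le_right) (qLA h𝔛 U V) (qLA h𝔛 U _) (fun b => pr_rs 𝔛 h𝔛.1 0 _ b)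
      (pr_surjective h𝔛 (aff h𝔛 hUV) 0) (mem_map_of_qLA h𝔛 hU hVU hV) x hx
  · rintro k V ⟨hV, hVU⟩ y
    have e1 : U ⊓ V = V := inf_eq_right.2 hVU
    have hUV : IsAffineOpen (U ⊓ V) := by rw [e1]; exact hV
    have hDV : IsAffineOpen (Dp h𝔛 (f k) ⊓ V) := isAffineOpen_Dp_inf h𝔛 hVU hV _
    have hDVU : Dp h𝔛 (f k) ⊓ V ≤ U := inf_le_right.trans hVU
    have e2 : U ⊓ (Dp h𝔛 (f k) ⊓ V) = Dp h𝔛 (f k) ⊓ V := inf_eq_right.2 hDVU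
    have hUDV : IsAffineOpen (U ⊓ (Dp h𝔛 (f k) ⊓ V)) := by rw [e2]; exact hDV
    have := isLocalizedModule_rLA h𝔛 hVU hV (f k)
    exact LocAlg.exists_smul_eq (IO h𝔛 U) (f k) hN (rOA (R := RR h𝔛) U inf_le_right)
      (rLA h𝔛 U inf_le_right) (qLA h𝔛 U V) (qLA h𝔛 U _) (fun b => pr_rs 𝔛 h𝔛.1 0 _ b)
      (pr_surjective h𝔛 (aff h𝔛 hUV) 0) (pr_surjective h𝔛 (aff h𝔛 hUDV) 0) (mem_map_of_qLA h𝔛 hU hDVU hDV) y

end Torsion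

/-- The good family of affine opens. -/
def fcov : GoodCov (RR h𝔛) where
  B := {U | IsAffineOpen U}
  Cov U ι W := IsAffineOpen U ∧ FCov h𝔛 U ι W
  basis := (𝔛.X 0).isBasis_affineOpens
  compact U hU := IsAffineOpen.isCompact hU
  flat {U V} h hU hV := flat_rs h𝔛 (aff h𝔛 hU) (aff h𝔛 hV) h
  cov_le {U ι W} hW k := by
    obtain ⟨_, _, f, _, hf⟩ := hW
    rw [hf]
    exact Dp_le h𝔛 _
  cov_sup {U ι W} hW := cov_sup h𝔛 hW.1 hW.2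
  cov_fin {U ι W} hW := hW.2.1
  cov_mem {U ι W} hU hW := iInf_affine h𝔛 hU hW.2
  cov_refine U hU κ V hV := by
    obtain ⟨ι, W, hW, h⟩ := cov_refine h𝔛 hU κ V hV
    exact ⟨ι, W, ⟨hU, hW⟩, h⟩
  good {U} hU ι W hW M _ _ := by
    have hfin := hW.2.1
    have haff := iInf_affine h𝔛 hU hW.2
    have hle : ∀ k, W k ≤ U := by
      obtain ⟨_, _, f, _, hf⟩ := hW
      intro k
      rw [hf]
      exact Dp_le h𝔛 _
    have haf : ∀ k, IsAffineOpen (W k) := by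
      obtain ⟨_, _, f, _, hf⟩ := hW
      intro k
      rw [hf]
      exact isAffineOpen_Dp h𝔛 hU _
    have hOA : ∀ V ∈ {V : (𝔛.X 0).Opens | IsAffineOpen V ∧ V ≤ U}, IsAffineOpen (U ⊓ V) := by
      rintro V ⟨hV, hVU⟩
      rw [inf_eq_right.2 hVU]
      exact hV
    refine cgood_of_torsion (R := RR h𝔛) hle (IO h𝔛 U) {V | IsAffineOpen V ∧ V ≤ U} ⟨hU, le_rfl⟩
      (fun k => ⟨haf k, hle k⟩) (fun k l => ⟨?_, inf_le_left.trans (hle k)⟩)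
      (fun p i => ⟨haff p i, (iInf_le _ 0).trans (hle _)⟩) ?_ ?_ ?_ (fun N _ _ hN => ?_) M
    · obtain ⟨_, _, f, _, hf⟩ := hW
      rw [hf k]
      exact isAffineOpen_Dp_inf h𝔛 (hle l) (haf l) (f k)
    · intro V hV
      exact flat_rs h𝔛 (aff h𝔛 hU) (aff h𝔛 (hOA V hV)) _
    · intro V hV
      exact isNoetherianRing_OU h𝔛 (aff h𝔛 (hOA V hV))
    · intro V hV
      have e : (IO h𝔛 U).map (algebraMap (O (RR h𝔛) U) (OA (RR h𝔛) U V)) = IO h𝔛 (U ⊓ V) :=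
        map_II h𝔛 (aff h𝔛 hU) (aff h𝔛 (hOA V hV)) inf_le_left
      rw [e]
      exact isAdicComplete h𝔛 (aff h𝔛 (hOA V hV))
    · exact cgood_torsion h𝔛 hU hW.2 hle N hN

theorem mem_fcov {U : (𝔛.X 0).Opens} : U ∈ (fcov h𝔛).B ↔ IsAffineOpen U := Iff.rfl

theorem isNoetherianRing_O {U : (𝔛.X 0).Opens} (hU : U ∈ (fcov h𝔛).B) : IsNoetherianRing (O (RR h𝔛) U) :=
  isNoetherianRing_OU h𝔛 (aff h𝔛 hU)

end K181.Formal
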