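import Groth.Agent.FSch.K181.Pre
import Groth.Agent.FCompl.K29.RExact
import Groth.Agent.CycB.StalkExact
import Mathlib.RingTheory.RingHom.Flat

/-!
# Cartesian modules on a ringed space with a good family of opens

`GoodCov R`: a basis `B` of quasi-compact opens with flat restriction maps and good coverings for which the
augmented Čech complexes of `M ⊗ O` are exact for every module `M`.
`Cart 𝔅 F U`: `F(V) = O(V) ⊗ F(U)` for `V ∈ B`, `V ≤ U`.

* `cgood`: the Čech complexes of a cartesian (pre)sheaf are exact;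
* `subsingleton_HU`: `H^q(V, F) = 0` for `q > 0`;
* `surjective_app`: sections over `V ∈ B` are exact when the kernel is cartesian.
* `Cart.ker`, `Cart.coker`, `Cart.ext`.
-/

set_option autoImplicit false
set_option linter.style.haveILetI false
universe u

open CategoryTheory TopologicalSpace Opposite TensorProduct CategoryTheory.Limits

noncomputable section

namespace K181.Good

open K29.RSec K29.RExact K181.BC K181.Pre Groth.Agent.CohqA Groth.Agent.CohqA.CechSheaf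

variable {T : TopCat.{u}}

/-- A good family of opens of a ringed space. -/
structure GoodCov (R : Sheaf (Opens.grothendieckTopology T) CommRingCat.{u}) where
  /-- the basis -/
  B : Set (Opens T)
  /-- the good coverings -/
  Cov : ∀ (U : Opens T) (ι : Type u), (ι → Opens T) → Prop
  basis : Opens.IsBasis B
  compact : ∀ U ∈ B, IsCompact (U : Set T)
  flat : ∀ {U V : Opens T} (h : V ≤ U), U ∈ B → V ∈ B → (resO (R := R) h).Flat
  cov_le : ∀ {U : Opens T} {ι : Type u} {W : ι → Opens T}, Cov U ι W → ∀ k, W k ≤ U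
  cov_sup : ∀ {U : Opens T} {ι : Type u} {W : ι → Opens T}, Cov U ι W → iSup W = U
  cov_fin : ∀ {U : Opens T} {ι : Type u} {W : ι → Opens T}, Cov U ι W → Finite ι
  cov_mem : ∀ {U : Opens T} {ι : Type u} {W : ι → Opens T}, U ∈ B → Cov U ι W → 
    ∀ (p : ℕ) (i : Fin (p + 1) → ι), ⨅ a, W (i a) ∈ B
  cov_refine : ∀ U ∈ B, ∀ (κ : Type u) (V : κ → Opens T), iSup V = U →
    ∃ (ι : Type u) (W : ι → Opens T), Cov U ι W ∧ ∀ i, ∃ k, W i ≤ V k
  good : ∀ {U : Opens T}, U ∈ B → ∀ {ι : Type u} {W : ι → Opens T} (hW : Cov U ι W) (M : Type u)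
    [AddCommGroup M] [Module (O R U) M], CGood (cov_le hW) (TP R U M).ab

variable {R : Sheaf (Opens.grothendieckTopology T) CommRingCat.{u}} (𝔅 : GoodCov R)

theorem GoodCov.cov_mem1 {U : Opens T} {ι : Type u} {W : ι → Opens T} (hU : U ∈ 𝔅.B) (hW : 𝔅.Cov U ι W) (k : ι) :
    W k ∈ 𝔅.B := by
  have h := 𝔅.cov_mem hU hW 0 (fun _ => k)
  rwa [iInf_const] at h

theorem GoodCov.cov_mem2 {U : Opens T} {ι : Type u} {W : ι → Opens T} (hU : U ∈ 𝔅.B) (hW : 𝔅.Cov U ι W) (k l : ι) :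
    W k ⊓ W l ∈ 𝔅.B := by
  have h := 𝔅.cov_mem hU hW 1 ![k, l]
  have e : ⨅ a, W ((![k, l] : Fin 2 → ι) a) = W k ⊓ W l := by
    apply le_antisymm
    · exact le_inf (iInf_le (fun a => W ((![k, l] : Fin 2 → ι) a)) 0) (iInf_le (fun a => W ((![k, l] : Fin 2 → ι) a)) 1)
    · refine le_iInf fun a => ?_
      fin_cases a
      · exact inf_le_left
      · exact inf_le_right
  rwa [e] at h

theorem cgood {U : Opens T} {P : PM R} (hP : P.CartOn 𝔅.B U) (hU : U ∈ 𝔅.B) {ι : Type u} {W : ι → Opens T}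
    (hW : 𝔅.Cov U ι W) : CGood (𝔅.cov_le hW) P.ab :=
  cgood_of_cartOn hP hU (𝔅.cov_le hW) (𝔅.cov_mem1 hU hW) (𝔅.cov_mem2 hU hW) (𝔅.cov_mem hU hW)
    (𝔅.good hU hW (P.S U))

/-- `F` is cartesian on `U`. -/
def Cart (F : Mod R) (U : Opens T) : Prop := U ∈ 𝔅.B ∧ (PM.ofMod F).CartOn 𝔅.B U

variable {𝔅}

theorem Cart.mem {F : Mod R} {U : Opens T} (h : Cart 𝔅 F U) : U ∈ 𝔅.B := h.1

theorem Cart.mono {F : Mod R} {U V : Opens T} (h : Cart 𝔅 F U) (hV : V ∈ 𝔅.B) (hVU : V ≤ U) : Cart 𝔅 F V :=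
  ⟨hV, h.2.mono hV hVU⟩

/-- Restriction of sections as a semilinear map. -/
abbrev resS (F : Mod R) {V W : Opens T} (h : W ≤ V) : Sec F V →ₛₗ[resO (R := R) h] Sec F W :=
  (PM.ofMod F).rS h

theorem resS_apply (F : Mod R) {V W : Opens T} (h : W ≤ V) (s : Sec F V) : resS F h s = K29.RSec.res F h s := rfl

theorem Cart.isBC {F : Mod R} {U V W : Opens T} (h : Cart 𝔅 F U) (hV : V ∈ 𝔅.B) (hVU : V ≤ U) (hW : W ∈ 𝔅.B)
    (hWV : W ≤ V) : IsBC (resO (R := R) hWV) (resS F hWV) :=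
  (h.mono hV hVU).2 W hW hWV

/-- Higher cohomology of cartesian sheaves of modules vanishes. -/
theorem subsingleton_HU {F : Mod R} {U V : Opens T} (h : Cart 𝔅 F U) (hV : V ∈ 𝔅.B) (hVU : V ≤ U) (q : ℕ) :
    Subsingleton (CohTop.HU (ModSite.toAb F) (q + 1) V) := by
  refine CechFlasque.subsingleton_HU_succ_of_basis (ModSite.toAb F) {V | V ∈ 𝔅.B ∧ V ≤ U}
    (fun ι W => ∃ V, (V ∈ 𝔅.B ∧ V ≤ U) ∧ 𝔅.Cov V ι W) ?_ ?_ ?_ V ⟨hV, hVU⟩ q
  · rintro ι W ⟨V, ⟨hV, hVU⟩, hW⟩ p a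
    exact ⟨𝔅.cov_mem hV hW p a, (iInf_le _ 0).trans ((𝔅.cov_le hW _).trans hVU)⟩
  · rintro V ⟨hV, hVU⟩ κ W hW
    obtain ⟨ι, W', hW', hr⟩ := 𝔅.cov_refine V hV κ W hW
    exact ⟨ι, W', ⟨V, ⟨hV, hVU⟩, hW'⟩, 𝔅.cov_sup hW', hr⟩
  · rintro ι W ⟨V, ⟨hV, hVU⟩, hW⟩ p
    exact (cgood 𝔅 (h.mono hV hVU).2 hV hW).cech p

instance preservesFiniteColimits_toSheaf (R : Sheaf (Opens.grothendieckTopology T) CommRingCat.{u}) :
    PreservesFiniteColimits (SheafOfModules.toSheaf.{u} (ModSite.ringSh R)) where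
  preservesFiniteColimits J _ _ :=
    Groth.Agent.CycB.StalkExact.toSheaf_preservesColimitsOfShape (ModSite.ringSh R) J

/-- The short exact sequence of abelian sheaves of a short exact sequence of modules. -/
theorem shortExact_toAb {S : ShortComplex (Mod R)} (hS : S.ShortExact) :
    (S.map (SheafOfModules.toSheaf (ModSite.ringSh R))).ShortExact :=
  hS.map_of_exact _

theorem surjective_app {S : ShortComplex (Mod R)} (hS : S.ShortExact) {U V : Opens T} (h : Cart 𝔅 S.X₁ U)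
    (hV : V ∈ 𝔅.B) (hVU : V ≤ U) : Function.Surjective (app S.g V) := by
  have h1 := CechSheaf.surjective_of_cechH1 _ (shortExact_toAb hS) V (fun ι W hW => ?_)
  · exact h1
  · obtain ⟨κ, W', hW', hr⟩ := 𝔅.cov_refine V hV ι W hW
    choose r hr using hr
    exact ⟨κ, W', r, 𝔅.cov_sup hW', hr, (cgood 𝔅 (h.mono hV hVU).2 hV hW').cech 0⟩

theorem exact_app {S : ShortComplex (Mod R)} (hS : S.Exact) [Mono S.f] (V : Opens T) :
    Function.Exact (app S.f V) (app S.g V) := by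
  intro t
  constructor
  · intro ht
    obtain ⟨s, hs⟩ := exists_app_of_exact S hS V t ht
    exact ⟨s, hs⟩
  · rintro ⟨s, rfl⟩
    rw [← app_comp, S.zero]
    rfl

theorem app_injective {F G : Mod R} (φ : F ⟶ G) [Mono φ] (V : Opens T) : Function.Injective (app φ V) :=
  (mono_iff_app φ).1 inferInstance V

/-- Kernels of maps between cartesian sheaves are cartesian. -/
theorem Cart.ker {S : ShortComplex (Mod R)} (hS : S.Exact) [Mono S.f] {U : Opens T} (h2 : Cart 𝔅 S.X₂ U)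
    (h3 : Cart 𝔅 S.X₃ U) : Cart 𝔅 S.X₁ U := by
  refine ⟨h2.mem, fun V hV hVU => ?_⟩
  exact IsBC.ker (𝔅.flat hVU h2.mem hV) (i := app S.f U) (g := app S.g U) (i' := app S.f V) (g' := app S.g V)
    (f₁ := resS S.X₁ hVU) (f₂ := resS S.X₂ hVU) (f₃ := resS S.X₃ hVU)
    (fun m => (app_res S.f hVU m).symm) (fun m => (app_res S.g hVU m).symm)
    (app_injective S.f U) (exact_app hS U) (app_injective S.f V) (exact_app hS V)
    (h2.2 V hV hVU) (h3.2 V hV hVU)

/-- Cokernels of monomorphisms between cartesian sheaves are cartesian. -/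
theorem Cart.coker {S : ShortComplex (Mod R)} (hS : S.ShortExact) {U : Opens T} (h1 : Cart 𝔅 S.X₁ U)
    (h2 : Cart 𝔅 S.X₂ U) : Cart 𝔅 S.X₃ U := by
  have := hS.mono_f
  refine ⟨h2.mem, fun V hV hVU => ?_⟩
  exact IsBC.coker (i := app S.f U) (g := app S.g U) (i' := app S.f V) (g' := app S.g V)
    (f₁ := resS S.X₁ hVU) (f₂ := resS S.X₂ hVU) (f₃ := resS S.X₃ hVU)
    (fun m => (app_res S.f hVU m).symm) (fun m => (app_res S.g hVU m).symm)
    (exact_app hS.exact U) (surjective_app hS h1 h1.mem le_rfl) (exact_app hS.exact V)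
    (surjective_app hS h1 hV hVU) (h1.2 V hV hVU) (h2.2 V hV hVU)

/-- Extensions of cartesian sheaves are cartesian. -/
theorem Cart.ext {S : ShortComplex (Mod R)} (hS : S.ShortExact) {U : Opens T} (h1 : Cart 𝔅 S.X₁ U)
    (h3 : Cart 𝔅 S.X₃ U) : Cart 𝔅 S.X₂ U := by
  have := hS.mono_f
  refine ⟨h1.mem, fun V hV hVU => ?_⟩
  exact IsBC.ext (i := app S.f U) (g := app S.g U) (i' := app S.f V) (g' := app S.g V)
    (f₁ := resS S.X₁ hVU) (f₂ := resS S.X₂ hVU) (f₃ := resS S.X₃ hVU)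
    (fun m => (app_res S.f hVU m).symm) (fun m => (app_res S.g hVU m).symm)
    (exact_app hS.exact U) (surjective_app hS h1 h1.mem le_rfl) (exact_app hS.exact V)
    (app_injective S.f V) (h1.2 V hV hVU) (h3.2 V hV hVU)

theorem Cart.of_iso {F G : Mod R} (e : F ≅ G) {U : Opens T} (h : Cart 𝔅 F U) : Cart 𝔅 G U := by
  have hb : ∀ V : Opens T, Function.Bijective (app e.hom V) := fun V => by
    constructor
    · exact app_injective e.hom V
    · intro t
      refine ⟨app e.inv V t, ?_⟩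
      rw [← app_comp, e.inv_hom_id]
      rfl
  refine ⟨h.mem, fun V hV hVU => ?_⟩
  exact (h.2 V hV hVU).congr (LinearEquiv.ofBijective (app e.hom U) (hb U))
    (LinearEquiv.ofBijective (app e.hom V) (hb V)) fun m => (app_res e.hom hVU m).symm

theorem Cart.kernel {F G : Mod R} (φ : F ⟶ G) {U : Opens T} (h1 : Cart 𝔅 F U) (h2 : Cart 𝔅 G U) :
    Cart 𝔅 (kernel φ) U :=
  Cart.ker (S := ShortComplex.mk (kernel.ι φ) φ (kernel.condition φ))
    (ShortComplex.exact_of_f_is_kernel _ (kernelIsKernel φ)) h1 h2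

theorem Cart.image {F G : Mod R} (φ : F ⟶ G) {U : Opens T} (h1 : Cart 𝔅 F U) (h2 : Cart 𝔅 G U) :
    Cart 𝔅 (Abelian.image φ) U := by
  have hS : (ShortComplex.mk (Limits.kernel.ι φ) (Abelian.factorThruImage φ) (by
      rw [← cancel_mono (Abelian.image.ι φ), Category.assoc, Abelian.image.fac, kernel.condition, zero_comp])).ShortExact := by
    refine ⟨ShortComplex.exact_of_f_is_kernel _ ?_⟩
    exact KernelFork.IsLimit.ofι' _ _ fun {A} k hk =>
      ⟨kernel.lift φ k (by rw [← Abelian.image.fac φ, ← Category.assoc, hk, zero_comp]), by simp⟩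
  exact Cart.coker hS (Cart.kernel φ h1 h2) h1

theorem Cart.cokernel {F G : Mod R} (φ : F ⟶ G) {U : Opens T} (h1 : Cart 𝔅 F U) (h2 : Cart 𝔅 G U) :
    Cart 𝔅 (cokernel φ) U := by
  have hS : (ShortComplex.mk (Abelian.image.ι φ) (Limits.cokernel.π φ) (kernel.condition _)).ShortExact :=
    ⟨ShortComplex.exact_of_f_is_kernel _ (kernelIsKernel _)⟩
  exact Cart.coker hS (Cart.image φ h1 h2) h2

/-- Middle term of an exact five term sequence. -/
theorem Cart.five {F₁ F₂ F₃ F₄ F₅ : Mod R} (a : F₁ ⟶ F₂) (b : F₂ ⟶ F₃) (c : F₃ ⟶ F₄) (d : F₄ ⟶ F₅)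
    (hab : a ≫ b = 0) (hbc : b ≫ c = 0) (hcd : c ≫ d = 0) (h2 : (ShortComplex.mk a b hab).Exact)
    (h3 : (ShortComplex.mk b c hbc).Exact) (h4 : (ShortComplex.mk c d hcd).Exact) {U : Opens T}
    (k1 : Cart 𝔅 F₁ U) (k2 : Cart 𝔅 F₂ U) (k4 : Cart 𝔅 F₄ U) (k5 : Cart 𝔅 F₅ U) : Cart 𝔅 F₃ U := by
  let l := kernel.lift d c hcd
  have hl : l ≫ kernel.ι d = c := kernel.lift_ι _ _ _
  have hbl : b ≫ l = 0 := by
    rw [← cancel_mono (kernel.ι d), Category.assoc, hl, hbc, zero_comp]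
  let m := cokernel.desc a b hab
  have hm : cokernel.π a ≫ m = b := cokernel.π_desc _ _ _
  have hml : m ≫ l = 0 := by
    rw [← cancel_epi (cokernel.π a), ← Category.assoc, hm, hbl, comp_zero]
  let S1 := ShortComplex.mk b l hbl
  have e1 : S1.Exact := by
    let φ : S1 ⟶ ShortComplex.mk b c hbc := { τ₁ := 𝟙 _, τ₂ := 𝟙 _, τ₃ := kernel.ι d, comm₂₃ := by simp [S1, hl] }
    have : Epi φ.τ₁ := inferInstanceAs (Epi (𝟙 _))
    have : IsIso φ.τ₂ := inferInstanceAs (IsIso (𝟙 _))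
    have : Mono φ.τ₃ := inferInstanceAs (Mono (kernel.ι d))
    exact (ShortComplex.exact_iff_of_epi_of_isIso_of_mono φ).2 h3
  let S2 := ShortComplex.mk m l hml
  have e2 : S2.Exact := by
    let φ : S1 ⟶ S2 := { τ₁ := cokernel.π a, τ₂ := 𝟙 _, τ₃ := 𝟙 _, comm₁₂ := by simp [S1, S2, hm] }
    have : Epi φ.τ₁ := inferInstanceAs (Epi (cokernel.π a))
    have : IsIso φ.τ₂ := inferInstanceAs (IsIso (𝟙 _))
    have : Mono φ.τ₃ := inferInstanceAs (Mono (𝟙 _))
    exact (ShortComplex.exact_iff_of_epi_of_isIso_of_mono φ).1 e1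
  have e3 : Mono m := (ShortComplex.exact_iff_mono_cokernel_desc _).1 h2
  have e4 : Epi l := (ShortComplex.exact_iff_epi_kernel_lift _).1 h4
  exact Cart.ext (S := S2) ⟨e2⟩ (Cart.cokernel a k1 k2) (Cart.kernel d k4 k5)

end K181.Good
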