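import Groth.Agent.FSch.K181.HomSh
import Groth.Agent.FSch.K181.Coh
import Mathlib.RingTheory.TensorProduct.IsBaseChangePi

/-!
# The internal Hom out of a locally presented module is cartesian

* `evs_injective`, `evs_exact`: `0 → ℋom(F, G)(V) → G(V)^n → G(V)^m` for a presentation of `F` on `U`, `V ≤ U`;
* `cart_homSh`, `cartF_homSh`.
-/

set_option autoImplicit false
set_option linter.style.haveILetI false
universe u

open CategoryTheory TopologicalSpace Opposite TensorProduct CategoryTheory.Limits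

noncomputable section

namespace K181.BC

/-- Base change of finite powers. -/
theorem IsBC.pow {A B : Type*} [CommRing A] [CommRing B] {σ : A →+* B} {M N : Type*} [AddCommGroup M] [Module A M]
    [AddCommGroup N] [Module B N] {f : M →ₛₗ[σ] N} (h : IsBC σ f) (n : ℕ) {g : (Fin n → M) →ₛₗ[σ] (Fin n → N)}
    (hg : ∀ (x : Fin n → M) (i : Fin n), g x i = f (x i)) : IsBC σ g := by
  letI := σ.toAlgebra
  letI : Module A N := Module.compHom N σ
  haveI : IsScalarTower A B N := IsScalarTower.of_algebraMap_smul fun _ _ => rfl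
  have h1 : IsBaseChange B (toLin σ rfl f) := h.out rfl
  have h2 : IsBaseChange B ((toLin σ rfl f).compLeft (Fin n)) := h1.finitePow (Fin n)
  have h3 : (toLin σ rfl f).compLeft (Fin n) = toLin σ rfl g := by
    refine LinearMap.ext fun x => funext fun i => ?_
    exact (hg x i).symm
  rw [h3] at h2
  exact (isBC_iff (σ := σ) rfl g (toLin σ rfl g) fun _ => rfl).2 ((isBaseChange_iff _).1 h2)

end K181.BC

namespace K181.HomSh

open K29.RSec K29.RPres K181.Good K181.BC K181.Pre

variable {T : TopCat.{u}} {R : Sheaf (Opens.grothendieckTopology T) CommRingCat.{u}} (F G : Mod R)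
  {U : Opens T} {n m : ℕ} (s : Fin n → Sec F U) (r : Fin m → Fin n → O R U)

/-- Evaluation at the generators. -/
def evs {V : Opens T} (hV : V ≤ U) : HomOn F G V →ₗ[O R V] (Fin n → Sec G V) where
  toFun φ j := φ.ap V le_rfl (res F hV (s j))
  map_add' φ ψ := funext fun j => HomOn.ap_add φ ψ V le_rfl _
  map_smul' a φ := funext fun j => by
    rw [HomOn.ap_smul, resO_self]
    rfl

/-- The relations. -/
def relMap {V : Opens T} (hV : V ≤ U) : (Fin n → Sec G V) →ₗ[O R V] (Fin m → Sec G V) where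
  toFun t k := ∑ j, resO hV (r k j) • t j
  map_add' t t' := funext fun k => by
    simp only [Pi.add_apply, smul_add, Finset.sum_add_distrib]
  map_smul' a t := funext fun k => by
    simp only [Pi.smul_apply, RingHom.id_apply, Finset.smul_sum]
    exact Finset.sum_congr rfl fun j _ => smul_comm _ _ _

variable {F G s r}

theorem relMap_apply {V : Opens T} (hV : V ≤ U) (t : Fin n → Sec G V) (k : Fin m) :
    relMap G r hV t k = ∑ j, resO hV (r k j) • t j := rfl

theorem evs_apply {V : Opens T} (hV : V ≤ U) (φ : HomOn F G V) (j : Fin n) :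
    evs F G s hV φ j = φ.ap V le_rfl (res F hV (s j)) := rfl

theorem ap_sum {V : Opens T} (φ : HomOn F G V) {W : Opens T} (hW : W ≤ V) (c : Fin n → O R W) (x : Fin n → Sec F W) :
    φ.ap W hW (∑ j, c j • x j) = ∑ j, c j • φ.ap W hW (x j) := by
  have h := map_sum (φ.1 ⟨W, hW⟩) (fun j => c j • x j) Finset.univ
  refine h.trans (Finset.sum_congr rfl fun j _ => ?_)
  exact φ.ap_smul_right W hW _ _

theorem res_sum (N : Mod R) {V W : Opens T} (hW : W ≤ V) (c : Fin n → O R V) (x : Fin n → Sec N V) :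
    res N hW (∑ j, c j • x j) = ∑ j, resO hW (c j) • res N hW (x j) := by
  rw [map_sum]
  exact Finset.sum_congr rfl fun j _ => res_smul _ _ _ _

theorem evs_injective (hs : Gen F U s) {V : Opens T} (hV : V ≤ U) : Function.Injective (evs F G s hV) := by
  rw [injective_iff_map_eq_zero]
  intro φ hφ
  refine HomOn.ext' fun W hW x => ?_
  refine eq_of_forall_nhds G _ _ fun y hy => ?_
  obtain ⟨V', h', hyV', c, hc⟩ := hs W (hW.trans hV) x y hy
  refine ⟨V', hyV', h', ?_⟩
  rw [← φ.ap_map hW h', hc, ap_sum, HomOn.ap_zero, map_zero]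
  refine Finset.sum_eq_zero fun j _ => ?_
  have h1 : φ.ap V le_rfl (res F hV (s j)) = 0 := congrFun hφ j
  rw [← res_res F hV (h'.trans hW), φ.ap_map le_rfl, h1, map_zero, smul_zero]

theorem key0 (hr : Rel F U s r) {V : Opens T} (hV : V ≤ U) (t : Fin n → Sec G V) (ht : relMap G r hV t = 0)
    {W : Opens T} (hW : W ≤ V) (c : Fin n → O R W) (hc : ∑ j, c j • res F (hW.trans hV) (s j) = 0) :
    ∑ j, c j • res G hW (t j) = 0 := by
  refine eq_of_forall_nhds G _ _ fun y hy => ?_
  obtain ⟨V', h', hyV', d, hd⟩ := hr.2 W (hW.trans hV) c hc y hy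
  refine ⟨V', hyV', h', ?_⟩
  rw [res_sum, map_zero]
  simp only [res_res, hd, Finset.sum_smul]
  rw [Finset.sum_comm]
  refine Finset.sum_eq_zero fun k _ => ?_
  have h1 : ∑ j, resO hV (r k j) • t j = 0 := congrFun ht k
  have h2 := congrArg (res G (h'.trans hW)) h1
  rw [res_sum, map_zero] at h2
  simp only [mul_smul, ← Finset.smul_sum]
  rw [← smul_zero (d k), ← h2]
  congr 1
  refine Finset.sum_congr rfl fun j _ => ?_
  rw [resO_resO]

theorem key1 (hr : Rel F U s r) {V : Opens T} (hV : V ≤ U) (t : Fin n → Sec G V) (ht : relMap G r hV t = 0)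
    {W : Opens T} (hW : W ≤ V) (c c' : Fin n → O R W)
    (hc : ∑ j, c j • res F (hW.trans hV) (s j) = ∑ j, c' j • res F (hW.trans hV) (s j)) :
    ∑ j, c j • res G hW (t j) = ∑ j, c' j • res G hW (t j) := by
  have h := key0 hr hV t ht hW (c - c') (by
    simp only [Pi.sub_apply, sub_smul, Finset.sum_sub_distrib]
    rw [hc, sub_self])
  simp only [Pi.sub_apply, sub_smul, Finset.sum_sub_distrib] at h
  exact sub_eq_zero.1 h

/-- The value at `x` of the morphism with values `t j` at `s j`. -/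
theorem exists_val (hs : Gen F U s) (hr : Rel F U s r) {V : Opens T} (hV : V ≤ U) (t : Fin n → Sec G V)
    (ht : relMap G r hV t = 0) {W : Opens T} (hW : W ≤ V) (x : Sec F W) :
    ∃ g : Sec G W, ∀ (W' : Opens T) (h : W' ≤ W) (c : Fin n → O R W'),
      res F h x = ∑ j, c j • res F (h.trans (hW.trans hV)) (s j) → res G h g = ∑ j, c j • res G (h.trans hW) (t j) := by
  choose V' h' hy c hc using fun y : W => hs W (hW.trans hV) x y.1 y.2
  have hcov : W ≤ ⨆ y, V' y := fun y hyW => Opens.mem_iSup.2 ⟨⟨y, hyW⟩, hy _⟩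
  have hkey : ∀ (y : W) (W' : Opens T) (h1 : W' ≤ V' y) (h : W' ≤ W) (c' : Fin n → O R W'),
      res F h x = ∑ j, c' j • res F (h.trans (hW.trans hV)) (s j) →
      res G h1 (∑ j, c y j • res G ((h' y).trans hW) (t j)) = ∑ j, c' j • res G (h.trans hW) (t j) := by
    intro y W' h1 h c' hc'
    rw [res_sum]
    simp only [res_res]
    refine key1 hr hV t ht (h.trans hW) _ _ ?_
    rw [← hc', ← res_res F (h' y) h1, hc, res_sum]
    simp only [res_res]
  obtain ⟨g, hg⟩ := exists_glue G V' W hcov h' (fun y => ∑ j, c y j • res G ((h' y).trans hW) (t j))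
    fun y z W' h1 h2 => by
      have e : res F (h1.trans (h' y)) x = ∑ j, resO h2 (c z j) • res F ((h1.trans (h' y)).trans (hW.trans hV)) (s j) := by
        have := congrArg (res F h2) (hc z)
        rw [res_res, res_sum] at this
        simpa only [res_res] using this
      rw [hkey y W' h1 (h1.trans (h' y)) (fun j => resO h2 (c z j)) e, res_sum]
      simp only [res_res]
  refine ⟨g, fun W' h c' hc' => ?_⟩
  refine eq_of_forall_nhds G _ _ fun z hz => ?_
  refine ⟨W' ⊓ V' ⟨z, h hz⟩, ⟨hz, hy _⟩, inf_le_left, ?_⟩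
  rw [res_res, res_sum]
  simp only [res_res]
  rw [← res_res G (h' ⟨z, h hz⟩) (inf_le_right : W' ⊓ V' ⟨z, h hz⟩ ≤ _), hg]
  refine hkey _ _ _ (inf_le_left.trans h) _ ?_
  rw [← res_res F h inf_le_left, hc', res_sum]
  simp only [res_res]

theorem val_unique (hs : Gen F U s) {V : Opens T} (hV : V ≤ U) (t : Fin n → Sec G V) {W : Opens T} (hW : W ≤ V)
    (x : Sec F W) (g g' : Sec G W)
    (hg : ∀ (W' : Opens T) (h : W' ≤ W) (c : Fin n → O R W'),
      res F h x = ∑ j, c j • res F (h.trans (hW.trans hV)) (s j) → res G h g = ∑ j, c j • res G (h.trans hW) (t j))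
    (hg' : ∀ (W' : Opens T) (h : W' ≤ W) (c : Fin n → O R W'),
      res F h x = ∑ j, c j • res F (h.trans (hW.trans hV)) (s j) → res G h g' = ∑ j, c j • res G (h.trans hW) (t j)) :
    g = g' := by
  refine eq_of_forall_nhds G _ _ fun y hy => ?_
  obtain ⟨V', h', hyV', c, hc⟩ := hs W (hW.trans hV) x y hy
  exact ⟨V', hyV', h', (hg V' h' c hc).trans (hg' V' h' c hc).symm⟩

theorem exists_homOn (hs : Gen F U s) (hr : Rel F U s r) {V : Opens T} (hV : V ≤ U) (t : Fin n → Sec G V)
    (ht : relMap G r hV t = 0) : ∃ φ : HomOn F G V, evs F G s hV φ = t := by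
  choose f hf using fun (W : Opens T) (hW : W ≤ V) (x : Sec F W) => exists_val hs hr hV t ht hW x
  refine ⟨HomOn.mk' f ?_ ?_ ?_, ?_⟩
  · intro W hW x x'
    refine eq_of_forall_nhds G _ _ fun y hy => ?_
    obtain ⟨V1, h1, hyV1, c, hc⟩ := hs W (hW.trans hV) x y hy
    obtain ⟨V2, h2, hyV2, c', hc'⟩ := hs W (hW.trans hV) x' y hy
    have e1 : res F ((inf_le_left : V1 ⊓ V2 ≤ V1).trans h1) x =
        ∑ j, resO (inf_le_left : V1 ⊓ V2 ≤ V1) (c j) •
          res F (((inf_le_left : V1 ⊓ V2 ≤ V1).trans h1).trans (hW.trans hV)) (s j) := by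
      rw [← res_res F h1 inf_le_left, hc, res_sum]
      simp only [res_res]
    have e2 : res F ((inf_le_left : V1 ⊓ V2 ≤ V1).trans h1) x' =
        ∑ j, resO (inf_le_right : V1 ⊓ V2 ≤ V2) (c' j) •
          res F (((inf_le_left : V1 ⊓ V2 ≤ V1).trans h1).trans (hW.trans hV)) (s j) := by
      rw [← res_res F h2 inf_le_right, hc', res_sum]
      simp only [res_res]
    refine ⟨V1 ⊓ V2, ⟨hyV1, hyV2⟩, inf_le_left.trans h1, ?_⟩
    rw [map_add, hf W hW x _ _ _ e1, hf W hW x' _ _ _ e2, hf W hW (x + x') _ _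
      (fun j => resO inf_le_left (c j) + resO inf_le_right (c' j)) (by
        rw [map_add, e1, e2, ← Finset.sum_add_distrib]
        exact Finset.sum_congr rfl fun j _ => (add_smul _ _ _).symm)]
    rw [← Finset.sum_add_distrib]
    exact Finset.sum_congr rfl fun j _ => add_smul _ _ _
  · intro W hW a x
    refine eq_of_forall_nhds G _ _ fun y hy => ?_
    obtain ⟨V1, h1, hyV1, c, hc⟩ := hs W (hW.trans hV) x y hy
    refine ⟨V1, hyV1, h1, ?_⟩
    rw [res_smul, hf W hW x _ _ _ hc, hf W hW (a • x) _ h1 (fun j => resO h1 a * c j) (by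
      rw [res_smul, hc, Finset.smul_sum]
      exact Finset.sum_congr rfl fun j _ => (mul_smul _ _ _).symm), Finset.smul_sum]
    exact Finset.sum_congr rfl fun j _ => mul_smul _ _ _
  · intro W W' hW h x
    refine val_unique hs hV t (h.trans hW) (res F h x) _ _ (hf W' _ _) fun W'' h'' c hc => ?_
    rw [res_res] at hc ⊢
    exact hf W hW x W'' (h''.trans h) c hc
  · funext i
    rw [evs_apply, HomOn.ap_mk']
    have h1 := hf V le_rfl (res F hV (s i)) V le_rfl (fun j => if j = i then 1 else 0) (by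
      rw [res_self, Finset.sum_eq_single i]
      · rw [if_pos rfl, one_smul]
      · intro j _ hj
        rw [if_neg hj, zero_smul]
      · intro h
        exact absurd (Finset.mem_univ i) h)
    rw [res_self] at h1
    rw [h1, Finset.sum_eq_single i]
    · rw [if_pos rfl, one_smul, res_self]
    · intro j _ hj
      rw [if_neg hj, zero_smul]
    · intro h
      exact absurd (Finset.mem_univ i) h

theorem relMap_evs (hr : Rel F U s r) {V : Opens T} (hV : V ≤ U) (φ : HomOn F G V) :
    relMap G r hV (evs F G s hV φ) = 0 := by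
  funext k
  rw [relMap_apply]
  simp only [evs_apply]
  rw [← ap_sum φ le_rfl (fun j => resO hV (r k j)) (fun j => res F hV (s j)), ← res_sum, hr.1 k, map_zero]
  exact map_zero (φ.1 ⟨V, le_rfl⟩)

theorem evs_exact (hs : Gen F U s) (hr : Rel F U s r) {V : Opens T} (hV : V ≤ U) :
    Function.Exact (evs F G s hV) (relMap G r hV) := fun t =>
  ⟨fun ht => exists_homOn hs hr hV t ht, fun ⟨φ, hφ⟩ => by rw [← hφ]; exact relMap_evs hr hV φ⟩

/-- Restriction on powers. -/
def resPow (G : Mod R) (n : ℕ) {V W : Opens T} (h : W ≤ V) : (Fin n → Sec G V) →ₛₗ[resO (R := R) h] (Fin n → Sec G W) where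
  toFun x i := res G h (x i)
  map_add' _ _ := funext fun _ => map_add _ _ _
  map_smul' _ _ := funext fun _ => res_smul _ _ _ _

/-- The internal Hom out of a module with a finite presentation on `U`. -/
theorem cart_homSh {𝔅 : GoodCov R} (hs : Gen F U s) (hr : Rel F U s r) (hG : Cart 𝔅 G U) :
    Cart 𝔅 (homSh F G) U := by
  refine ⟨hG.1, fun V hV hVU => ?_⟩
  have h2 : IsBC (resO (R := R) hVU) (resPow G n hVU) := (hG.2 V hV hVU).pow n fun x i => rfl
  have h3 : IsBC (resO (R := R) hVU) (resPow G m hVU) := (hG.2 V hV hVU).pow m fun x i => rfl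
  refine IsBC.ker (i := evs F G s le_rfl) (g := relMap G r le_rfl) (i' := evs F G s hVU) (g' := relMap G r hVU)
    (f₁ := (PM.ofMod (homSh F G)).rS hVU) (f₂ := resPow G n hVU) (f₃ := resPow G m hVU)
    (𝔅.flat hVU hG.1 hV) (fun φ => ?_) (fun t => ?_) (evs_injective hs le_rfl) (evs_exact hs hr le_rfl)
    (evs_injective hs hVU) (evs_exact hs hr hVU) h2 h3
  · funext j
    exact (φ.ap_map le_rfl hVU (res F le_rfl (s j))).symm.trans
      ((congrArg (φ.ap V (hVU.trans le_rfl)) (res_res F le_rfl hVU (s j))))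
  · funext k
    change res G hVU (∑ j, resO le_rfl (r k j) • t j) = ∑ j, resO hVU (r k j) • res G hVU (t j)
    rw [res_sum]
    exact Finset.sum_congr rfl fun j _ => by rw [resO_self]

/-- The coherent version. -/
theorem cartF_homSh {𝔅 : GoodCov R} (hs : Gen F U s) (hr : Rel F U s r) (hG : CartF 𝔅 G U)
    [IsNoetherianRing (O R U)] : CartF 𝔅 (homSh F G) U := by
  refine ⟨cart_homSh hs hr hG.1, ?_⟩
  have := hG.2
  exact Module.Finite.of_injective (evs F G s le_rfl) (evs_injective hs le_rfl)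

/-- `ℋom(F, G)` is quasi-coherent for `F` of finite presentation and `G` quasi-coherent. -/
theorem isQuasicoherent_homSh (𝔅 : GoodCov R) (hF : SheafOfModules.IsFinitePresentation (R := ModSite.ringSh R) F)
    (hG : SheafOfModules.IsQuasicoherent.{u} G) : SheafOfModules.IsQuasicoherent.{u} (homSh F G) := by
  rw [Groth.Agent.Gaga.H976.TM3.isFinitePresentation_iff] at hF
  refine qc_of_cart (𝔅 := 𝔅) fun x => ?_
  obtain ⟨W, hxW, n, m, s, r, hs, hr⟩ := (fpAt_iff F x).1 (hF x)
  obtain ⟨U', hxU', hU'⟩ := exists_cart_of_qc' 𝔅 G hG x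
  obtain ⟨V, hV, hxV, hVW⟩ := 𝔅.exists_mem (show x ∈ W ⊓ U' from ⟨hxW, hxU'⟩)
  exact ⟨V, hxV, cart_homSh (hs.res (hVW.trans inf_le_left)) (hr.res (hVW.trans inf_le_left))
    (hU'.mono hV (hVW.trans inf_le_right))⟩

/-- `ℋom(F, G)` is coherent for `F` and `G` coherent. -/
theorem isFinitePresentation_homSh (𝔅 : GoodCov R) (hN : ∀ U ∈ 𝔅.B, IsNoetherianRing (O R U))
    (hF : SheafOfModules.IsFinitePresentation (R := ModSite.ringSh R) F)
    (hG : SheafOfModules.IsFinitePresentation (R := ModSite.ringSh R) G) :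
    SheafOfModules.IsFinitePresentation (R := ModSite.ringSh R) (homSh F G) := by
  rw [Groth.Agent.Gaga.H976.TM3.isFinitePresentation_iff] at hF
  refine (fp_iff 𝔅 hN _).2 fun x => ?_
  obtain ⟨W, hxW, n, m, s, r, hs, hr⟩ := (fpAt_iff F x).1 (hF x)
  obtain ⟨U', hxU', hU'⟩ := exists_cartF_of_fp' 𝔅 G hG x
  obtain ⟨V, hV, hxV, hVW⟩ := 𝔅.exists_mem (show x ∈ W ⊓ U' from ⟨hxW, hxU'⟩)
  have := hN V hV
  exact ⟨V, hxV, cartF_homSh (hs.res (hVW.trans inf_le_left)) (hr.res (hVW.trans inf_le_left))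
    (hU'.mono hV (hVW.trans inf_le_right))⟩

end K181.HomSh
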