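import Groth.Agent.FCompl.K29.RSec
import Groth.Agent.ModSite.K291.Tens

/-!
# The internal Hom of sheaves of modules over a sheaf of commutative rings on a space, explicitly

`HomOn M N U`: compatible families of `O(V)`-linear maps `M(V) → N(V)` for `V ≤ U`.
`homSh M N : Mod R`: the sheaf of modules with these sections.
-/

set_option autoImplicit false
set_option linter.style.haveILetI false
universe u

open CategoryTheory Opposite TopologicalSpace

noncomputable section

namespace K181.HomSh

open K29.RSec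

variable {T : TopCat.{u}} {R : Sheaf (Opens.grothendieckTopology T) CommRingCat.{u}} (M N : Mod R)

/-- The additive group of compatible families of `O(V)`-linear maps `M(V) → N(V)`, `V ≤ U`. -/
def homOnSubgroup (U : Opens T) : AddSubgroup (∀ V : {V : Opens T // V ≤ U}, (Sec M V.1 →+ Sec N V.1)) where
  carrier := {φ | (∀ V (r : O R V.1) (m : Sec M V.1), φ V (r • m) = r • φ V m) ∧
    ∀ (V W : {V : Opens T // V ≤ U}) (h : W.1 ≤ V.1) (m : Sec M V.1),
      φ W (res M h m) = res N h (φ V m)}
  zero_mem' := ⟨fun V r m => by simp, fun V W h m => by simp⟩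
  add_mem' := by
    rintro φ ψ ⟨h1, h2⟩ ⟨h1', h2'⟩
    exact ⟨fun V r m => by simp [h1, h1'], fun V W h m => by simp [h2, h2']⟩
  neg_mem' := by
    rintro φ ⟨h1, h2⟩
    exact ⟨fun V r m => by simp [h1], fun V W h m => by simp [h2]⟩

/-- Compatible families of `O(V)`-linear maps `M(V) → N(V)`, `V ≤ U`. -/
def HomOn (U : Opens T) : Type u := ↥(homOnSubgroup M N U)

instance (U : Opens T) : AddCommGroup (HomOn M N U) := inferInstanceAs (AddCommGroup ↥(homOnSubgroup M N U))

variable {M N}

namespace HomOn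

variable {U : Opens T}

/-- The component of a family at `V ≤ U`, as a function. -/
def ap (φ : HomOn M N U) (V : Opens T) (hV : V ≤ U) (m : Sec M V) : Sec N V := φ.1 ⟨V, hV⟩ m

theorem ap_add_right (φ : HomOn M N U) (V : Opens T) (hV : V ≤ U) (m m' : Sec M V) :
    φ.ap V hV (m + m') = φ.ap V hV m + φ.ap V hV m' := map_add (φ.1 ⟨V, hV⟩) _ _

theorem ap_smul_right (φ : HomOn M N U) (V : Opens T) (hV : V ≤ U) (r : O R V) (m : Sec M V) :
    φ.ap V hV (r • m) = r • φ.ap V hV m := φ.2.1 ⟨V, hV⟩ r m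

theorem ap_map (φ : HomOn M N U) {V W : Opens T} (hV : V ≤ U) (h : W ≤ V) (m : Sec M V) :
    φ.ap W (h.trans hV) (res M h m) = res N h (φ.ap V hV m) :=
  φ.2.2 ⟨V, hV⟩ ⟨W, h.trans hV⟩ h m

theorem ap_add (φ ψ : HomOn M N U) (V : Opens T) (hV : V ≤ U) (m : Sec M V) :
    (φ + ψ).ap V hV m = φ.ap V hV m + ψ.ap V hV m := rfl

theorem ap_zero (V : Opens T) (hV : V ≤ U) (m : Sec M V) : (0 : HomOn M N U).ap V hV m = 0 := rfl

theorem ext' {φ ψ : HomOn M N U} (h : ∀ V hV m, φ.ap V hV m = ψ.ap V hV m) : φ = ψ := by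
  apply Subtype.ext
  funext V
  ext m
  exact h V.1 V.2 m

/-- Build a family of linear maps. -/
def mk' (f : ∀ V : Opens T, V ≤ U → Sec M V → Sec N V)
    (hadd : ∀ V hV m m', f V hV (m + m') = f V hV m + f V hV m')
    (hsmul : ∀ V hV (r : O R V) m, f V hV (r • m) = r • f V hV m)
    (hmap : ∀ V W (hV : V ≤ U) (h : W ≤ V) m, f W (h.trans hV) (res M h m) = res N h (f V hV m)) : HomOn M N U :=
  ⟨fun V => AddMonoidHom.mk' (f V.1 V.2) (hadd V.1 V.2), fun V r m => hsmul V.1 V.2 r m,
    fun V W h m => hmap V.1 W.1 V.2 h m⟩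

theorem ap_mk' (f : ∀ V : Opens T, V ≤ U → Sec M V → Sec N V)
    (hadd : ∀ V hV m m', f V hV (m + m') = f V hV m + f V hV m')
    (hsmul : ∀ V hV (r : O R V) m, f V hV (r • m) = r • f V hV m)
    (hmap : ∀ V W (hV : V ≤ U) (h : W ≤ V) m, f W (h.trans hV) (res M h m) = res N h (f V hV m))
    (V : Opens T) (hV : V ≤ U) (m : Sec M V) :
    (mk' f hadd hsmul hmap).ap V hV m = f V hV m := rfl

/-- scalar multiplication -/
def smulAux (r : O R U) (φ : HomOn M N U) : HomOn M N U :=
  mk' (fun V hV m => resO hV r • φ.ap V hV m)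
    (fun V hV m m' => by rw [ap_add_right, smul_add])
    (fun V hV s m => by rw [ap_smul_right, smul_smul, smul_smul, mul_comm])
    (fun V W hV h m => by
      rw [ap_map, res_smul, resO_resO])

instance : Module (O R U) (HomOn M N U) where
  smul r φ := smulAux r φ
  one_smul φ := ext' fun V hV m => by
    change resO hV (1 : O R U) • φ.ap V hV m = _
    rw [map_one, one_smul]
  mul_smul r s φ := ext' fun V hV m => by
    change resO hV (r * s) • φ.ap V hV m = resO hV r • resO hV s • φ.ap V hV m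
    rw [map_mul, mul_smul]
  smul_zero r := ext' fun V hV m => by
    change resO hV r • (0 : Sec N V) = 0
    rw [smul_zero]
  smul_add r φ ψ := ext' fun V hV m => by
    change resO hV r • (φ.ap V hV m + ψ.ap V hV m) = resO hV r • φ.ap V hV m + resO hV r • ψ.ap V hV m
    rw [smul_add]
  add_smul r s φ := ext' fun V hV m => by
    change resO hV (r + s) • φ.ap V hV m = resO hV r • φ.ap V hV m + resO hV s • φ.ap V hV m
    rw [map_add, add_smul]
  zero_smul φ := ext' fun V hV m => by
    change resO hV (0 : O R U) • φ.ap V hV m = 0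
    rw [map_zero, zero_smul]

theorem ap_smul (r : O R U) (φ : HomOn M N U) (V : Opens T) (hV : V ≤ U) (m : Sec M V) :
    (r • φ).ap V hV m = resO hV r • φ.ap V hV m := rfl

/-- restriction of families -/
def rr {W : Opens T} (h : W ≤ U) : HomOn M N U →+ HomOn M N W where
  toFun φ := ⟨fun V => φ.1 ⟨V.1, V.2.trans h⟩, fun V r m => φ.2.1 ⟨V.1, V.2.trans h⟩ r m,
    fun V V' h' m => φ.2.2 ⟨V.1, V.2.trans h⟩ ⟨V'.1, V'.2.trans h⟩ h' m⟩
  map_zero' := rfl
  map_add' _ _ := rfl

theorem ap_rr {W : Opens T} (h : W ≤ U) (φ : HomOn M N U) (V : Opens T) (hV : V ≤ W) (m : Sec M V) :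
    (rr h φ).ap V hV m = φ.ap V (hV.trans h) m := rfl

end HomOn

variable (M N)

/-- Gluing of families. -/
theorem exists_glue_hom {ι : Type u} (U : ι → Opens T) (s : ∀ i, HomOn M N (U i))
    (hs : ∀ i j, HomOn.rr (inf_le_left : U i ⊓ U j ≤ U i) (s i) = HomOn.rr (inf_le_right : U i ⊓ U j ≤ U j) (s j)) :
    ∃ t : HomOn M N (⨆ i, U i), ∀ i, HomOn.rr (le_iSup U i) t = s i := by
  have hsf : ∀ i j (W : Opens T) (hi : W ≤ U i) (hj : W ≤ U j) (m : Sec M W), (s i).ap W hi m = (s j).ap W hj m :=
    fun i j W hi hj m => congrArg (fun φ : HomOn M N (U i ⊓ U j) => φ.ap W (le_inf hi hj) m) (hs i j)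
  have hcov : ∀ V : Opens T, V ≤ ⨆ i, U i → V ≤ ⨆ i, V ⊓ U i := fun V hV => by
    rw [← inf_iSup_eq]; exact le_inf le_rfl hV
  have key : ∀ (V : Opens T) (hV : V ≤ ⨆ i, U i) (m : Sec M V), ∃ t : Sec N V, ∀ i,
      res N inf_le_left t = (s i).ap (V ⊓ U i) inf_le_right (res M inf_le_left m) := by
    intro V hV m
    refine exists_glue N (fun i => V ⊓ U i) V (hcov V hV) (fun i => inf_le_left) _ ?_
    intro i j W hi hj
    rw [← HomOn.ap_map, ← HomOn.ap_map, res_res, res_res]
    exact hsf i j W _ _ _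
  choose f hf using key
  have hf' : ∀ (V : Opens T) (hV : V ≤ ⨆ i, U i) (m : Sec M V) (i : ι) (W : Opens T) (hWV : W ≤ V) (hW : W ≤ U i),
      res N hWV (f V hV m) = (s i).ap W hW (res M hWV m) := by
    intro V hV m i W hWV hW
    have := congrArg (res N (le_inf hWV hW)) (hf V hV m i)
    rw [res_res, ← HomOn.ap_map, res_res] at this
    exact this
  have uniq : ∀ (V : Opens T) (hV : V ≤ ⨆ i, U i) (s t : Sec N V),
      (∀ i (W : Opens T) (hWV : W ≤ V) (_ : W ≤ U i), res N hWV s = res N hWV t) → s = t := by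
    intro V hV s t h
    exact eq_of_locally N (fun i => V ⊓ U i) V (hcov V hV) (fun i => inf_le_left) s t
      fun i => h i _ _ inf_le_right
  let φ : HomOn M N (⨆ i, U i) := HomOn.mk' f
    (fun V hV m m' => uniq V hV _ _ fun i W hWV hW => by
      rw [map_add, hf' V hV _ i W hWV hW, hf' V hV _ i W hWV hW, hf' V hV _ i W hWV hW, map_add,
        HomOn.ap_add_right])
    (fun V hV r m => uniq V hV _ _ fun i W hWV hW => by
      rw [res_smul, hf' V hV _ i W hWV hW, hf' V hV _ i W hWV hW, res_smul,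
        HomOn.ap_smul_right])
    (fun V V' hV h m => uniq V' (h.trans hV) _ _ fun i W hWV hW => by
      rw [hf' V' _ _ i W hWV hW, res_res, res_res, hf' V hV m i W (hWV.trans h) hW])
  refine ⟨φ, fun i => ?_⟩
  apply HomOn.ext'
  intro V hV m
  have := hf' V (hV.trans (le_iSup U i)) m i V le_rfl hV
  rw [res_self, res_self] at this
  exact this

/-- The internal Hom of sheaves of modules. -/
def homD : Data R where
  S := HomOn M N
  r h := HomOn.rr h
  r_self _ _ := rfl
  r_r _ _ _ := rfl
  r_smul h a s := HomOn.ext' fun V hV m => by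
    rw [HomOn.ap_rr, HomOn.ap_smul, HomOn.ap_smul, resO_resO]
    rfl
  ext U s t h := by
    apply HomOn.ext'
    intro V hV m
    refine eq_of_locally N (fun i => V ⊓ U i) V (by rw [← inf_iSup_eq]; exact le_inf le_rfl hV)
      (fun i => inf_le_left) _ _ fun i => ?_
    rw [← HomOn.ap_map, ← HomOn.ap_map]
    exact congrArg (fun φ : HomOn M N (U i) => φ.ap (V ⊓ U i) inf_le_right (res M inf_le_left m)) (h i)
  glue U s h := exists_glue_hom M N U s h

/-- The internal Hom sheaf. -/
def homSh : Mod R := (homD M N).toMod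

/-- Evaluation. -/
def evB : K291.Tens.Bil (homSh M N) M N where
  b {U} φ m := HomOn.ap (M := M) (N := N) (U := U) φ U le_rfl m
  add_left φ ψ m := HomOn.ap_add _ _ _ _ _
  add_right φ m m' := HomOn.ap_add_right _ _ _ _ _
  smul_left {U} r φ m := by
    refine (HomOn.ap_smul (M := M) (N := N) (U := U) r φ U le_rfl m).trans ?_
    rw [resO_self]
    rfl
  smul_right r φ m := HomOn.ap_smul_right _ _ _ _ _
  res {U V} f φ m := (HomOn.ap_map (M := M) (N := N) (U := U) φ le_rfl f.le m).symm

section Adj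

open Groth.Agent.Dcoh K291.Mon K291.Colim K291.Flat K291.FreeOn K291.Tens MonoidalCategory

variable (M N : Mod R) [ModSite.HasSheafHom M]

/-- The evaluation `ℋom(M, N) ⊗ M ⟶ N` for the explicit internal Hom. -/
def evHom : homSh M N ⊗ M ⟶ N := tdesc (evB M N)

/-- The evaluation for the chosen internal Hom. -/
def ε : (ModSite.sheafHom M).obj N ⊗ M ⟶ N := (ModSite.sheafHomAdj M).counit.app N

/-- Comparison of the internal Homs. -/
def α : homSh M N ⟶ (ModSite.sheafHom M).obj N := (ModSite.sheafHomAdj M).homEquiv _ _ (evHom M N)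

theorem α_ε : (α M N ▷ M) ≫ ε M N = evHom M N :=
  ((ModSite.sheafHomAdj M).homEquiv_counit (g := α M N)).symm.trans
    (((ModSite.sheafHomAdj M).homEquiv _ _).symm_apply_apply _)

/-- The pairing. -/
def pair {V : Opens T} (h : Sec ((ModSite.sheafHom M).obj N) V) (m : Sec M V) : Sec N V :=
  sc (ε M N) V (tm h m)

theorem pair_add {V : Opens T} (h : Sec ((ModSite.sheafHom M).obj N) V) (m m' : Sec M V) :
    pair M N h (m + m') = pair M N h m + pair M N h m' :=
  (congrArg (sc (ε M N) V) (tm_add _ _ _)).trans (map_add _ _ _)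

theorem add_pair {V : Opens T} (h h' : Sec ((ModSite.sheafHom M).obj N) V) (m : Sec M V) :
    pair M N (h + h') m = pair M N h m + pair M N h' m :=
  (congrArg (sc (ε M N) V) (add_tm _ _ _)).trans (map_add _ _ _)

theorem pair_smul {V : Opens T} (h : Sec ((ModSite.sheafHom M).obj N) V) (r : O R V) (m : Sec M V) :
    pair M N h (r • m) = r • pair M N h m :=
  (congrArg (sc (ε M N) V) (tm_smul r _ _)).trans (sc_smul (ε M N) V r _)

theorem smul_pair {V : Opens T} (h : Sec ((ModSite.sheafHom M).obj N) V) (r : O R V) (m : Sec M V) :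
    pair M N (r • h) m = r • pair M N h m :=
  (congrArg (sc (ε M N) V) (smul_tm r _ _)).trans (sc_smul (ε M N) V r _)

theorem pair_res {V W : Opens T} (i : W ≤ V) (h : Sec ((ModSite.sheafHom M).obj N) V) (m : Sec M V) :
    pair M N (res _ i h) (res M i m) = res N i (pair M N h m) :=
  (congrArg (sc (ε M N) W) (rs_tm (homOfLE i) h m).symm).trans (sc_rs (ε M N) (homOfLE i) (tm h m))

theorem pair_α {V : Opens T} (φ : HomOn M N V) (m : Sec M V) :
    pair M N (app (α M N) V (show Sec (homSh M N) V from φ)) m = φ.ap V le_rfl m := by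
  have h1 : tm (app (α M N) V (show Sec (homSh M N) V from φ)) m =
      sc (α M N ▷ M) V (tm (show Sec (homSh M N) V from φ) m) :=
    (sc_whiskerRight_tm (N := M) (α M N) (U := V) (show Sec (homSh M N) V from φ) m).symm
  have h2 : sc ((α M N ▷ M) ≫ ε M N) V (tm (show Sec (homSh M N) V from φ) m) = φ.ap V le_rfl m := by
    rw [α_ε]
    exact sc_tdesc_tm (evB M N) (show Sec (homSh M N) V from φ) m
  exact (congrArg (sc (ε M N) V) h1).trans h2

/-- The family of maps defined by a section of the internal Hom. -/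
def βo (V : Opens T) (h : Sec ((ModSite.sheafHom M).obj N) V) : HomOn M N V :=
  HomOn.mk' (fun W hW m => pair M N (res _ hW h) m) (fun W hW m m' => pair_add M N _ _ _)
    (fun W hW r m => pair_smul M N _ _ _) (fun W W' hW i m => by
      rw [← pair_res, res_res])

theorem ap_βo (V : Opens T) (h : Sec ((ModSite.sheafHom M).obj N) V) {W : Opens T} (hW : W ≤ V) (m : Sec M W) :
    (βo M N V h).ap W hW m = pair M N (res _ hW h) m := rfl

/-- Comparison in the other direction. -/
def β : (ModSite.sheafHom M).obj N ⟶ homSh M N :=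
  homMk (N := homSh M N) (fun V => AddMonoidHom.mk' (βo M N V) fun h h' => HomOn.ext' fun W hW m => by
      change (βo M N V (h + h')).ap W hW m = (βo M N V h).ap W hW m + (βo M N V h').ap W hW m
      rw [ap_βo, ap_βo, ap_βo, map_add, add_pair])
    (fun V r h => HomOn.ext' (M := M) (N := N) fun W hW m => by
      change (βo M N V (r • h)).ap W hW m = (r • βo M N V h).ap W hW m
      rw [HomOn.ap_smul, ap_βo, ap_βo, res_smul, smul_pair])
    (fun V W i h => HomOn.ext' (M := M) (N := N) fun W' hW m => by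
      change (βo M N W (res _ i h)).ap W' hW m = (βo M N V h).ap W' _ m
      rw [ap_βo, ap_βo, res_res])

theorem app_β (V : Opens T) (h : Sec ((ModSite.sheafHom M).obj N) V) : app (β M N) V h = βo M N V h := rfl

theorem β_ev : (β M N ▷ M) ≫ evHom M N = ε M N := by
  refine tens_hom_ext fun V h m => ?_
  have h1 : sc (β M N ▷ M) V (tm h m) = tm (sc (β M N) V h) m := sc_whiskerRight_tm (N := M) (β M N) h m
  have h2 : sc (evHom M N) V (tm (sc (β M N) V h) m) = (βo M N V h).ap V le_rfl m :=
    sc_tdesc_tm (evB M N) (sc (β M N) V h) m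
  refine (congrArg (sc (evHom M N) V) h1).trans (h2.trans ?_)
  rw [ap_βo, res_self]
  rfl

/-- The chosen internal Hom is the explicit one. -/
def homShIso : homSh M N ≅ (ModSite.sheafHom M).obj N where
  hom := α M N
  inv := β M N
  hom_inv_id := by
    refine K29.RSec.hom_ext fun V φ => ?_
    refine HomOn.ext' (M := M) (N := N) fun W hW m => ?_
    have h1 : pair M N (res _ hW (app (α M N) V φ)) m = HomOn.ap (M := M) (N := N) (U := V) φ W hW m := by
      rw [← app_res]
      exact pair_α M N (HomOn.rr hW (show HomOn M N V from φ)) m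
    exact h1
  inv_hom_id := by
    apply ((ModSite.sheafHomAdj M).homEquiv _ _).symm.injective
    have h1 : ((ModSite.sheafHomAdj M).homEquiv ((ModSite.sheafHom M).obj N) N).symm (β M N ≫ α M N) =
        (β M N ▷ M) ≫ ((ModSite.sheafHomAdj M).homEquiv (homSh M N) N).symm (α M N) :=
      (ModSite.sheafHomAdj M).homEquiv_naturality_left_symm (β M N) (α M N)
    have h2 : ((ModSite.sheafHomAdj M).homEquiv (homSh M N) N).symm (α M N) = evHom M N :=
      Equiv.symm_apply_apply _ _
    have h3 : ((ModSite.sheafHomAdj M).homEquiv ((ModSite.sheafHom M).obj N) N).symm (𝟙 _) = ε M N :=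
      (ModSite.sheafHomAdj M).homEquiv_symm_id N
    rw [h1, h2, h3]
    exact β_ev M N

end Adj

end K181.HomSh
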