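import Groth.Agent.FSch.K181.Gen
import Groth.Agent.FCompl.K29.FmlGen
import Mathlib.CategoryTheory.ObjectProperty.Ind

/-!
# Coherent and ind-coherent modules on a locally Noetherian formal scheme are cartesian on every affine open
-/

set_option autoImplicit false
set_option linter.style.haveILetI false
universe u

open CategoryTheory TopologicalSpace Opposite TensorProduct AlgebraicGeometry CategoryTheory.Limits

noncomputable section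

namespace K181.Formal

open K29.RSec K181.BC K181.Pre K181.Good K29.RPres

variable {𝔛 : FSch.Sys.{u}} (h𝔛 : 𝔛.IsLocNoethFormal)

/-- Filtered colimits of coherent modules. -/
abbrev IndCoh (𝔉 : FSch.ModF 𝔛 h𝔛.1) : Prop :=
  (ObjectProperty.ind.{u} fun 𝔊 : FSch.ModF 𝔛 h𝔛.1 => FSch.IsCohF 𝔛 h𝔛.1 𝔊) 𝔉

/-- Coherent modules are cartesian, with finitely generated sections, on every affine open. -/
theorem cartF_of_coh {𝔉 : FSch.ModF 𝔛 h𝔛.1} (h𝔉 : FSch.IsCohF 𝔛 h𝔛.1 𝔉) {U : (𝔛.X 0).Opens}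
    (hU : IsAffineOpen U) : CartF (fcov h𝔛) 𝔉 U := by
  obtain ⟨n, m, s, r, hs, hr⟩ := K29.Fml.exists_pres h𝔛 h𝔉 (aff h𝔛 hU)
  have h1 := genI_of_gen hs
  have h2 := relI_of_rel hr
  refine ⟨cart_of_pres hU h1 h2, ?_⟩
  have h3 := span_eq_top_of_pres (𝔅 := fcov h𝔛) hU h1 h2
  exact ⟨⟨(Set.finite_range _).toFinset, by rw [Set.Finite.coe_toFinset]; exact h3⟩⟩

/-- Ind-coherent modules are cartesian on every affine open. -/
theorem cart_of_indCoh {𝔉 : FSch.ModF 𝔛 h𝔛.1} (h𝔉 : IndCoh h𝔛 𝔉) {U : (𝔛.X 0).Opens}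
    (hU : IsAffineOpen U) : Cart (fcov h𝔛) 𝔉 U := by
  obtain ⟨J, _, _, pres, h⟩ := h𝔉
  exact Cart.colim pres.isColimit fun j => (cartF_of_coh h𝔛 (h j) hU).1

theorem indCoh_of_coh {𝔉 : FSch.ModF 𝔛 h𝔛.1} (h𝔉 : FSch.IsCohF 𝔛 h𝔛.1 𝔉) : IndCoh h𝔛 𝔉 :=
  ObjectProperty.le_ind _ _ h𝔉

/-- A module is quasi-coherent iff it is cartesian on small affine opens. -/
theorem isQuasicoherent_of_indCoh {𝔉 : FSch.ModF 𝔛 h𝔛.1} (h𝔉 : IndCoh h𝔛 𝔉) : SheafOfModules.IsQuasicoherent.{u} 𝔉 :=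
  qc_of_cart (𝔅 := fcov h𝔛) fun x => by
    obtain ⟨U, hU, hxU, -⟩ := (fcov h𝔛).exists_mem (show x ∈ (⊤ : Opens (𝔛.X 0)) from trivial)
    exact ⟨U, hxU, cart_of_indCoh h𝔛 h𝔉 hU⟩

/-- Vanishing of the cohomology of cartesian modules over affine opens. -/
theorem subsingleton_HU_of_cart {𝔉 : FSch.ModF 𝔛 h𝔛.1} {U : (𝔛.X 0).Opens} (h : Cart (fcov h𝔛) 𝔉 U) (q : ℕ) :
    Subsingleton (ModSite.HU (𝔛.Osh h𝔛.1) 𝔉 (q + 1) U) :=
  subsingleton_HU h h.mem le_rfl q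

/-- `H^q(U, 𝔉) = 0` for `q > 0`, `U` affine and `𝔉` ind-coherent. -/
theorem subsingleton_HU_of_indCoh {𝔉 : FSch.ModF 𝔛 h𝔛.1} (h𝔉 : IndCoh h𝔛 𝔉) {U : (𝔛.X 0).Opens}
    (hU : IsAffineOpen U) (q : ℕ) : Subsingleton (ModSite.HU (𝔛.Osh h𝔛.1) 𝔉 (q + 1) U) :=
  subsingleton_HU_of_cart h𝔛 (cart_of_indCoh h𝔛 h𝔉 hU) q

end K181.Formal
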