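import Groth.Agent.FSch.K181.Pre
import Groth.Agent.FSch.K181.AcycAlg
import Groth.Agent.CalgA.FlatLim
import Mathlib.LinearAlgebra.TensorProduct.Pi
import Mathlib.LinearAlgebra.DFinsupp

/-!
# Exactness of "matrix" complexes of `M ⊗ O` from the case of `I`-torsion modules

`Arr V W`: a formal integral combination of restriction maps `∏ P(V a) → ∏ P(W b)`, for all presheaves `P`.
`exact_of_torsion`: for `M ⊗ O`, exactness of `∏ P(V⁰) → ∏ P(V¹) → ∏ P(V²)` for the modules killed by `I` implies it for all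
modules, when the rings of sections are `I`-complete, Noetherian and flat.
-/

set_option autoImplicit false
set_option linter.style.haveILetI false
universe u

open CategoryTheory TopologicalSpace Opposite TensorProduct

noncomputable section

namespace K181.Mat

open K29.RSec K181.BC K181.Pre Groth.Agent.CohqA Groth.Agent.CohqA.CechBasic

variable {T : TopCat.{u}} {R : Sheaf (Opens.grothendieckTopology T) CommRingCat.{u}}

/-- A formal combination of restriction maps. -/
structure Arr {α β : Type u} (V : α → Opens T) (W : β → Opens T) where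
  /-- number of terms -/
  m : ℕ
  /-- coefficients -/
  ε : Fin m → ℤ
  /-- sources -/
  a : β → Fin m → α
  le : ∀ b j, W b ≤ V (a b j)

variable {α β γ : Type u} {V0 : α → Opens T} {V1 : β → Opens T} {V2 : γ → Opens T}

/-- The map on sections of a presheaf. -/
def Arr.d (D : Arr V0 V1) (P : TopCat.Presheaf AddCommGrpCat.{u} T) (s : ∀ a, P.obj (op (V0 a))) (b : β) :
    P.obj (op (V1 b)) := ∑ j, D.ε j • CechBasic.res P (D.le b j) (s (D.a b j))

/-- The map on sections of the structure sheaf. -/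
def Arr.dO (D : Arr V0 V1) (U : Opens T) : (∀ a, OA R U (V0 a)) →ₗ[O R U] (∀ b, OA R U (V1 b)) :=
  LinearMap.pi fun b => ∑ j, D.ε j • ((rOA U (D.le b j)).toLinearMap ∘ₗ LinearMap.proj (D.a b j))

theorem Arr.dO_apply (D : Arr V0 V1) (U : Opens T) (s : ∀ a, OA R U (V0 a)) (b : β) :
    D.dO U s b = ∑ j, D.ε j • rOA U (D.le b j) (s (D.a b j)) := by
  simp [Arr.dO]

variable (U : Opens T) (M : Type u) [AddCommGroup M] [Module (O R U) M]

/-- `M ⊗ ∏ O(V a) ≅ ∏ (O(V a) ⊗ M)`. -/
def Phi [Fintype α] [DecidableEq α] (V0 : α → Opens T) :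
    M ⊗[O R U] (∀ a, OA R U (V0 a)) ≃ₗ[O R U] ∀ a, OA R U (V0 a) ⊗[O R U] M :=
  (TensorProduct.piRight (O R U) (O R U) M (fun a => OA R U (V0 a))).trans
    (LinearEquiv.piCongrRight fun a => TensorProduct.comm (O R U) M (OA R U (V0 a)))

theorem Phi_tmul [Fintype α] [DecidableEq α] (V0 : α → Opens T) (x : M) (s : ∀ a, OA R U (V0 a)) (a : α) :
    Phi U M V0 (x ⊗ₜ s) a = s a ⊗ₜ x := by
  simp [Phi]

theorem Phi_d [Fintype α] [DecidableEq α] [Fintype β] [DecidableEq β] (D : Arr V0 V1)
    (x : M ⊗[O R U] (∀ a, OA R U (V0 a))) (b : β) :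
    Phi U M V1 ((D.dO U).lTensor M x) b = D.d (TP R U M).ab (Phi U M V0 x) b := by
  induction x using TensorProduct.induction_on with
  | zero =>
    rw [map_zero, map_zero, map_zero]
    refine (Finset.sum_eq_zero fun j _ => ?_).symm
    exact (congrArg _ (map_zero _)).trans (smul_zero _)
  | tmul m s =>
    rw [LinearMap.lTensor_tmul, Phi_tmul, Arr.dO_apply]
    refine (TensorProduct.sum_tmul _ _ _).trans ?_
    refine Finset.sum_congr rfl fun j _ => ?_
    rw [Phi_tmul]
    change (D.ε j • rOA U (D.le b j) (s (D.a b j))) ⊗ₜ[O R U] m =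
      D.ε j • (rOA U (D.le b j) (s (D.a b j)) ⊗ₜ[O R U] m : OA R U (V1 b) ⊗[O R U] M)
    rw [smul_tmul']
  | add x y hx hy =>
    rw [map_add, map_add, Pi.add_apply, hx, hy, map_add]
    refine (Finset.sum_add_distrib).symm.trans (Finset.sum_congr rfl fun j _ => ?_)
    exact (smul_add _ _ _).symm.trans (congrArg _ (map_add _ _ _).symm)

theorem isFlat_pi {A : Type*} [CommRing A] {ι : Type*} [Finite ι] (M : ι → Type*) [∀ i, AddCommGroup (M i)]
    [∀ i, Module A (M i)] [∀ i, Module.Flat A (M i)] : Module.Flat A (∀ i, M i) := by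
  classical
  cases nonempty_fintype ι
  exact Module.Flat.of_linearEquiv (DFinsupp.linearEquivFunOnFintype (R := A) (M := M)).symm

theorem isAdicComplete_tensor_pi {A : Type u} [CommRing A] (I : Ideal A) {ι : Type u} [Finite ι] (C : ι → Type u)
    [∀ i, CommRing (C i)] [∀ i, Algebra A (C i)] [∀ i, IsNoetherianRing (C i)]
    (hC : ∀ i, IsAdicComplete (I.map (algebraMap A (C i))) (C i)) (M : Type u) [AddCommGroup M] [Module A M]
    [Module.Finite A M] : IsAdicComplete I (M ⊗[A] (∀ i, C i)) := by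
  classical
  cases nonempty_fintype ι
  have h1 : ∀ i, IsAdicComplete I (M ⊗[A] C i) := fun i => AcycAlg.isAdicComplete_tensor I (C i) M
  have h2 : IsAdicComplete I (∀ i, M ⊗[A] C i) := AcycAlg.isAdicComplete_pi I _
  exact Groth.Agent.CalgA.FlatLim.isAdicComplete_congr I (TensorProduct.piRight A A M C).symm

/-- Exactness for modules killed by `I` implies exactness for all modules. -/
theorem exact_of_torsion [Finite α] [Finite β] [Finite γ] (I : Ideal (O R U)) (D0 : Arr V0 V1) (D1 : Arr V1 V2)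
    (hd : ∀ s : ∀ a, OA R U (V0 a), D1.dO U (D0.dO U s) = 0)
    (hflat : ∀ c, Module.Flat (O R U) (OA R U (V2 c)))
    (hn0 : ∀ a, IsNoetherianRing (OA R U (V0 a))) (hn1 : ∀ b, IsNoetherianRing (OA R U (V1 b)))
    (hc0 : ∀ a, IsAdicComplete (I.map (algebraMap (O R U) (OA R U (V0 a)))) (OA R U (V0 a)))
    (hc1 : ∀ b, IsAdicComplete (I.map (algebraMap (O R U) (OA R U (V1 b)))) (OA R U (V1 b)))
    (hI : ∀ (N : Type u) [AddCommGroup N] [Module (O R U) N], (∀ a ∈ I, ∀ x : N, a • x = 0) →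
      ∀ s : ∀ b, (TP R U N).ab.obj (op (V1 b)), (∀ c, D1.d (TP R U N).ab s c = 0) →
        ∃ t : ∀ a, (TP R U N).ab.obj (op (V0 a)), ∀ b, D0.d (TP R U N).ab t b = s b)
    (s : ∀ b, (TP R U M).ab.obj (op (V1 b))) (hs : ∀ c, D1.d (TP R U M).ab s c = 0) :
    ∃ t : ∀ a, (TP R U M).ab.obj (op (V0 a)), ∀ b, D0.d (TP R U M).ab t b = s b := by
  classical
  cases nonempty_fintype α
  cases nonempty_fintype β
  cases nonempty_fintype γ
  have hf : Module.Flat (O R U) (∀ c, OA R U (V2 c)) := isFlat_pi _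
  have hI' : ∀ (N : Type u) [AddCommGroup N] [Module (O R U) N], (∀ a ∈ I, ∀ x : N, a • x = 0) →
      ∀ x : N ⊗[O R U] (∀ b, OA R U (V1 b)), (D1.dO U).lTensor N x = 0 → ∃ y, (D0.dO U).lTensor N y = x := by
    intro N _ _ hN x hx
    obtain ⟨t, ht⟩ := hI N hN (Phi U N V1 x) fun c => by
      rw [← Phi_d, hx, map_zero]
      rfl
    refine ⟨(Phi U N V0).symm t, (Phi U N V1).injective (funext fun b => ?_)⟩
    rw [Phi_d, LinearEquiv.apply_symm_apply, ht]
  have key := AcycAlg.exact_of_finite (D0.dO (R := R) U) (D1.dO U) (fun N _ _ hN x hx => by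
    have h0 := isAdicComplete_tensor_pi I (fun a => OA R U (V0 a)) hc0 N
    have h1 := isAdicComplete_tensor_pi I (fun b => OA R U (V1 b)) hc1 N
    exact AcycAlg.exact_of_complete I (D0.dO (R := R) U) (D1.dO U) (LinearMap.ext hd) hI' N x hx) M
    ((Phi U M V1).symm s) ((Phi U M V2).injective (funext fun c => by
      rw [Phi_d, LinearEquiv.apply_symm_apply, hs, map_zero]
      rfl))
  obtain ⟨t, ht⟩ := key
  refine ⟨Phi U M V0 t, fun b => ?_⟩
  rw [← Phi_d, ht, LinearEquiv.apply_symm_apply]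

end K181.Mat
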