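import Groth.Agent.FSch.K181.RHomDev
import Groth.Agent.FSch.K181.Coh

/-!
# The classes "cartesian on `U`", "injective base change on `U`", "zero on `U`"
-/

set_option autoImplicit false
set_option linter.style.haveILetI false
universe u

open CategoryTheory TopologicalSpace Opposite TensorProduct CategoryTheory.Limits

noncomputable section

namespace K181.BC

variable {A B : Type*} [CommRing A] [CommRing B] (σ : A →+* B)

/-- The base change map is injective. -/
structure IsBCI {M N : Type*} [AddCommGroup M] [Module A M] [AddCommGroup N] [Module B N] (f : M →ₛₗ[σ] N) :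
    Prop where
  inj : ∀ (_ : Algebra A B) (_ : Module A N) (_ : IsScalarTower A B N) (_ : algebraMap A B = σ) (f' : M →ₗ[A] N)
    (_ : ∀ m, f' m = f m), Function.Injective (bc (B := B) f')

variable {σ}

theorem IsBC.isBCI {M N : Type*} [AddCommGroup M] [Module A M] [AddCommGroup N] [Module B N] {f : M →ₛₗ[σ] N}
    (h : IsBC σ f) : IsBCI σ f := ⟨fun _ _ _ h1 f' h2 => (h.bij _ _ _ h1 f' h2).1⟩

section

variable {M₁ M₂ M₃ N₁ N₂ N₃ : Type*} [AddCommGroup M₁] [Module A M₁] [AddCommGroup M₂] [Module A M₂]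
  [AddCommGroup M₃] [Module A M₃] [AddCommGroup N₁] [Module B N₁]
  [AddCommGroup N₂] [Module B N₂] [AddCommGroup N₃] [Module B N₃]
  {f₁ : M₁ →ₛₗ[σ] N₁} {f₂ : M₂ →ₛₗ[σ] N₂} {f₃ : M₃ →ₛₗ[σ] N₃} {i : M₁ →ₗ[A] M₂} {g : M₂ →ₗ[A] M₃}
  {i' : N₁ →ₗ[B] N₂} {g' : N₂ →ₗ[B] N₃}

theorem IsBCI.ker (hσ : σ.Flat) (h12 : ∀ m, f₂ (i m) = i' (f₁ m)) (h23 : ∀ m, f₃ (g m) = g' (f₂ m))
    (hi : Function.Injective i) (hex : Function.Exact i g) (hi' : Function.Injective i')
    (hex' : Function.Exact i' g') (h2 : IsBC σ f₂) (h3 : IsBCI σ f₃) : IsBC σ f₁ := by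
  refine ⟨?_⟩
  intro ia _ _ hA f₁' hf₁
  have : Module.Flat A B := by
    rw [← RingHom.flat_algebraMap_iff, hA]
    exact hσ
  letI : Module A N₂ := Module.compHom N₂ (algebraMap A B)
  haveI : IsScalarTower A B N₂ := IsScalarTower.of_algebraMap_smul fun _ _ => rfl
  letI : Module A N₃ := Module.compHom N₃ (algebraMap A B)
  haveI : IsScalarTower A B N₃ := IsScalarTower.of_algebraMap_smul fun _ _ => rfl
  exact ker_bijective (f₁ := f₁') (f₂ := toLin σ hA f₂) (f₃ := toLin σ hA f₃) (i := i) (g := g) (i' := i') (g' := g')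
    (fun m => (h12 m).trans (congrArg i' (hf₁ m).symm)) h23 hi hex hi' hex' (h2.out hA)
    (h3.inj _ _ _ hA _ fun _ => rfl)

theorem IsBCI.four (hσ : σ.Flat) (h12 : ∀ m, f₂ (i m) = i' (f₁ m)) (h23 : ∀ m, f₃ (g m) = g' (f₂ m))
    (hex : Function.Exact i g) (hi' : Function.Injective i')
    (h1 : IsBCI σ f₁) (h3 : IsBCI σ f₃) : IsBCI σ f₂ := by
  refine ⟨?_⟩
  intro ia _ _ hA f₂' hf₂
  have : Module.Flat A B := by
    rw [← RingHom.flat_algebraMap_iff, hA]
    exact hσ
  letI : Module A N₁ := Module.compHom N₁ (algebraMap A B)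
  haveI : IsScalarTower A B N₁ := IsScalarTower.of_algebraMap_smul fun _ _ => rfl
  letI : Module A N₃ := Module.compHom N₃ (algebraMap A B)
  haveI : IsScalarTower A B N₃ := IsScalarTower.of_algebraMap_smul fun _ _ => rfl
  have j1 : Function.Injective (bc (B := B) (toLin σ hA f₁)) := h1.inj _ _ _ hA _ fun _ => rfl
  have j3 : Function.Injective (bc (B := B) (toLin σ hA f₃)) := h3.inj _ _ _ hA _ fun _ => rfl
  have hexB : Function.Exact (i.lTensor B) (g.lTensor B) := Module.Flat.lTensor_exact B hex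
  have c12 := bc_comm (B := B) (f₁ := toLin σ hA f₁) (f₂ := f₂') (i := i) (i' := i')
    (fun m => (hf₂ _).trans (h12 m))
  have c23 := bc_comm (B := B) (f₁ := f₂') (f₂ := toLin σ hA f₃) (i := g) (i' := g')
    (fun m => (h23 m).trans (congrArg g' (hf₂ m).symm))
  rw [injective_iff_map_eq_zero]
  intro x hx
  have hgx : g.lTensor B x = 0 := by
    apply j3
    rw [c23, hx, map_zero, map_zero]
  obtain ⟨y, rfl⟩ := (hexB x).1 hgx
  rw [c12] at hx
  have hy : y = 0 := by
    apply j1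
    apply hi'
    rw [hx, map_zero, map_zero]
  rw [hy, map_zero]

/-- Transport. -/
theorem IsBCI.congr {M' N' : Type*} [AddCommGroup M'] [Module A M'] [AddCommGroup N'] [Module B N']
    {M N : Type*} [AddCommGroup M] [Module A M] [AddCommGroup N] [Module B N] {f : M →ₛₗ[σ] N}
    {f' : M' →ₛₗ[σ] N'} (h : IsBCI σ f) (e : M ≃ₗ[A] M') (e' : N ≃ₗ[B] N')
    (hee' : ∀ m, f' (e m) = e' (f m)) : IsBCI σ f' := by
  refine ⟨?_⟩
  intro ia _ _ hA f'' hf
  letI : Module A N := Module.compHom N (algebraMap A B)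
  haveI : IsScalarTower A B N := IsScalarTower.of_algebraMap_smul fun _ _ => rfl
  have j : Function.Injective (bc (B := B) (toLin σ hA f)) := h.inj _ _ _ hA _ fun _ => rfl
  have c := bc_comm (B := B) (f₁ := toLin σ hA f) (f₂ := f'') (i := e.toLinearMap) (i' := e'.toLinearMap)
    (fun m => (hf _).trans (hee' m))
  have hs : Function.Surjective (e.toLinearMap.lTensor B) := LinearMap.lTensor_surjective _ e.surjective
  rw [injective_iff_map_eq_zero]
  intro x hx
  obtain ⟨y, rfl⟩ := hs x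
  rw [c] at hx
  have : bc (B := B) (toLin σ hA f) y = 0 := e'.injective (hx.trans (map_zero e').symm)
  rw [j (this.trans (map_zero _).symm), map_zero]

end

/-- Zero modules. -/
theorem isBC_of_subsingleton {M N : Type*} [AddCommGroup M] [Module A M] [AddCommGroup N] [Module B N]
    [Subsingleton M] [Subsingleton N] (f : M →ₛₗ[σ] N) : IsBC σ f := by
  refine ⟨?_⟩
  intro ia _ _ hA f' hf
  have : Subsingleton (B ⊗[A] M) := inferInstance
  exact ⟨fun _ _ _ => Subsingleton.elim _ _, fun y => ⟨0, Subsingleton.elim _ _⟩⟩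

end K181.BC

namespace K181.PQZInst

open K29.RSec K29.RExact K181.BC K181.Pre K181.Good K181.RHomDev

variable {T : TopCat.{u}} {R : Sheaf (Opens.grothendieckTopology T) CommRingCat.{u}} {𝔅 : GoodCov R}

variable (R) in
/-- Zero on `U`. -/
def ZeroOn (U : Opens T) : ObjectProperty (Mod R) := fun N => ∀ V ≤ U, Subsingleton (Sec N V)

variable (𝔅) in
/-- Injective base change maps on `U`. -/
def InjOn (U : Opens T) : ObjectProperty (Mod R) := fun N =>
  ∀ (V : Opens T) (_ : V ∈ 𝔅.B) (h : V ≤ U), IsBCI (resO (R := R) h) (resS N h)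

theorem ZeroOn.cart {U : Opens T} (hU : U ∈ 𝔅.B) {N : Mod R} (h : ZeroOn R U N) : Cart 𝔅 N U := by
  refine ⟨hU, fun V hV hVU => ?_⟩
  have : Subsingleton ((PM.ofMod N).S U) := h U le_rfl
  have : Subsingleton ((PM.ofMod N).S V) := h V hVU
  exact isBC_of_subsingleton _

theorem ZeroOn.cartF {U : Opens T} (hU : U ∈ 𝔅.B) {N : Mod R} (h : ZeroOn R U N) : CartF 𝔅 N U := by
  refine ⟨h.cart hU, ?_⟩
  have := h U le_rfl
  infer_instance

theorem ZeroOn.of_mono {U : Opens T} {N N' : Mod R} (f : N ⟶ N') (hf : Mono f) (h : ZeroOn R U N') : ZeroOn R U N := by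
  intro V hV
  have := h V hV
  exact (app_injective f V).subsingleton

theorem ZeroOn.of_epi {U : Opens T} {N N' : Mod R} (f : N ⟶ N') (hf : Epi f) (h : ZeroOn R U N) : ZeroOn R U N' := by
  intro V hV
  refine ⟨fun s t => eq_of_forall_nhds N' s t fun x hx => ?_⟩
  obtain ⟨W, hxW, hW, a, ha⟩ := (epi_iff_local f).1 hf V s x hx
  obtain ⟨W', hxW', hW', a', ha'⟩ := (epi_iff_local f).1 hf V t x hx
  refine ⟨W ⊓ W', ⟨hxW, hxW'⟩, inf_le_left.trans hW, ?_⟩
  have := h (W ⊓ W') ((inf_le_left.trans hW).trans hV)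
  have e1 : res N' (inf_le_left.trans hW) s = app f (W ⊓ W') (res N inf_le_left a) := by
    rw [app_res, ha, res_res]
  have e2 : res N' (inf_le_left.trans hW) t = app f (W ⊓ W') (res N inf_le_right a') := by
    rw [app_res, ha', res_res]
  rw [e1, e2, Subsingleton.elim (res N inf_le_left a) (res N inf_le_right a')]

theorem ZeroOn.of_isZero {U : Opens T} {N : Mod R} (h : IsZero N) : ZeroOn R U N := by
  intro V _
  refine ⟨fun s t => ?_⟩
  have e : (𝟙 N : N ⟶ N) = 0 := h.eq_of_src _ _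
  have key : ∀ s : Sec N V, s = 0 := fun s => by
    have : app (𝟙 N) V s = app (0 : N ⟶ N) V s := by rw [e]
    exact this
  rw [key s, key t]

/-- Bijective on the members of the basis contained in `U`. -/
def UBij (𝔅 : GoodCov R) (U : Opens T) {M N : Mod R} (f : M ⟶ N) : Prop :=
  ∀ (V : Opens T) (_ : V ∈ 𝔅.B) (_ : V ≤ U), Function.Bijective (app f V)

theorem uBij_of_epi {U : Opens T} (hU : U ∈ 𝔅.B) {S : ShortComplex (Mod R)} (hS : S.ShortExact)
    (h : ZeroOn R U S.X₁) : UBij 𝔅 U S.g := by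
  have := hS.mono_f
  intro V hV hVU
  refine ⟨?_, surjective_app hS (h.cart hU) hV hVU⟩
  rw [injective_iff_map_eq_zero]
  intro s hs
  obtain ⟨t, rfl⟩ := (exact_app hS.exact V s).1 hs
  have := h V hVU
  rw [Subsingleton.elim t 0, map_zero]

theorem uBij_of_mono {U : Opens T} {S : ShortComplex (Mod R)} (hS : S.ShortExact)
    (h : ZeroOn R U S.X₃) : UBij 𝔅 U S.f := by
  have := hS.mono_f
  intro V hV hVU
  refine ⟨app_injective S.f V, fun s => ?_⟩
  have := h V hVU
  exact (exact_app hS.exact V s).1 (Subsingleton.elim _ _)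

theorem UBij.cart_iff {U : Opens T} (hU : U ∈ 𝔅.B) {M N : Mod R} {f : M ⟶ N} (hf : UBij 𝔅 U f) :
    Cart 𝔅 M U ↔ Cart 𝔅 N U := by
  constructor
  · intro h
    refine ⟨hU, fun V hV hVU => ?_⟩
    exact (h.2 V hV hVU).congr (LinearEquiv.ofBijective (app f U) (hf U hU le_rfl))
      (LinearEquiv.ofBijective (app f V) (hf V hV hVU)) fun m => (app_res f hVU m).symm
  · intro h
    refine ⟨hU, fun V hV hVU => ?_⟩
    refine (h.2 V hV hVU).congr (LinearEquiv.ofBijective (app f U) (hf U hU le_rfl)).symm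
      (LinearEquiv.ofBijective (app f V) (hf V hV hVU)).symm fun m => ?_
    apply (hf V hV hVU).1
    refine (app_res f hVU _).trans ?_
    refine Eq.trans ?_ ((LinearEquiv.ofBijective (app f V) (hf V hV hVU)).apply_symm_apply _).symm
    exact congrArg (K29.RSec.res N hVU) ((LinearEquiv.ofBijective (app f U) (hf U hU le_rfl)).apply_symm_apply m)

theorem UBij.injOn_iff {U : Opens T} (hU : U ∈ 𝔅.B) {M N : Mod R} {f : M ⟶ N} (hf : UBij 𝔅 U f) :
    InjOn 𝔅 U M ↔ InjOn 𝔅 U N := by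
  constructor
  · intro h V hV hVU
    exact (h V hV hVU).congr (LinearEquiv.ofBijective (app f U) (hf U hU le_rfl))
      (LinearEquiv.ofBijective (app f V) (hf V hV hVU)) fun m => (app_res f hVU m).symm
  · intro h V hV hVU
    refine (h V hV hVU).congr (LinearEquiv.ofBijective (app f U) (hf U hU le_rfl)).symm
      (LinearEquiv.ofBijective (app f V) (hf V hV hVU)).symm fun m => ?_
    apply (hf V hV hVU).1
    refine (app_res f hVU _).trans ?_
    refine Eq.trans ?_ ((LinearEquiv.ofBijective (app f V) (hf V hV hVU)).apply_symm_apply _).symm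
    exact congrArg (K29.RSec.res N hVU) ((LinearEquiv.ofBijective (app f U) (hf U hU le_rfl)).apply_symm_apply m)

theorem UBij.finite_iff {U : Opens T} (hU : U ∈ 𝔅.B) {M N : Mod R} {f : M ⟶ N} (hf : UBij 𝔅 U f) :
    Module.Finite (O R U) (Sec M U) ↔ Module.Finite (O R U) (Sec N U) :=
  ⟨fun _ => Module.Finite.equiv (LinearEquiv.ofBijective (app f U) (hf U hU le_rfl)),
    fun _ => Module.Finite.equiv (LinearEquiv.ofBijective (app f U) (hf U hU le_rfl)).symm⟩

theorem UBij.cartF_iff {U : Opens T} (hU : U ∈ 𝔅.B) {M N : Mod R} {f : M ⟶ N} (hf : UBij 𝔅 U f) :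
    CartF 𝔅 M U ↔ CartF 𝔅 N U :=
  and_congr (hf.cart_iff hU) (hf.finite_iff hU)

/-- Factorization of a morphism through its image. -/
theorem image_factor {M N : Mod R} (f : M ⟶ N) :
    (ShortComplex.mk (kernel.ι f) (Abelian.factorThruImage f) (by
      rw [← cancel_mono (Abelian.image.ι f), Category.assoc, Abelian.image.fac, kernel.condition, zero_comp])).ShortExact ∧
    (ShortComplex.mk (Abelian.image.ι f) (cokernel.π f) (kernel.condition _)).ShortExact := by
  refine ⟨⟨ShortComplex.exact_of_f_is_kernel _ ?_⟩,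
    ⟨ShortComplex.exact_of_f_is_kernel _ (kernelIsKernel (cokernel.π f))⟩⟩
  exact KernelFork.IsLimit.ofι' _ _ fun {A} k hk =>
    ⟨kernel.lift f k (by rw [← Abelian.image.fac f, ← Category.assoc, hk, zero_comp]), by simp⟩

theorem uBij_of_zeroOn {U : Opens T} (hU : U ∈ 𝔅.B) {M N : Mod R} (f : M ⟶ N) (h1 : ZeroOn R U (kernel f))
    (h2 : ZeroOn R U (cokernel f)) : UBij 𝔅 U f := by
  obtain ⟨hS₁, hS₂⟩ := image_factor f
  have b1 := uBij_of_epi hU hS₁ h1
  have b2 := uBij_of_mono (𝔅 := 𝔅) hS₂ h2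
  intro V hV hVU
  have : ⇑(app f V) = ⇑(app (Abelian.image.ι f) V) ∘ ⇑(app (Abelian.factorThruImage f) V) := by
    funext s
    rw [Function.comp_apply, ← app_comp, Abelian.image.fac]
  rw [this]
  exact (b2 V hV hVU).comp (b1 V hV hVU)

theorem injOn_mk {U : Opens T} (hU : U ∈ 𝔅.B) {S : ShortComplex (Mod R)} (hS : S.Exact) (hm : Mono S.f)
    (h1 : Cart 𝔅 S.X₁ U) (h3 : Cart 𝔅 S.X₃ U) : InjOn 𝔅 U S.X₂ := by
  intro V hV hVU
  exact IsBCI.four (𝔅.flat hVU hU hV) (i := app S.f U) (g := app S.g U) (i' := app S.f V) (g' := app S.g V)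
    (f₁ := resS S.X₁ hVU) (f₂ := resS S.X₂ hVU) (f₃ := resS S.X₃ hVU)
    (fun m => (app_res S.f hVU m).symm) (fun m => (app_res S.g hVU m).symm)
    (exact_app hS U) (app_injective S.f V) (h1.2 V hV hVU).isBCI (h3.2 V hV hVU).isBCI

theorem cart_kernel {U : Opens T} {M N : Mod R} (f : M ⟶ N) (h1 : Cart 𝔅 M U) (h2 : InjOn 𝔅 U N) :
    Cart 𝔅 (kernel f) U := by
  have hS : (ShortComplex.mk (kernel.ι f) f (kernel.condition f)).Exact :=
    ShortComplex.exact_of_f_is_kernel _ (kernelIsKernel f)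
  refine ⟨h1.mem, fun V hV hVU => ?_⟩
  exact IsBCI.ker (𝔅.flat hVU h1.mem hV) (i := app (kernel.ι f) U) (g := app f U) (i' := app (kernel.ι f) V) (g' := app f V)
    (f₁ := resS (kernel f) hVU) (f₂ := resS M hVU) (f₃ := resS N hVU)
    (fun m => (app_res (kernel.ι f) hVU m).symm) (fun m => (app_res f hVU m).symm)
    (app_injective (kernel.ι f) U) (exact_app hS U) (app_injective (kernel.ι f) V) (exact_app hS V)
    (h1.2 V hV hVU) (h2 V hV hVU)

variable (𝔅) in
/-- Cartesian modules on `U`. -/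
abbrev CartP (U : Opens T) : ObjectProperty (Mod R) := fun N => Cart 𝔅 N U

variable (𝔅) in
/-- Cartesian modules on `U` with finitely generated sections. -/
abbrev CartFP (U : Opens T) : ObjectProperty (Mod R) := fun N => CartF 𝔅 N U

theorem pqz_cart {U : Opens T} (hU : U ∈ 𝔅.B) : PQZ (CartP 𝔅 U) (InjOn 𝔅 U) (ZeroOn R U) where
  iso e h := h.of_iso e
  zero h := (ZeroOn.of_isZero h).cart hU
  ker f h1 h2 := cart_kernel f h1 h2
  coker f h1 h2 := Cart.cokernel f h1 h2
  ext hS h1 h3 := Cart.ext hS h1 h3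
  q hS hm h1 h3 := injOn_mk hU hS hm h1 h3
  isoZ e h := h.of_mono e.inv inferInstance
  zeroZ h := ZeroOn.of_isZero h
  subZ f hf h := h.of_mono f hf
  quotZ f hf h := h.of_epi f hf
  tr f h1 h2 := by
    have := uBij_of_zeroOn hU f h1 h2
    exact ⟨this.cart_iff hU, this.injOn_iff hU⟩

theorem pqz_cartF {U : Opens T} (hU : U ∈ 𝔅.B) (hN : IsNoetherianRing (O R U)) :
    PQZ (CartFP 𝔅 U) (InjOn 𝔅 U) (ZeroOn R U) where
  iso e h := h.of_iso e
  zero h := (ZeroOn.of_isZero h).cartF hU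
  ker f h1 h2 := h1.of_mono (kernel.ι f) (cart_kernel f h1.1 h2)
  coker f h1 h2 := h2.of_epi (cokernel.π f) (Cart.cokernel f h1.1 h2.1)
  ext hS h1 h3 := CartF.ext hS h1 h3
  q hS hm h1 h3 := injOn_mk hU hS hm h1.1 h3.1
  isoZ e h := h.of_mono e.inv inferInstance
  zeroZ h := ZeroOn.of_isZero h
  subZ f hf h := h.of_mono f hf
  quotZ f hf h := h.of_epi f hf
  tr f h1 h2 := by
    have := uBij_of_zeroOn hU f h1 h2
    exact ⟨this.cartF_iff hU, this.injOn_iff hU⟩

end K181.PQZInst
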