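import Groth.Agent.FSch.K181.BC
import Groth.Agent.FCompl.K29.RSec
import Groth.Agent.CohqA.CechFlasque

/-!
# Presheaves of modules that are cartesian on a family of opens, and their Čech complexes

* `PM R`: presheaf of modules by raw data; `PM.ofMod F` for a sheaf of modules `F`.
* `PM.CartOn P B U`: for `V ∈ B`, `V ≤ U`, the map `O(V) ⊗ P(U) → P(V)` is bijective (`IsBC`).
* `TP U M`: the presheaf `V ↦ O(U ⊓ V) ⊗ M` for an `O(U)`-module `M`.
* `CGood U W P`: the augmented Čech complex of `P` for `W` is exact.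
* `cgood_of_cartOn`: if `TP U (P(U))` is `CGood` then so is `P` cartesian on `U`.
-/

set_option autoImplicit false
set_option linter.style.haveILetI false
universe u

open CategoryTheory TopologicalSpace Opposite TensorProduct

noncomputable section

namespace K181.Pre

open K29.RSec K181.BC Groth.Agent.CohqA Groth.Agent.CohqA.CechBasic Groth.Agent.CohqA.CechSheaf

variable {T : TopCat.{u}}

/-- A presheaf of modules over the sheaf of rings `R`, by raw data. -/
structure PM (R : Sheaf (Opens.grothendieckTopology T) CommRingCat.{u}) where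
  /-- sections -/
  S : Opens T → Type u
  [grp : ∀ V, AddCommGroup (S V)]
  [mod : ∀ V, Module (O R V) (S V)]
  /-- restriction -/
  r : ∀ {V W : Opens T}, W ≤ V → (S V →+ S W)
  r_self : ∀ {V : Opens T} (h : V ≤ V) (s : S V), r h s = s
  r_r : ∀ {U V W : Opens T} (h : V ≤ U) (h' : W ≤ V) (s : S U), r h' (r h s) = r (h'.trans h) s
  r_smul : ∀ {V W : Opens T} (h : W ≤ V) (a : O R V) (s : S V), r h (a • s) = resO h a • r h s

attribute [instance] PM.grp PM.mod

variable {R : Sheaf (Opens.grothendieckTopology T) CommRingCat.{u}}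

namespace PM

variable (P : PM R)

/-- Restriction as a semilinear map. -/
def rS {V W : Opens T} (h : W ≤ V) : P.S V →ₛₗ[resO (R := R) h] P.S W where
  toFun := P.r h
  map_add' := map_add _
  map_smul' := P.r_smul h

@[simp] theorem rS_apply {V W : Opens T} (h : W ≤ V) (s : P.S V) : P.rS h s = P.r h s := rfl

/-- The presheaf of abelian groups. -/
def ab : TopCat.Presheaf AddCommGrpCat.{u} T where
  obj V := AddCommGrpCat.of (P.S V.unop)
  map f := AddCommGrpCat.ofHom (P.r f.unop.le)
  map_id V := by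
    ext s
    exact P.r_self _ s
  map_comp f g := by
    ext s
    exact (P.r_r _ _ s).symm

theorem res_ab {V W : Opens T} (h : W ≤ V) (s : P.S V) : res P.ab h s = P.r h s := rfl

/-- The presheaf of a sheaf of modules. -/
def ofMod (F : Mod R) : PM R where
  S := Sec F
  r h := res F h
  r_self h := res_self F h
  r_r h h' := res_res F h h'
  r_smul h := res_smul F h

theorem ofMod_ab (F : Mod R) : (ofMod F).ab = F.val.presheaf := rfl

/-- `P` is cartesian on `U` for the family `B`. -/
def CartOn (B : Set (Opens T)) (U : Opens T) : Prop :=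
  ∀ V ∈ B, ∀ h : V ≤ U, IsBC (resO h) (P.rS h)

variable {P}

theorem CartOn.mono {B : Set (Opens T)} {U V : Opens T} (hP : P.CartOn B U) (hV : V ∈ B) (h : V ≤ U) :
    P.CartOn B V := by
  intro W hW hWV
  exact (IsBC.comp_iff (ρ := resO (hWV.trans h)) (f := P.rS h) (g := P.rS hWV) (k := P.rS (hWV.trans h))
    (fun a => (resO_resO _ _ a).symm) (fun m => (P.r_r _ _ m).symm) (hP V hV h)).2 (hP W hW _)

/-- Restriction along an equality is bijective. -/
theorem r_bijective {V W : Opens T} (e : V = W) (h : W ≤ V) : Function.Bijective (P.r h) := by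
  subst e
  have : ⇑(P.r h) = id := funext fun s => P.r_self h s
  rw [this]
  exact Function.bijective_id

end PM

theorem resO_bijective {V W : Opens T} (e : V = W) (h : W ≤ V) : Function.Bijective (resO (R := R) h) := by
  subst e
  have : ⇑(resO (R := R) h) = id := funext fun s => resO_self h s
  rw [this]
  exact Function.bijective_id

/-- Transport of `IsBC` along a bijective ring map on the target. -/
theorem IsBC.of_bijective {A B C : Type*} [CommRing A] [CommRing B] [CommRing C] {σ : A →+* B} {ρ : B →+* C}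
    {τ : A →+* C} {M N P : Type*} [AddCommGroup M] [Module A M] [AddCommGroup N] [Module B N]
    [AddCommGroup P] [Module C P] {f : M →ₛₗ[σ] N} {g : N →ₛₗ[ρ] P} {k : M →ₛₗ[τ] P}
    (hτ : ∀ a, τ a = ρ (σ a)) (hk : ∀ m, k m = g (f m)) (hρ : Function.Bijective ρ) (hg : Function.Bijective g) :
    IsBC τ k ↔ IsBC σ f := by
  letI := σ.toAlgebra
  letI := τ.toAlgebra
  letI : Module A N := Module.compHom N σ
  haveI : IsScalarTower A B N := IsScalarTower.of_algebraMap_smul fun _ _ => rfl
  letI : Module A P := Module.compHom P τ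
  haveI : IsScalarTower A C P := IsScalarTower.of_algebraMap_smul fun _ _ => rfl
  rw [isBC_iff (σ := σ) rfl f (toLin σ rfl f) fun _ => rfl, isBC_iff (σ := τ) rfl k (toLin τ rfl k) fun _ => rfl]
  let ρ' : B →ₗ[A] C :=
    { toFun := ρ
      map_add' := map_add ρ
      map_smul' := fun a b => by
        rw [Algebra.smul_def, map_mul, RingHom.id_apply, Algebra.smul_def]
        congr 1
        exact (hτ a).symm }
  have h1 : ∀ x : B ⊗[A] M, bc (B := C) (toLin τ rfl k) (ρ'.rTensor M x) = g (bc (B := B) (toLin σ rfl f) x) := by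
    intro x
    induction x using TensorProduct.induction_on with
    | zero => simp
    | tmul b m =>
      rw [LinearMap.rTensor_tmul, bc_tmul, bc_tmul, g.map_smulₛₗ]
      change ρ b • k m = ρ b • g (f m)
      rw [hk]
    | add x y hx hy => rw [map_add, map_add, map_add, map_add, hx, hy]
  have h2 : Function.Bijective (ρ'.rTensor M) := (LinearEquiv.rTensor M (LinearEquiv.ofBijective ρ' hρ)).bijective
  have h3 : ⇑(bc (B := C) (toLin τ rfl k)) ∘ ⇑(ρ'.rTensor M) = ⇑g ∘ ⇑(bc (B := B) (toLin σ rfl f)) :=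
    funext h1
  rw [← Function.Bijective.of_comp_iff _ h2, h3, Function.Bijective.of_comp_iff' hg]

section TP

variable (R) in
/-- `O(U ⊓ V)` as an `O(U)`-algebra. -/
def OA (U V : Opens T) : Type u := O R (U ⊓ V)

instance (U V : Opens T) : CommRing (OA R U V) := inferInstanceAs (CommRing (O R (U ⊓ V)))

instance (U V : Opens T) : Algebra (O R U) (OA R U V) := (resO (R := R) (inf_le_left : U ⊓ V ≤ U)).toAlgebra

theorem algebraMap_OA (U V : Opens T) :
    algebraMap (O R U) (OA R U V) = resO (R := R) (inf_le_left : U ⊓ V ≤ U) := rfl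

/-- Restriction of `OA`. -/
def rOA (U : Opens T) {V W : Opens T} (h : W ≤ V) : OA R U V →ₐ[O R U] OA R U W where
  toRingHom := resO (inf_le_inf_left U h)
  commutes' a := resO_resO _ _ a

theorem rOA_apply (U : Opens T) {V W : Opens T} (h : W ≤ V) (b : OA R U V) :
    rOA U h b = resO (R := R) (inf_le_inf_left U h) b := rfl

/-- The presheaf of rings (as abelian groups) `V ↦ O(U ⊓ V)`. -/
def OP (U : Opens T) : TopCat.Presheaf AddCommGrpCat.{u} T where
  obj V := AddCommGrpCat.of (OA R U V.unop)
  map f := AddCommGrpCat.ofHom (rOA U f.unop.le).toLinearMap.toAddMonoidHom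
  map_id V := by
    ext s
    exact resO_self _ s
  map_comp f g := by
    ext s
    exact (resO_resO _ _ s).symm

variable (R) (U : Opens T) (M : Type u) [AddCommGroup M] [Module (O R U) M]

/-- The presheaf `V ↦ O(U ⊓ V) ⊗ M`. -/
def TP : PM R where
  S V := OA R U V ⊗[O R U] M
  mod V := Module.compHom (OA R U V ⊗[O R U] M) (show O R V →+* OA R U V from resO inf_le_right)
  r {V W} h := ((rOA U h).toLinearMap.rTensor M).toAddMonoidHom
  r_self {V} h s := by
    have : (rOA (R := R) U h).toLinearMap = LinearMap.id := LinearMap.ext fun b => resO_self _ b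
    change (rOA (R := R) U h).toLinearMap.rTensor M s = s
    rw [this, LinearMap.rTensor_id, LinearMap.id_apply]
  r_r {X V W} h h' s := by
    change (rOA (R := R) U h').toLinearMap.rTensor M ((rOA (R := R) U h).toLinearMap.rTensor M s) = 
      (rOA (R := R) U (h'.trans h)).toLinearMap.rTensor M s
    rw [← LinearMap.comp_apply, ← LinearMap.rTensor_comp]
    congr 2
    exact LinearMap.ext fun b => resO_resO _ _ b
  r_smul {V W} h a s := by
    change (rOA (R := R) U h).toLinearMap.rTensor M ((show OA R U V from resO inf_le_right a) • s) = 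
      (show OA R U W from resO inf_le_right (resO h a)) • (rOA (R := R) U h).toLinearMap.rTensor M s
    induction s using TensorProduct.induction_on with
    | zero => simp
    | tmul b m =>
      rw [smul_tmul', LinearMap.rTensor_tmul, LinearMap.rTensor_tmul, smul_tmul']
      congr 1
      change rOA U h (_ * _) = _ * _
      rw [map_mul]
      congr 1
      exact (resO_resO _ _ a).trans (resO_resO _ _ a).symm
    | add x y hx hy => rw [smul_add, map_add, map_add, smul_add, hx, hy]

theorem TP_r_tmul {V W : Opens T} (h : W ≤ V) (b : OA R U V) (m : M) :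
    (TP R U M).r h (b ⊗ₜ m : OA R U V ⊗[O R U] M) = (rOA U h b ⊗ₜ m : OA R U W ⊗[O R U] M) := rfl

/-- `m ↦ 1 ⊗ m`. -/
def inTP {V : Opens T} (h : V ≤ U) : M →ₛₗ[resO (R := R) h] (TP R U M).S V where
  toFun m := (1 : OA R U V) ⊗ₜ[O R U] m
  map_add' m m' := TensorProduct.tmul_add _ _ _
  map_smul' a m := by
    change (1 : OA R U V) ⊗ₜ[O R U] (a • m) = (show OA R U V from resO inf_le_right (resO h a)) • (1 : OA R U V) ⊗ₜ[O R U] m
    rw [← smul_tmul, smul_tmul']
    congr 1
    rw [Algebra.smul_def, smul_eq_mul, resO_resO]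
    rfl

theorem isBC_inTP {V : Opens T} (h : V ≤ U) : IsBC (resO (R := R) h) (inTP R U M h) := by
  have e : V = U ⊓ V := (inf_eq_right.2 h).symm
  let g : (TP R U M).S V →ₛₗ[(show O R V →+* OA R U V from resO inf_le_right)] OA R U V ⊗[O R U] M :=
    { toFun := id
      map_add' := fun _ _ => rfl
      map_smul' := fun _ _ => rfl }
  let k : M →ₛₗ[algebraMap (O R U) (OA R U V)] OA R U V ⊗[O R U] M :=
    { toFun := fun m => (1 : OA R U V) ⊗ₜ[O R U] m
      map_add' := fun m m' => TensorProduct.tmul_add _ _ _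
      map_smul' := fun a m => by
        rw [algebraMap_smul, TensorProduct.tmul_smul] }
  refine (IsBC.of_bijective (A := O R U) (B := O R V) (C := OA R U V) (f := inTP R U M h)
    (ρ := (show O R V →+* OA R U V from resO inf_le_right)) (g := g)
    (τ := algebraMap (O R U) (OA R U V)) (k := k) (fun a => (resO_resO _ _ a).symm) (fun m => rfl)
    (resO_bijective e _) Function.bijective_id).1 ?_
  rw [isBC_iff rfl k (TensorProduct.mk (O R U) (OA R U V) M 1) fun _ => rfl]
  exact TensorProduct.isBaseChange _ _ _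

theorem cartOn_TP (B : Set (Opens T)) : (TP R U M).CartOn B U := by
  intro V hV h
  refine (IsBC.comp_iff (ρ := resO h) (f := inTP R U M le_rfl) (g := (TP R U M).rS h) (k := inTP R U M h)
    (fun a => by rw [resO_self]) (fun m => ?_) (isBC_inTP R U M le_rfl)).2 (isBC_inTP R U M h)
  change _ = (TP R U M).r h ((1 : OA R U U) ⊗ₜ[O R U] m)
  rw [TP_r_tmul, map_one]
  rfl

end TP

section Compare

variable (P : PM R) (U : Opens T)

/-- The presheaf `V ↦ P(U ⊓ V)`. -/
def shiftAb : TopCat.Presheaf AddCommGrpCat.{u} T where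
  obj V := AddCommGrpCat.of (P.S (U ⊓ V.unop))
  map f := AddCommGrpCat.ofHom (P.r (inf_le_inf_left U f.unop.le))
  map_id V := by
    ext s
    exact P.r_self _ s
  map_comp f g := by
    ext s
    exact (P.r_r _ _ s).symm

/-- `P(V) → P(U ⊓ V)`. -/
def toShift : P.ab ⟶ shiftAb P U where
  app V := AddCommGrpCat.ofHom (P.r inf_le_right)
  naturality V W f := by
    ext s
    exact (P.r_r _ _ s).trans (P.r_r _ _ s).symm

theorem toShift_bijective {V : Opens T} (h : V ≤ U) : Function.Bijective ((toShift P U).app (op V)).hom :=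
  PM.r_bijective (inf_eq_right.2 h).symm _

instance modShift (V : Opens T) : Module (O R U) (P.S (U ⊓ V)) :=
  Module.compHom (P.S (U ⊓ V)) (resO (R := R) (inf_le_left : U ⊓ V ≤ U))

/-- `P(U ⊓ V)` as a module over `OA`. -/
instance modShift' (V : Opens T) : Module (OA R U V) (P.S (U ⊓ V)) :=
  inferInstanceAs (Module (O R (U ⊓ V)) (P.S (U ⊓ V)))

instance (V : Opens T) : IsScalarTower (O R U) (OA R U V) (P.S (U ⊓ V)) :=
  IsScalarTower.of_algebraMap_smul fun _ _ => rfl

/-- `O(U ⊓ V) ⊗ P(U) → P(U ⊓ V)`. -/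
def TPtoShift : (TP R U (P.S U)).ab ⟶ shiftAb P U where
  app V := AddCommGrpCat.ofHom (bc (B := OA R U V.unop)
    (toLin (B := OA R U V.unop) (N := P.S (U ⊓ V.unop)) (resO (R := R) (inf_le_left : U ⊓ V.unop ≤ U)) rfl
      (P.rS inf_le_left))).toAddMonoidHom
  naturality V W f := by
    ext s
    change OA R U V.unop ⊗[O R U] P.S U at s
    change bc (B := OA R U W.unop) (toLin (B := OA R U W.unop) (N := P.S (U ⊓ W.unop)) 
        (resO (R := R) (inf_le_left : U ⊓ W.unop ≤ U)) rfl (P.rS inf_le_left))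
          ((rOA (R := R) U f.unop.le).toLinearMap.rTensor (P.S U) s) = P.r (inf_le_inf_left U f.unop.le) 
      (bc (B := OA R U V.unop) (toLin (B := OA R U V.unop) (N := P.S (U ⊓ V.unop)) 
        (resO (R := R) (inf_le_left : U ⊓ V.unop ≤ U)) rfl (P.rS inf_le_left)) s)
    induction s using TensorProduct.induction_on with
    | zero => simp
    | tmul b m =>
      rw [LinearMap.rTensor_tmul, bc_tmul, bc_tmul]
      refine Eq.trans ?_ (P.r_smul (inf_le_inf_left U f.unop.le) b (P.r inf_le_left m)).symm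
      rw [P.r_r]
      rfl
    | add x y hx hy => rw [map_add, map_add, map_add, map_add, hx, hy]

theorem TPtoShift_bijective {B : Set (Opens T)} (hP : P.CartOn B U) {V : Opens T} (hV : V ∈ B) (h : V ≤ U) :
    Function.Bijective ((TPtoShift P U).app (op V)).hom := by
  have e : U ⊓ V = V := inf_eq_right.2 h
  have h0 : IsBC (A := O R U) (B := OA R U V) (M := P.S U) (N := P.S (U ⊓ V))
      (resO (R := R) (inf_le_left : U ⊓ V ≤ U)) (P.rS inf_le_left) :=
    hP (U ⊓ V) (by rw [e]; exact hV) inf_le_left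
  exact h0.bij inferInstance (modShift P U V) (IsScalarTower.of_algebraMap_smul fun _ _ => rfl) rfl _ fun _ => rfl

end Compare

section CGood

variable {ι : Type u} {U : Opens T} {W : ι → Opens T}

/-- The augmented Čech complex of `P` for the covering `W` of `U` is exact. -/
structure CGood (hW : ∀ k, W k ≤ U) (P : TopCat.Presheaf AddCommGrpCat.{u} T) : Prop where
  sep : ∀ x : P.obj (op U), (∀ k, res P (hW k) x = 0) → x = 0
  glue : ∀ t : ∀ k, P.obj (op (W k)), (∀ k l, res P (inf_le_left : W k ⊓ W l ≤ W k) (t k) =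
    res P (inf_le_right : W k ⊓ W l ≤ W l) (t l)) → ∃ x : P.obj (op U), ∀ k, res P (hW k) x = t k
  cech : ∀ p, CechExact W P p

theorem CGood.congr {hW : ∀ k, W k ≤ U} {P Q : TopCat.Presheaf AddCommGrpCat.{u} T} (φ : P ⟶ Q)
    (hU : Function.Bijective (φ.app (op U)).hom) (h0 : ∀ k, Function.Bijective (φ.app (op (W k))).hom)
    (h1 : ∀ k l, Function.Injective (φ.app (op (W k ⊓ W l))).hom)
    (h2 : ∀ p (i : Fin (p + 1) → ι), Function.Bijective (φ.app (op (⨅ a, W (i a)))).hom) :
    CGood hW P ↔ CGood hW Q := by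
  have hC : ∀ p, Function.Bijective (mapC W φ p) := by
    intro p
    constructor
    · intro x y hxy
      funext i
      exact (h2 p i).1 (congrFun hxy i)
    · intro y
      choose x hx using fun i => (h2 p i).2 (y i)
      exact ⟨x, funext hx⟩
  constructor
  · intro h
    refine ⟨fun x hx => ?_, fun t ht => ?_, fun p s hs => ?_⟩
    · obtain ⟨x, rfl⟩ := hU.2 x
      rw [h.sep x fun k => (injective_iff_map_eq_zero _).1 (h0 k).1 _ ((CechSheaf.app_res φ _ _).trans (hx k)), map_zero]
    · choose t' ht' using fun k => (h0 k).2 (t k)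
      obtain ⟨x, hx⟩ := h.glue t' fun k l => h1 k l (by
        rw [CechSheaf.app_res, CechSheaf.app_res, ht', ht', ht])
      exact ⟨_, fun k => by rw [← CechSheaf.app_res, hx, ht']⟩
    · obtain ⟨s, rfl⟩ := (hC _).2 s
      rw [← mapC_dC] at hs
      obtain ⟨t, rfl⟩ := h.cech p s ((injective_iff_map_eq_zero _).1 (hC _).1 _ hs)
      exact ⟨_, (mapC_dC W φ p t).symm⟩
  · intro h
    refine ⟨fun x hx => ?_, fun t ht => ?_, fun p s hs => ?_⟩
    · refine (injective_iff_map_eq_zero _).1 hU.1 _ (h.sep _ fun k => ?_)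
      rw [← CechSheaf.app_res, hx, map_zero]
    · obtain ⟨x, hx⟩ := h.glue (fun k => (φ.app _).hom (t k)) fun k l => by
        rw [← CechSheaf.app_res, ← CechSheaf.app_res, ht]
      obtain ⟨x, rfl⟩ := hU.2 x
      exact ⟨x, fun k => (h0 k).1 (by rw [CechSheaf.app_res, hx])⟩
    · obtain ⟨t, ht⟩ := h.cech p (mapC W φ _ s) (by rw [← mapC_dC, hs, map_zero])
      obtain ⟨t, rfl⟩ := (hC _).2 t
      exact ⟨t, (hC _).1 (by rw [mapC_dC, ht])⟩

theorem cgood_of_cartOn {B : Set (Opens T)} {P : PM R} (hP : P.CartOn B U) (hU : U ∈ B) (hW : ∀ k, W k ≤ U)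
    (hWB : ∀ k, W k ∈ B) (hWB1 : ∀ k l, W k ⊓ W l ∈ B)
    (hWB2 : ∀ p (i : Fin (p + 1) → ι), ⨅ a, W (i a) ∈ B)
    (h : CGood hW (TP R U (P.S U)).ab) : CGood hW P.ab := by
  have hle : ∀ p (i : Fin (p + 1) → ι), ⨅ a, W (i a) ≤ U := fun p i => (iInf_le _ 0).trans (hW _)
  rw [CGood.congr (toShift P U) (toShift_bijective P U le_rfl) (fun k => toShift_bijective P U (hW k))
    (fun k l => (toShift_bijective P U (inf_le_left.trans (hW k))).1) (fun p i => toShift_bijective P U (hle p i)),
    ← CGood.congr (TPtoShift P U) (TPtoShift_bijective P U hP hU le_rfl)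
    (fun k => TPtoShift_bijective P U hP (hWB k) (hW k))
    (fun k l => (TPtoShift_bijective P U hP (hWB1 k l) (inf_le_left.trans (hW k))).1)
    (fun p i => TPtoShift_bijective P U hP (hWB2 p i) (hle p i))]
  exact h

end CGood

end K181.Pre
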