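import Groth.Agent.FSch.K181.Good
import Groth.Agent.FTors.K919.QCElem
import Groth.Agent.FCompl.K29.RPres
import Mathlib.LinearAlgebra.DirectSum.Finsupp

/-!
# Presented sheaves of modules are cartesian on the members of a good basis, and conversely

* `cart_of_pres`: if `s : I → F(U)` generate `F` on `U ∈ B` locally, with the relations locally generated by
  `r : K → (I →₀ O(U))`, then `F` is cartesian on `U` and the `s i` generate `F(U)`.
* `gen_of_cart`, `rel_of_cart`: the converse.
* `exists_cart_of_qc`, `qc_of_cart`.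
-/

set_option autoImplicit false
set_option linter.style.haveILetI false
universe u

open CategoryTheory TopologicalSpace Opposite TensorProduct CategoryTheory.Limits

noncomputable section

namespace K181.Good

open K29.RSec K29.RExact K181.BC K181.Pre
open K919.QCElem (LGenI LRelI)

variable {T : TopCat.{u}} {R : Sheaf (Opens.grothendieckTopology T) CommRingCat.{u}}

/-- Linear combinations of restrictions of sections. -/
def lin (F : Mod R) {U V : Opens T} (h : V ≤ U) {I : Type u} (s : I → Sec F U) (c : I →₀ O R V) : Sec F V :=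
  Finsupp.linearCombination (O R V) (fun j => res F h (s j)) c

/-- The sections `s i` generate `F` locally on `U`. -/
def GenI (F : Mod R) (U : Opens T) {I : Type u} (s : I → Sec F U) : Prop :=
  ∀ (V : Opens T) (hV : V ≤ U) (t : Sec F V) (x : T), x ∈ V →
    ∃ (V' : Opens T) (h' : V' ≤ V), x ∈ V' ∧ ∃ c : I →₀ O R V', res F h' t = lin F (h'.trans hV) s c

/-- The `r k` generate locally the relations between the `s i`. -/
def RelI (F : Mod R) (U : Opens T) {I K : Type u} (s : I → Sec F U) (r : K → I →₀ O R U) : Prop :=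
  (∀ k, lin F le_rfl s (r k) = 0) ∧
  ∀ (V : Opens T) (hV : V ≤ U) (c : I →₀ O R V), lin F hV s c = 0 → ∀ x ∈ V,
    ∃ (V' : Opens T) (h' : V' ≤ V), x ∈ V' ∧
      ∃ d : K →₀ O R V', ∀ j, resO h' (c j) = d.sum fun k a => a * resO (h'.trans hV) (r k j)

theorem genI_iff (F : Mod R) (U : Opens T) {I : Type u} (s : I → Sec F U) :
    GenI F U s ↔ LGenI (R := ModSite.ringSh R) F U s := Iff.rfl

theorem relI_iff (F : Mod R) (U : Opens T) {I K : Type u} (s : I → Sec F U) (r : K → I →₀ O R U) :
    RelI F U s r ↔ LRelI (R := ModSite.ringSh R) F U s r := Iff.rfl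

theorem lin_eq (F : Mod R) {U V : Opens T} (h : V ≤ U) {I : Type u} (s : I → Sec F U) (c : I →₀ O R V) :
    lin F h s c = c.sum fun j a => a • res F h (s j) := rfl

theorem res_lin (F : Mod R) {U V V' : Opens T} (h : V ≤ U) (h' : V' ≤ V) {I : Type u} (s : I → Sec F U)
    (c : I →₀ O R V) : res F h' (lin F h s c) = lin F (h'.trans h) s (c.mapRange (resO h') (map_zero _)) := by
  rw [lin_eq, lin_eq]
  refine Eq.trans ?_ (Finsupp.sum_mapRange_index (fun j => zero_smul _ (res F (h'.trans h) (s j)))).symm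
  rw [Finsupp.sum, Finsupp.sum, map_sum]
  refine Finset.sum_congr rfl fun j _ => ?_
  rw [res_smul, res_res]

/-- The universal property of base change. -/
theorem IsBC.exists_lift {A B : Type*} [CommRing A] [CommRing B] {σ : A →+* B} {M N Q : Type*} [AddCommGroup M]
    [Module A M] [AddCommGroup N] [Module B N] [AddCommGroup Q] [Module B Q] {f : M →ₛₗ[σ] N} (h : IsBC σ f)
    (g : M →ₛₗ[σ] Q) : ∃ g' : N →ₗ[B] Q, ∀ m, g' (f m) = g m := by
  letI := σ.toAlgebra
  letI : Module A N := Module.compHom N σ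
  haveI : IsScalarTower A B N := IsScalarTower.of_algebraMap_smul fun _ _ => rfl
  letI : Module A Q := Module.compHom Q σ
  haveI : IsScalarTower A B Q := IsScalarTower.of_algebraMap_smul fun _ _ => rfl
  have h1 : IsBaseChange B (toLin σ rfl f) := h.out rfl
  exact ⟨h1.lift (toLin σ rfl g), fun m => h1.lift_eq (toLin σ rfl g) m⟩

theorem IsBC.hom_ext {A B : Type*} [CommRing A] [CommRing B] {σ : A →+* B} {M N Q : Type*} [AddCommGroup M]
    [Module A M] [AddCommGroup N] [Module B N] [AddCommGroup Q] {f : M →ₛₗ[σ] N} (h : IsBC σ f)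
    {C : Type*} [CommRing C] [Module C Q] {τ : B →+* C} {g g' : N →ₛₗ[τ] Q} (hg : ∀ m, g (f m) = g' (f m)) : g = g' := by
  ext n
  refine Submodule.span_induction (p := fun n _ => g n = g' n) ?_ ?_ ?_ ?_ (h.mem_span n)
  · rintro _ ⟨m, rfl⟩
    exact hg m
  · rw [map_zero, map_zero]
  · intro x y _ _ hx hy
    rw [map_add, map_add, hx, hy]
  · intro a x _ hx
    rw [g.map_smulₛₗ, g'.map_smulₛₗ, hx]

section Main

variable {𝔅 : GoodCov R} {F : Mod R} {U : Opens T} {I K : Type u} (s : I → Sec F U) (r : K → I →₀ O R U)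

/-- The module of global sections defined by the presentation. -/
abbrev NN : Type u := (I →₀ O R U) ⧸ Submodule.span (O R U) (Set.range r)

/-- The class of a basis vector. -/
def ee (i : I) : NN (U := U) r := Submodule.Quotient.mk (Finsupp.single i 1)

theorem mk_eq (c : I →₀ O R U) : (Submodule.Quotient.mk c : NN r) = Finsupp.linearCombination (O R U) (ee r) c := by
  have h : (Submodule.mkQ (Submodule.span (O R U) (Set.range r))) = Finsupp.linearCombination (O R U) (ee r) := by
    ext i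
    simp [ee]
  exact congrArg (fun f => f c) h

theorem mk_r (k : K) : (Submodule.Quotient.mk (r k) : NN r) = 0 := by
  rw [Submodule.Quotient.mk_eq_zero]
  exact Submodule.subset_span ⟨k, rfl⟩

/-- The map `(I →₀ O(V)) → (O ⊗ N)(V)`. -/
def eV {V : Opens T} (hV : V ≤ U) : (I →₀ O R V) →ₗ[O R V] (TP R U (NN r)).S V :=
  Finsupp.linearCombination (O R V) fun i => inTP R U (NN r) hV (ee r i)

theorem inTP_mk {V : Opens T} (hV : V ≤ U) (c : I →₀ O R U) :
    inTP R U (NN r) hV (Submodule.Quotient.mk c) = eV r hV (c.mapRange (resO hV) (map_zero _)) := by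
  rw [mk_eq, Finsupp.linearCombination_apply, Finsupp.sum, map_sum, eV, Finsupp.linearCombination_apply]
  refine Eq.trans ?_ (Finsupp.sum_mapRange_index (fun i => zero_smul _ (inTP R U (NN r) hV (ee r i)))).symm
  refine Finset.sum_congr rfl fun i _ => ?_
  rw [LinearMap.map_smulₛₗ]

theorem eV_surjective {V : Opens T} (hV : V ≤ U) : Function.Surjective (eV r hV) := by
  rw [← LinearMap.range_eq_top, eq_top_iff]
  intro y _
  refine Submodule.span_induction (p := fun n _ => n ∈ LinearMap.range (eV r hV)) ?_ ?_ ?_ ?_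
    ((isBC_inTP R U (NN r) hV).mem_span y)
  · rintro _ ⟨m, rfl⟩
    obtain ⟨c, rfl⟩ := Submodule.Quotient.mk_surjective _ m
    exact ⟨_, (inTP_mk r hV c).symm⟩
  · exact Submodule.zero_mem _
  · intro x y _ _ hx hy
    exact Submodule.add_mem _ hx hy
  · intro a x _ hx
    exact Submodule.smul_mem _ a hx

theorem eV_r {V : Opens T} (hV : V ≤ U) (k : K) : eV r hV ((r k).mapRange (resO hV) (map_zero _)) = 0 := by
  rw [← inTP_mk, mk_r, map_zero]

theorem eV_eq_zero {V V' : Opens T} (hV : V ≤ U) (h' : V' ≤ V) (c : I →₀ O R V) (d : K →₀ O R V')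
    (hd : ∀ j, resO h' (c j) = d.sum fun k a => a * resO (h'.trans hV) (r k j)) :
    (TP R U (NN r)).r h' (eV r hV c) = 0 := by
  have e1 : (TP R U (NN r)).r h' (eV r hV c) = eV r (h'.trans hV) (c.mapRange (resO h') (map_zero _)) := by
    rw [eV, Finsupp.linearCombination_apply, Finsupp.sum, map_sum, eV, Finsupp.linearCombination_apply]
    refine Eq.trans ?_ (Finsupp.sum_mapRange_index
      (fun i => zero_smul _ (inTP R U (NN r) (h'.trans hV) (ee r i)))).symm
    refine Finset.sum_congr rfl fun i _ => ?_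
    rw [PM.r_smul]
    congr 1
    change (TP R U (NN r)).r h' ((1 : OA R U V) ⊗ₜ[O R U] (ee r i)) = (1 : OA R U V') ⊗ₜ[O R U] (ee r i)
    rw [TP_r_tmul, map_one]
  have e2 : c.mapRange (resO h') (map_zero _) = d.sum fun k a => a • (r k).mapRange (resO (h'.trans hV)) (map_zero _) := by
    ext j
    rw [Finsupp.mapRange_apply, hd, Finsupp.sum, Finsupp.sum, Finsupp.finsetSum_apply]
    refine Finset.sum_congr rfl fun k _ => ?_
    rw [Finsupp.smul_apply, Finsupp.mapRange_apply, smul_eq_mul]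
  rw [e1, e2, Finsupp.sum, map_sum]
  refine Finset.sum_eq_zero fun k _ => ?_
  rw [map_smul, eV_r, smul_zero]

variable {s r}

/-- The map `(O ⊗ N)(V) → F(V)`. -/
theorem exists_theta (hr : RelI F U s r) {V : Opens T} (hV : V ≤ U) :
    ∃ θ : (TP R U (NN r)).S V →ₗ[O R V] Sec F V, ∀ c, θ (eV r hV c) = lin F hV s c := by
  let g0 : NN r →ₗ[O R U] Sec F U := (Submodule.span (O R U) (Set.range r)).liftQ
    (Finsupp.linearCombination (O R U) s) (by
      rw [Submodule.span_le]
      rintro _ ⟨k, rfl⟩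
      have h := hr.1 k
      rw [lin_eq] at h
      rw [SetLike.mem_coe, LinearMap.mem_ker, Finsupp.linearCombination_apply]
      simpa only [res_self] using h)
  let g : NN r →ₛₗ[resO (R := R) hV] Sec F V := (resS F hV).comp g0
  obtain ⟨θ, hθ⟩ := IsBC.exists_lift (isBC_inTP R U (NN r) hV) g
  refine ⟨θ, fun c => ?_⟩
  rw [eV, Finsupp.linearCombination_apply, lin_eq, Finsupp.sum, map_sum, Finsupp.sum]
  refine Finset.sum_congr rfl fun i _ => ?_
  rw [map_smul, hθ]
  congr 1
  change res F hV (g0 (ee r i)) = res F hV (s i)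
  congr 1
  change Finsupp.linearCombination (O R U) s (Finsupp.single i 1) = s i
  rw [Finsupp.linearCombination_single, one_smul]

theorem theta_res {V V' : Opens T} (hV : V ≤ U) (h' : V' ≤ V) (θ : (TP R U (NN r)).S V →ₗ[O R V] Sec F V)
    (θ' : (TP R U (NN r)).S V' →ₗ[O R V'] Sec F V') (hθ : ∀ c, θ (eV r hV c) = lin F hV s c)
    (hθ' : ∀ c, θ' (eV r (h'.trans hV) c) = lin F (h'.trans hV) s c) (y : (TP R U (NN r)).S V) :
    θ' ((TP R U (NN r)).r h' y) = res F h' (θ y) := by
  have key := IsBC.hom_ext (isBC_inTP R U (NN r) hV) (τ := resO (R := R) h')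
    (g := θ'.comp ((TP R U (NN r)).rS h')) (g' := (resS F h').comp θ) (fun n => ?_)
  · exact congrArg (fun f => f y) key
  · obtain ⟨c, rfl⟩ := Submodule.Quotient.mk_surjective _ n
    change θ' ((TP R U (NN r)).r h' (inTP R U (NN r) hV (Submodule.Quotient.mk c))) =
      res F h' (θ (inTP R U (NN r) hV (Submodule.Quotient.mk c)))
    have e : (TP R U (NN r)).r h' (inTP R U (NN r) hV (Submodule.Quotient.mk c)) =
        inTP R U (NN r) (h'.trans hV) (Submodule.Quotient.mk c) := by
      change (TP R U (NN r)).r h' ((1 : OA R U V) ⊗ₜ[O R U] _) = (1 : OA R U V') ⊗ₜ[O R U] _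
      rw [TP_r_tmul, map_one]
    rw [e, inTP_mk, inTP_mk, hθ, hθ', res_lin]
    congr 1
    ext i
    rw [Finsupp.mapRange_apply, Finsupp.mapRange_apply, Finsupp.mapRange_apply, resO_resO]

theorem theta_bijective (hs : GenI F U s) (hr : RelI F U s r) {V : Opens T} (hVB : V ∈ 𝔅.B)
    (hV : V ≤ U) (θ : (TP R U (NN r)).S V →ₗ[O R V] Sec F V) (hθ : ∀ c, θ (eV r hV c) = lin F hV s c) :
    Function.Bijective θ := by
  have inj : ∀ {V : Opens T} (hVB : V ∈ 𝔅.B) (hV : V ≤ U) (θ : (TP R U (NN r)).S V →ₗ[O R V] Sec F V)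
      (hθ : ∀ c, θ (eV r hV c) = lin F hV s c), Function.Injective θ := by
    intro V hVB hV θ hθ
    rw [injective_iff_map_eq_zero]
    intro y hy
    obtain ⟨c, rfl⟩ := eV_surjective r hV y
    rw [hθ] at hy
    choose W hWV hxW d hd using fun x : V => hr.2 V hV c hy x.1 x.2
    obtain ⟨ι, W', hW', hr'⟩ := 𝔅.cov_refine V hVB V W (le_antisymm (iSup_le hWV)
      fun x hx => Opens.mem_iSup.2 ⟨⟨x, hx⟩, hxW _⟩)
    refine (cgood 𝔅 ((cartOn_TP R U (NN r) 𝔅.B).mono hVB hV) hVB hW').sep _ fun k => ?_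
    obtain ⟨x, hx⟩ := hr' k
    exact ((TP R U (NN r)).r_r (hWV x) hx _).symm.trans
      ((congrArg _ (eV_eq_zero r hV (hWV x) c (d x) (hd x))).trans (map_zero _))
  refine ⟨inj hVB hV θ hθ, fun t => ?_⟩
  choose W hWV hxW c hc using fun x : V => hs V hV t x.1 x.2
  obtain ⟨ι, W', hW', hr'⟩ := 𝔅.cov_refine V hVB V W (le_antisymm (iSup_le hWV)
    fun x hx => Opens.mem_iSup.2 ⟨⟨x, hx⟩, hxW _⟩)
  choose a ha using hr'
  have hle : ∀ k, W' k ≤ V := 𝔅.cov_le hW'
  choose θ1 hθ1 using fun k => exists_theta hr ((hle k).trans hV)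
  choose θ2 hθ2 using fun k l => exists_theta hr (((inf_le_left : W' k ⊓ W' l ≤ W' k).trans (hle k)).trans hV)
  let y : ∀ k, (TP R U (NN r)).S (W' k) := fun k =>
    eV r ((hle k).trans hV) ((c (a k)).mapRange (resO (ha k)) (map_zero _))
  have hy : ∀ k, θ1 k (y k) = res F (hle k) t := by
    intro k
    rw [hθ1, ← res_res F (hWV _) (ha k), hc, res_lin]
  obtain ⟨z, hz⟩ := (cgood 𝔅 ((cartOn_TP R U (NN r) 𝔅.B).mono hVB hV) hVB hW').glue y fun k l => by
    refine inj (𝔅.cov_mem2 hVB hW' k l) _ (θ2 k l) (hθ2 k l) ?_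
    rw [PM.res_ab, PM.res_ab, theta_res ((hle k).trans hV) inf_le_left (θ1 k) (θ2 k l) (hθ1 k) (hθ2 k l),
      theta_res ((hle l).trans hV) inf_le_right (θ1 l) (θ2 k l) (hθ1 l) (hθ2 k l), hy, hy, res_res, res_res]
  refine ⟨z, ?_⟩
  refine eq_of_locally F W' V (𝔅.cov_sup hW').ge hle _ _ fun k => ?_
  rw [← theta_res hV (hle k) θ (θ1 k) hθ (hθ1 k), ← hy k]
  congr 1
  exact hz k

/-- A locally presented sheaf is cartesian. -/
theorem cart_of_pres (hU : U ∈ 𝔅.B) (hs : GenI F U s) (hr : RelI F U s r) : Cart 𝔅 F U := by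
  refine ⟨hU, fun V hV hVU => ?_⟩
  obtain ⟨θ, hθ⟩ := exists_theta hr (le_refl U)
  obtain ⟨θ', hθ'⟩ := exists_theta hr hVU
  exact (cartOn_TP R U (NN r) 𝔅.B V hV hVU).congr
    (LinearEquiv.ofBijective θ (theta_bijective hs hr hU le_rfl θ hθ))
    (LinearEquiv.ofBijective θ' (theta_bijective hs hr hV hVU θ' hθ'))
    fun y => (theta_res le_rfl hVU θ θ' hθ hθ' y).symm

/-- Over a member of the basis the `s i` generate the sections. -/
theorem span_eq_top_of_pres (hU : U ∈ 𝔅.B) (hs : GenI F U s) (hr : RelI F U s r) :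
    Submodule.span (O R U) (Set.range s) = ⊤ := by
  obtain ⟨θ, hθ⟩ := exists_theta hr (le_refl U)
  rw [eq_top_iff]
  intro t _
  obtain ⟨y, rfl⟩ := (theta_bijective hs hr hU le_rfl θ hθ).2 t
  obtain ⟨c, rfl⟩ := eV_surjective r le_rfl y
  rw [hθ, lin_eq]
  refine Submodule.sum_mem _ fun i _ => Submodule.smul_mem _ _ ?_
  rw [res_self]
  exact Submodule.subset_span ⟨i, rfl⟩

end Main

section Converse

theorem exists_relation {A B : Type u} [CommRing A] [CommRing B] [Algebra A B] {M : Type u} [AddCommGroup M]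
    [Module A M] {I K : Type u} (s : I → M) (hs : Submodule.span A (Set.range s) = ⊤) (r : K → I →₀ A)
    (hr : Submodule.span A (Set.range r) = LinearMap.ker (Finsupp.linearCombination A s)) (c : I →₀ B)
    (hc : (c.sum fun i b => b ⊗ₜ[A] s i : B ⊗[A] M) = 0) :
    ∃ d : K →₀ B, ∀ j, c j = d.sum fun k a => a * algebraMap A B (r k j) := by
  classical
  have hex : Function.Exact (Finsupp.linearCombination A r) (Finsupp.linearCombination A s) := by
    rw [LinearMap.exact_iff, ← hr, Finsupp.range_linearCombination]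
  have hsurj : Function.Surjective (Finsupp.linearCombination A s) := by
    rw [← LinearMap.range_eq_top, Finsupp.range_linearCombination, hs]
  have hexB := lTensor_exact B hex hsurj
  have hz : (Finsupp.linearCombination A s).lTensor B ((finsuppScalarRight A A B I).symm c) = 0 := by
    rw [← hc]
    have e : c = c.sum fun i b => Finsupp.single i b := (Finsupp.sum_single c).symm
    conv_lhs => rw [e]
    rw [Finsupp.sum, map_sum, map_sum, Finsupp.sum]
    refine Finset.sum_congr rfl fun i _ => ?_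
    rw [finsuppScalarRight_symm_apply_single, LinearMap.lTensor_tmul, Finsupp.linearCombination_single, one_smul]
  obtain ⟨w, hw⟩ := (hexB _).1 hz
  refine ⟨finsuppScalarRight A A B K w, fun j => ?_⟩
  have e1 : ∀ w : B ⊗[A] (K →₀ A), finsuppScalarRight A A B I ((Finsupp.linearCombination A r).lTensor B w) j =
      (finsuppScalarRight A A B K w).sum fun k a => a * algebraMap A B (r k j) := by
    intro w
    obtain ⟨d, rfl⟩ := (finsuppScalarRight A A B K).symm.surjective w
    rw [LinearEquiv.apply_symm_apply]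
    have e : d = d.sum fun i b => Finsupp.single i b := (Finsupp.sum_single d).symm
    conv_lhs => rw [e]
    rw [Finsupp.sum, map_sum, map_sum, map_sum, Finsupp.finsetSum_apply, Finsupp.sum]
    refine Finset.sum_congr rfl fun i _ => ?_
    rw [finsuppScalarRight_symm_apply_single, LinearMap.lTensor_tmul, Finsupp.linearCombination_single, one_smul,
      finsuppScalarRight_apply_tmul_apply, Algebra.smul_def, mul_comm]
  rw [← e1, hw, LinearEquiv.apply_symm_apply]

variable {𝔅 : GoodCov R} {F : Mod R} {U : Opens T} {I K : Type u} {s : I → Sec F U} {r : K → I →₀ O R U}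

theorem GoodCov.exists_mem (𝔅 : GoodCov R) {V : Opens T} {x : T} (hx : x ∈ V) : ∃ W ∈ 𝔅.B, x ∈ W ∧ W ≤ V :=
  Opens.isBasis_iff_nbhd.1 𝔅.basis hx

theorem span_res_eq_top (h : Cart 𝔅 F U) (hs : Submodule.span (O R U) (Set.range s) = ⊤) {V : Opens T}
    (hV : V ∈ 𝔅.B) (hVU : V ≤ U) : Submodule.span (O R V) (Set.range fun j => res F hVU (s j)) = ⊤ := by
  rw [eq_top_iff]
  intro t _
  refine Submodule.span_le.2 ?_ ((h.2 V hV hVU).mem_span t)
  rintro _ ⟨m, rfl⟩
  have hm : m ∈ Submodule.span (O R U) (Set.range s) := by rw [hs]; trivial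
  refine Submodule.span_induction (p := fun m _ => resS F hVU m ∈ Submodule.span (O R V)
    (Set.range fun j => res F hVU (s j))) ?_ ?_ ?_ ?_ hm
  · rintro _ ⟨j, rfl⟩
    exact Submodule.subset_span ⟨j, rfl⟩
  · rw [map_zero]; exact Submodule.zero_mem _
  · intro x y _ _ hx hy
    rw [map_add]; exact Submodule.add_mem _ hx hy
  · intro a x _ hx
    rw [LinearMap.map_smulₛₗ]; exact Submodule.smul_mem _ _ hx

theorem gen_of_cart (h : Cart 𝔅 F U) (hs : Submodule.span (O R U) (Set.range s) = ⊤) : GenI F U s := by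
  intro V hV t x hx
  obtain ⟨W, hW, hxW, hWV⟩ := 𝔅.exists_mem hx
  refine ⟨W, hWV, hxW, ?_⟩
  have e : res F hWV t ∈ Submodule.span (O R W) (Set.range fun j => res F (hWV.trans hV) (s j)) := by
    rw [span_res_eq_top h hs hW (hWV.trans hV)]; trivial
  obtain ⟨c, hc⟩ := Finsupp.mem_span_range_iff_exists_finsupp.1 e
  exact ⟨c, hc.symm⟩

theorem rel_of_cart (h : Cart 𝔅 F U) (hs : Submodule.span (O R U) (Set.range s) = ⊤)
    (hr : Submodule.span (O R U) (Set.range r) = LinearMap.ker (Finsupp.linearCombination (O R U) s)) :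
    RelI F U s r := by
  refine ⟨fun k => ?_, fun V hV c hc x hx => ?_⟩
  · have e : r k ∈ LinearMap.ker (Finsupp.linearCombination (O R U) s) := by
      rw [← hr]; exact Submodule.subset_span ⟨k, rfl⟩
    rw [LinearMap.mem_ker, Finsupp.linearCombination_apply] at e
    rw [lin_eq]
    simpa only [res_self] using e
  · obtain ⟨W, hW, hxW, hWV⟩ := 𝔅.exists_mem hx
    refine ⟨W, hWV, hxW, ?_⟩
    letI : Algebra (O R U) (O R W) := (resO (R := R) (hWV.trans hV)).toAlgebra
    letI : Module (O R U) (Sec F W) := Module.compHom _ (resO (R := R) (hWV.trans hV))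
    haveI : IsScalarTower (O R U) (O R W) (Sec F W) := IsScalarTower.of_algebraMap_smul fun _ _ => rfl
    have hb : Function.Bijective (bc (B := O R W) (toLin (M := Sec F U) (N := Sec F W)
        (resO (R := R) (hWV.trans hV)) rfl (resS F (hWV.trans hV)))) :=
      (h.2 W hW (hWV.trans hV)).bij _ _ _ rfl _ fun _ => rfl
    have hc' : ((c.mapRange (resO hWV) (map_zero _)).sum fun i b => b ⊗ₜ[O R U] s i : O R W ⊗[O R U] Sec F U) = 0 := by
      apply hb.1
      rw [Finsupp.sum, map_sum, map_zero]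
      have e := res_lin F hV hWV s c
      rw [hc, map_zero, lin_eq, Finsupp.sum] at e
      exact e.symm
    obtain ⟨d, hd⟩ := exists_relation s hs r hr _ hc'
    refine ⟨d, fun j => ?_⟩
    have := hd j
    rw [Finsupp.mapRange_apply] at this
    exact this

/-- Cartesian sheaves have global presentations. -/
theorem exists_pres_of_cart (h : Cart 𝔅 F U) : ∃ (I K : Type u) (s : I → Sec F U) (r : K → I →₀ O R U),
    GenI F U s ∧ RelI F U s r := by
  have hs : Submodule.span (O R U) (Set.range (fun x : Sec F U => x)) = ⊤ := by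
    rw [Set.range_id', Submodule.span_univ]
  refine ⟨Sec F U, LinearMap.ker (Finsupp.linearCombination (O R U) (fun x : Sec F U => x)), fun x => x,
    fun k => k.1, gen_of_cart h hs, rel_of_cart h hs ?_⟩
  rw [Subtype.range_coe_subtype]
  exact Submodule.span_eq (LinearMap.ker (Finsupp.linearCombination (O R U) (fun x : Sec F U => x)))

end Converse

section QC

variable {𝔅 : GoodCov R} {F : Mod R}

/-- A quasi-coherent sheaf is cartesian on the small members of the basis. -/
theorem exists_cart_of_qc (𝔅 : GoodCov R) (F : Mod R) (hF : SheafOfModules.IsQuasicoherent.{u} F) (x : T) :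
    ∃ (W : Opens T) (_ : x ∈ W), ∀ V ∈ 𝔅.B, V ≤ W → Cart 𝔅 F V := by
  obtain ⟨W, hxW, h⟩ := K919.QCElem.exists_of_isQuasicoherent F hF x
  refine ⟨W, hxW, fun V hV hVW => ?_⟩
  obtain ⟨I, K, s, r, hs, hr⟩ := h V hVW (𝔅.compact V hV)
  exact cart_of_pres hV ((genI_iff F V s).2 hs) ((relI_iff F V s r).2 hr)

theorem exists_cart_of_qc' (𝔅 : GoodCov R) (F : Mod R) (hF : SheafOfModules.IsQuasicoherent.{u} F) (x : T) :
    ∃ U : Opens T, x ∈ U ∧ Cart 𝔅 F U := by
  obtain ⟨W, hxW, h⟩ := exists_cart_of_qc 𝔅 F hF x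
  obtain ⟨V, hV, hxV, hVW⟩ := 𝔅.exists_mem hxW
  exact ⟨V, hxV, h V hV hVW⟩

/-- Locally cartesian sheaves are quasi-coherent. -/
theorem qc_of_cart (h : ∀ x : T, ∃ U : Opens T, x ∈ U ∧ Cart 𝔅 F U) : SheafOfModules.IsQuasicoherent.{u} F := by
  refine K919.QCElem.isQuasicoherent_of F fun x => ?_
  obtain ⟨U, hxU, hU⟩ := h x
  obtain ⟨I, K, s, r, hs, hr⟩ := exists_pres_of_cart hU
  exact ⟨U, hxU, I, K, s, r, (genI_iff F U s).1 hs, (relI_iff F U s r).1 hr⟩

theorem qc_iff (𝔅 : GoodCov R) (F : Mod R) : SheafOfModules.IsQuasicoherent.{u} F ↔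
    ∀ x : T, ∃ U : Opens T, x ∈ U ∧ Cart 𝔅 F U :=
  ⟨exists_cart_of_qc' 𝔅 F, qc_of_cart⟩

end QC

end K181.Good
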