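import Groth.Agent.KSix.K242.SiteBif
import Groth.Agent.ModSite.K291.Colim
import Groth.Agent.ModSite.K291.Flat
import Groth.Agent.ModSite.K294.KFlat2
import Groth.Agent.PerfC.RHomAdjP
import Groth.Agent.PerfC.RHomTri
import Groth.Agent.PerfC.RHomShift
import Groth.Agent.PerfC.BifAdj
import Groth.Agent.S0476
import Groth.Prelude.Def_DerComp

/-!
# Right adjoints of the derived tensor product of modules on a small ringed site

* `isLeftAdjoint_LTS O X`: `- ⊗ᴸ X` has a right adjoint `RA X` for every `X : D(O)`;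
* `RA` sends distinguished triangles in `X` to exact sequences of cohomology (`RHomTri.exact`);
* `nonempty_shift`: `R(X[n]) G ≅ (R X G)[-n]`;
* `nonempty_unit`: `R(O[0]) G ≅ G`;
* `rhomIso`: comparison with `DerComp.RHom`.
-/

set_option autoImplicit false

universe w w₁ w₂ w₃ v v' u u'

open CategoryTheory CategoryTheory.Limits

attribute [local instance] HasDerivedCategory.standard

namespace K181.RAdj

section Abstract

open Groth.Agent.Dcoh.CxFun Groth.Agent.Dcoh.DerHo Groth.Agent.PerfC.DBif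

variable {A : Type u} [Category.{v} A] [Abelian A] [IsGrothendieckAbelian.{v} A]
  (F : A ⥤ A ⥤ A) [F.Additive] [∀ (X₁ : A), (F.obj X₁).Additive]
  [∀ (K₁ : CochainComplex A ℤ) (K₂ : CochainComplex A ℤ), CochainComplex.HasMapBifunctor K₁ K₂ F]
  {G : CochainComplex A ℤ ⥤ CochainComplex A ℤ ⥤ CochainComplex A ℤ} (hG : G = F.map₂CochainComplex)
  {P : ObjectProperty (CochainComplex A ℤ)} (h : BifData G P) [HasLT G]

include hG in
/-- All the functors `- ⊗ᴸ Y` have right adjoints. -/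
theorem isLeftAdjoint_LTf_obj [∀ M : A, PreservesColimitsOfSize.{v, v} (F.flip.obj M)]
    (Y : DerivedCategory A) : ((LTf h).obj Y).IsLeftAdjoint := by
  subst hG
  refine Groth.Agent.PerfC.RHomAdjP.isLeftAdjoint_LTf_obj h ?_ (fun E => ?_) Y
  · intro K
    obtain ⟨I, f, h1, h2, -, -⟩ := Groth.Agent.S0476.result K
    exact ⟨I, f, h1, h2⟩
  · exact Groth.Agent.PerfC.BifAdj.isLeftAdjoint_flip_obj F E

end Abstract

open ModSite K242.SiteBif Groth.Agent.PerfC.IsoLocus Groth.Agent.PerfC MonoidalCategory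

open scoped K291.Mon

variable {C : Type u} [SmallCategory C] {J : GrothendieckTopology C} (O : Sheaf J CommRingCat.{u})

/-- `- ⊗ᴸ X` has a right adjoint. -/
theorem isLeftAdjoint_LTS (X : DCoh.DMod (ringSh O)) : ((LTS O).flip.obj X).IsLeftAdjoint := by
  have := K291.Colim.isGrothendieckAbelian O
  exact isLeftAdjoint_LTf_obj (tensorBi O) tensorCx_eq (bifData O) X

/-- The right adjoint of `- ⊗ᴸ X`. -/
noncomputable def RA (X : DCoh.DMod (ringSh O)) : DCoh.DMod (ringSh O) ⥤ DCoh.DMod (ringSh O) :=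
  haveI := isLeftAdjoint_LTS O X
  ((LTS O).flip.obj X).rightAdjoint

/-- The adjunction. -/
noncomputable def adj (X : DCoh.DMod (ringSh O)) : (LTS O).flip.obj X ⊣ RA O X :=
  haveI := isLeftAdjoint_LTS O X
  Adjunction.ofIsLeftAdjoint _

theorem hT (M : DCoh.DMod (ringSh O)) : IsTriang ((LTS O).flip.flip.obj M) :=
  isTriang_LTS_obj M

theorem additive_flip (X : DCoh.DMod (ringSh O)) : ((LTS O).flip.obj X).Additive :=
  (isTriang_LTS_flip_obj X).additive

/-- The right adjoints, as a family. -/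
noncomputable abbrev TT : DCoh.DMod (ringSh O) ⥤ DCoh.DMod (ringSh O) ⥤ DCoh.DMod (ringSh O) := (LTS O).flip

section Lift

variable {A : Type u} [Category.{v} A] [Abelian A] [HasDerivedCategory.{w} A] {B : Type u'} [Category.{v'} B]

/-- Functors on the derived category are isomorphic if they are on complexes. -/
noncomputable def liftIso (F F' : DerivedCategory A ⥤ B) (e : DerivedCategory.Q ⋙ F ≅ DerivedCategory.Q ⋙ F') : F ≅ F' :=
  Localization.liftNatIso DerivedCategory.Q (HomologicalComplex.quasiIso A (ComplexShape.up ℤ))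
    (DerivedCategory.Q ⋙ F) (DerivedCategory.Q ⋙ F') F F' e

end Lift

variable {O}

/-- `- ⊗ᴸ Q E` for `E` K-flat. -/
noncomputable def flipQ (E : CochainComplex (Mod O) ℤ) (hE : IsKFlat E) :
    DerivedCategory.Q ⋙ (LTS O).flip.obj (DerivedCategory.Q.obj E) ≅ (tensorCx O).flip.obj E ⋙ DerivedCategory.Q :=
  NatIso.ofComponents (fun K => @asIso _ _ _ _ (κS K E) (isIso_κS' K E hE)) (fun w => κS_nat₁ w E)

/-- `K ⊗ᴸ -` for `K` K-flat. -/
noncomputable def objQ (K : CochainComplex (Mod O) ℤ) (hK : IsKFlat K) :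
    DerivedCategory.Q ⋙ (LTS O).obj (DerivedCategory.Q.obj K) ≅ (tensorCx O).obj K ⋙ DerivedCategory.Q :=
  NatIso.ofComponents (fun E => @asIso _ _ _ _ (κS K E) (isIso_κS K E hK)) (fun w => κS_nat₂ K w)

theorem exists_kflat (X : DCoh.DMod (ringSh O)) :
    ∃ (E : CochainComplex (Mod O) ℤ) (_ : IsKFlat E), Nonempty (DerivedCategory.Q.obj E ≅ X) := by
  obtain ⟨E, w, hE, -, hw, -⟩ := K294.KFlat2.exists_resolution (DerivedCategory.Q.objPreimage X)
  have : IsIso (DerivedCategory.Q.map w) := (DerivedCategory.isIso_Q_map_iff_quasiIso _ _).2 hw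
  exact ⟨E, hE, ⟨asIso (DerivedCategory.Q.map w) ≪≫ DerivedCategory.Q.objObjPreimageIso X⟩⟩

/-- `- ⊗ᴸ X[n] ≅ (- ⊗ᴸ X)[n]`. -/
theorem nonempty_flipShift (X : DCoh.DMod (ringSh O)) (n : ℤ) :
    Nonempty ((LTS O).flip.obj (X⟦n⟧) ≅ (LTS O).flip.obj X ⋙ shiftFunctor (DCoh.DMod (ringSh O)) n) := by
  obtain ⟨E, hE, ⟨i⟩⟩ := exists_kflat X
  obtain ⟨e⟩ := RHomShift.nonempty_flipObjShift (tensorBi O) tensorCx_eq E n
  have hEn := K294.KFl.isKFlat_shift hE n
  refine ⟨(LTS O).flip.mapIso ((shiftFunctor _ n).mapIso i.symm ≪≫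
    (((DerivedCategory.Q (C := Mod O)).commShiftIso n).app E).symm) ≪≫ ?_ ≪≫
    Functor.isoWhiskerRight ((LTS O).flip.mapIso i) (shiftFunctor _ n)⟩
  refine liftIso _ _ (flipQ _ hEn ≪≫ Functor.isoWhiskerRight e DerivedCategory.Q ≪≫ ?_)
  exact Functor.isoWhiskerLeft ((tensorCx O).flip.obj E) ((DerivedCategory.Q (C := Mod O)).commShiftIso n) ≪≫
    Functor.isoWhiskerRight (flipQ E hE).symm (shiftFunctor _ n)

/-- `- ⊗ᴸ O[0] ≅ 𝟭`. -/
theorem nonempty_flipUnit : Nonempty ((LTS O).flip.obj ((DerivedCategory.singleFunctor (Mod O) 0).obj (unit O)) ≅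
    𝟭 (DCoh.DMod (ringSh O))) := by
  have hK : IsKFlat ((HomologicalComplex.single (Mod O) (ComplexShape.up ℤ) 0).obj (unit O)) :=
    K294.KFlat2.isKFlat_single _ (K291.Flat.isFlat_unit O) 0
  have e0 : (tensorBi O).flip.obj (unit O) ≅ 𝟭 (Mod O) :=
    K291.Mon.flipObjIso O (unit O) ≪≫ rightUnitorNatIso (Mod O)
  obtain ⟨e⟩ := RHomShift.nonempty_flipUnit (tensorBi O) (unit O) e0 tensorCx_eq
  exact ⟨(LTS O).flip.mapIso ((DerivedCategory.singleFunctorIsoCompQ (Mod O) 0).app (unit O)) ≪≫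
    liftIso _ _ (flipQ _ hK ≪≫ Functor.isoWhiskerRight e DerivedCategory.Q ≪≫ Functor.leftUnitor _ ≪≫
      (Functor.rightUnitor _).symm)⟩

/-- `R(X[n]) G ≅ (R X G)[-n]`. -/
theorem nonempty_RA_shift (X : DCoh.DMod (ringSh O)) (n : ℤ) :
    Nonempty (RA O (X⟦n⟧) ≅ RA O X ⋙ shiftFunctor (DCoh.DMod (ringSh O)) (-n)) := by
  obtain ⟨e⟩ := nonempty_flipShift X n
  obtain ⟨i, -⟩ := isTriang_LTS_flip_obj X
  let e' := e ≪≫ (((LTS O).flip.obj X).commShiftIso n).symm
  exact ⟨((adj O (X⟦n⟧)).ofNatIsoLeft e').rightAdjointUniq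
    ((shiftEquiv (DCoh.DMod (ringSh O)) n).toAdjunction.comp (adj O X))⟩

/-- `R(O[0]) G ≅ G`. -/
theorem nonempty_RA_unit : Nonempty (RA O ((DerivedCategory.singleFunctor (Mod O) 0).obj (unit O)) ≅
    𝟭 (DCoh.DMod (ringSh O))) := by
  obtain ⟨e⟩ := nonempty_flipUnit (O := O)
  exact ⟨((adj O _).ofNatIsoLeft e).rightAdjointUniq Adjunction.id⟩

/-- Comparison with `DerComp.RHom`. -/
theorem nonempty_RHom_iso (F : CochainComplex (Mod O) ℤ) [HasLTensorCx F] [DerComp.HasRHom F] :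
    Nonempty (DerComp.RHom F ≅ RA O (DerivedCategory.Q.obj F)) :=
  ⟨((DerComp.RHomAdj F).ofNatIsoLeft (LTScx F).symm).rightAdjointUniq (adj O _)⟩

/-- `H^k(M[0] ⊗ᴸ X) ≅ M ⊗ H^k(X)` for `M` flat. -/
theorem nonempty_homology_iso (M : Mod O) (hM : IsFlat M) (X : DCoh.DMod (ringSh O)) (k : ℤ) :
    Nonempty ((DerivedCategory.homologyFunctor (Mod O) k).obj
        (((LTS O).obj ((DerivedCategory.singleFunctor (Mod O) 0).obj M)).obj X) ≅
      ((tensorBi O).obj M).obj ((DerivedCategory.homologyFunctor (Mod O) k).obj X)) := by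
  have hK : IsKFlat ((HomologicalComplex.single (Mod O) (ComplexShape.up ℤ) 0).obj M) :=
    K294.KFlat2.isKFlat_single _ hM 0
  let E := DerivedCategory.Q.objPreimage X
  let eE : DerivedCategory.Q.obj E ≅ X := DerivedCategory.Q.objObjPreimageIso X
  have hex : PreservesFiniteLimits ((tensorBi O).obj M) := by
    have := hM.1
    exact preservesFiniteLimits_of_natIso (K291.Mon.objIsoFlip O M).symm
  have e1 : (((tensorBi O).obj M).mapHomologicalComplex (ComplexShape.up ℤ)).obj E ≅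
      ((tensorCx O).obj ((HomologicalComplex.single (Mod O) (ComplexShape.up ℤ) 0).obj M)).obj E := by
    rw [tensorCx_eq]
    exact Groth.Agent.Dcoh.TensSingle.singleLeftIsoApp (tensorBi O) M E
  refine ⟨(DerivedCategory.homologyFunctor (Mod O) k).mapIso
    (((LTS O).mapIso ((DerivedCategory.singleFunctorIsoCompQ (Mod O) 0).app M)).app X ≪≫
      ((LTS O).obj _).mapIso eE.symm ≪≫ (objQ _ hK).app E ≪≫ DerivedCategory.Q.mapIso e1.symm) ≪≫
    (DerivedCategory.homologyFunctorFactors (Mod O) k).app _ ≪≫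
    (E.sc k).mapHomologyIso ((tensorBi O).obj M) ≪≫
    ((tensorBi O).obj M).mapIso (((DerivedCategory.homologyFunctorFactors (Mod O) k).app E).symm ≪≫
      (DerivedCategory.homologyFunctor (Mod O) k).mapIso eE)⟩

end K181.RAdj
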