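import Groth.Agent.PerfC.RHomTri
import Groth.Agent.LoccohB.Devissage
import Mathlib.Algebra.Homology.DerivedCategory.SingleTriangle

/-!
# Dévissage for `X ↦ H^i(R X G)`

`P`, `Q`, `Z`: classes of objects of an abelian category which behave as "quasi-coherent on `U`",
"base change maps on `U` are injective", "zero on `U`".
-/

set_option autoImplicit false
set_option linter.unusedSectionVars false

universe w v u

open CategoryTheory CategoryTheory.Limits Pretriangulated DerivedCategory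
open scoped ZeroObject

namespace K181.RHomDev

open Groth.Agent.PerfC.IsoLocus Groth.Agent.PerfC

section Classes

variable {A : Type u} [Category.{v} A] [Abelian A]

/-- The classes "quasi-coherent on `U`", "base change maps are injective", "zero on `U`". -/
structure PQZ (P Q Z : ObjectProperty A) : Prop where
  iso : ∀ {X Y : A}, (X ≅ Y) → P X → P Y
  zero : ∀ {X : A}, IsZero X → P X
  ker : ∀ {X Y : A} (f : X ⟶ Y), P X → Q Y → P (kernel f)
  coker : ∀ {X Y : A} (f : X ⟶ Y), P X → P Y → P (cokernel f)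
  ext : ∀ {S : ShortComplex A}, S.ShortExact → P S.X₁ → P S.X₃ → P S.X₂
  q : ∀ {S : ShortComplex A}, S.Exact → Mono S.f → P S.X₁ → P S.X₃ → Q S.X₂
  isoZ : ∀ {X Y : A}, (X ≅ Y) → Z X → Z Y
  zeroZ : ∀ {X : A}, IsZero X → Z X
  subZ : ∀ {X Y : A} (f : X ⟶ Y), Mono f → Z Y → Z X
  quotZ : ∀ {X Y : A} (f : X ⟶ Y), Epi f → Z X → Z Y
  tr : ∀ {Y X : A} (f : Y ⟶ X), Z (kernel f) → Z (cokernel f) → ((P Y ↔ P X) ∧ (Q Y ↔ Q X))

variable {P Q Z : ObjectProperty A} (h : PQZ P Q Z)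

include h

theorem PQZ.le {X : A} (hX : P X) : Q X := by
  have hz : IsZero (0 : A) := isZero_zero _
  have : (ShortComplex.mk (𝟙 X) (0 : X ⟶ (0 : A)) comp_zero).Exact :=
    (ShortComplex.exact_iff_epi _ rfl).2 inferInstance
  exact h.q this inferInstance hX (h.zero hz)

theorem PQZ.iso_iff {X Y : A} (e : X ≅ Y) : (P X ↔ P Y) ∧ (Q X ↔ Q Y) :=
  h.tr e.hom (h.zeroZ ((isZero_zero _).of_iso (kernel.ofMono e.hom)))
    (h.zeroZ ((isZero_zero _).of_iso (cokernel.ofEpi e.hom)))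

section Five

variable {X₁ X₂ X₃ X₄ X₅ : A} (f : X₁ ⟶ X₂) (g : X₂ ⟶ X₃) (k : X₃ ⟶ X₄) (l : X₄ ⟶ X₅)
  (w₁ : f ≫ g = 0) (w₂ : g ≫ k = 0) (w₃ : k ≫ l = 0) (e₁ : (ShortComplex.mk f g w₁).Exact)
  (e₂ : (ShortComplex.mk g k w₂).Exact)

include e₁ e₂

theorem PQZ.midQ (h₁ : P X₁) (h₂ : P X₂) (h₄ : P X₄) : Q X₃ := by
  have hm : Mono (cokernel.desc f g w₁) := e₁.mono_cokernelDesc
  let S : ShortComplex A := ShortComplex.mk (cokernel.desc f g w₁) k (by
    rw [← cancel_epi (cokernel.π f)]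
    simp [w₂])
  have hS : S.Exact := by
    let ψ : ShortComplex.mk g k w₂ ⟶ S :=
      { τ₁ := cokernel.π f, τ₂ := 𝟙 _, τ₃ := 𝟙 _ }
    have : Epi ψ.τ₁ := by dsimp [ψ]; infer_instance
    have : IsIso ψ.τ₂ := by dsimp [ψ]; infer_instance
    have : Mono ψ.τ₃ := by dsimp [ψ]; infer_instance
    exact (ShortComplex.exact_iff_of_epi_of_isIso_of_mono ψ).1 e₂
  exact h.q hS hm (h.coker f h₁ h₂) h₄

theorem PQZ.midP (e₃ : (ShortComplex.mk k l w₃).Exact)
    (h₁ : P X₁) (h₂ : P X₂) (h₄ : P X₄) (h₅ : Q X₅) : P X₃ := by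
  let S : ShortComplex A := ShortComplex.mk (cokernel.desc f g w₁) (kernel.lift l k w₃) (by
    rw [← cancel_mono (kernel.ι l), ← cancel_epi (cokernel.π f)]
    simp [w₂])
  have hm : Mono S.f := e₁.mono_cokernelDesc
  have he : Epi S.g := e₃.epi_kernelLift
  have hS : S.Exact := by
    let S' : ShortComplex A := ShortComplex.mk g (kernel.lift l k w₃) (by
      rw [← cancel_mono (kernel.ι l)]
      simp [w₂])
    let φ : S' ⟶ ShortComplex.mk g k w₂ :=
      { τ₁ := 𝟙 _, τ₂ := 𝟙 _, τ₃ := kernel.ι l }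
    let ψ : S' ⟶ S :=
      { τ₁ := cokernel.π f, τ₂ := 𝟙 _, τ₃ := 𝟙 _ }
    have : Epi φ.τ₁ := by dsimp [φ]; infer_instance
    have : IsIso φ.τ₂ := by dsimp [φ]; infer_instance
    have : Mono φ.τ₃ := by dsimp [φ]; infer_instance
    have : Epi ψ.τ₁ := by dsimp [ψ]; infer_instance
    have : IsIso ψ.τ₂ := by dsimp [ψ]; infer_instance
    have : Mono ψ.τ₃ := by dsimp [ψ]; infer_instance
    rw [← ShortComplex.exact_iff_of_epi_of_isIso_of_mono ψ,
      ShortComplex.exact_iff_of_epi_of_isIso_of_mono φ]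
    exact e₂
  exact h.ext (ShortComplex.ShortExact.mk' hS hm he) (h.coker f h₁ h₂) (h.ker l h₄ h₅)

end Five

/-- Transfer along a map with kernel and cokernel controlled by exact sequences. -/
theorem PQZ.tr' {Z₁ Y X Z₂ : A} (a : Z₁ ⟶ Y) (f : Y ⟶ X) (b : X ⟶ Z₂) (w₁ : a ≫ f = 0) (w₂ : f ≫ b = 0)
    (e₁ : (ShortComplex.mk a f w₁).Exact) (e₂ : (ShortComplex.mk f b w₂).Exact) (h₁ : Z Z₁) (h₂ : Z Z₂) :
    (P Y ↔ P X) ∧ (Q Y ↔ Q X) := by
  refine h.tr f ?_ ?_
  · have := e₁.epi_kernelLift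
    exact h.quotZ _ this h₁
  · have := e₂.mono_cokernelDesc
    exact h.subZ _ this h₂

end Classes

section Main

variable {A : Type u} [Category.{v} A] [Abelian A] [HasDerivedCategory.{w} A]
  (T : DerivedCategory A ⥤ DerivedCategory A ⥤ DerivedCategory A)
  (R : DerivedCategory A → DerivedCategory A ⥤ DerivedCategory A) (adj : ∀ K, T.obj K ⊣ R K)
  (hT : ∀ M, IsTriang (T.flip.obj M)) (hR : ∀ K, (T.obj K).Additive)
  (G : DerivedCategory A)

/-- `H^i(R X G)`. -/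
noncomputable abbrev hh (X : DerivedCategory A) (i : ℤ) : A := (homologyFunctor A i).obj ((R X).obj G)

variable (hsh : ∀ (X : DerivedCategory A) (n i j : ℤ), i = j + n → Nonempty (hh R G (X⟦n⟧) i ≅ hh R G X j))
  {P Q Z : ObjectProperty A} (h : PQZ P Q Z)

include adj hT hR hsh h

theorem midQ {Δ : Triangle (DerivedCategory A)} (hΔ : Δ ∈ distTriang _) (i j : ℤ) (hij : j + 1 = i)
    (h1 : P (hh R G Δ.obj₂ j)) (h2 : P (hh R G Δ.obj₁ j)) (h3 : P (hh R G Δ.obj₂ i)) : Q (hh R G Δ.obj₃ i) := by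
  obtain ⟨e1⟩ := hsh Δ.obj₁ 1 i j hij.symm
  obtain ⟨e2⟩ := hsh Δ.obj₂ 1 i j hij.symm
  exact h.midQ _ _ _ _ _
    (RHomTri.exact T R adj hT _ (rot_of_distTriang _ (rot_of_distTriang _ hΔ)) hR G i)
    (RHomTri.exact T R adj hT _ (rot_of_distTriang _ hΔ) hR G i) (h.iso e2.symm h1) (h.iso e1.symm h2) h3

theorem midP {Δ : Triangle (DerivedCategory A)} (hΔ : Δ ∈ distTriang _) (i j : ℤ) (hij : j + 1 = i)
    (h1 : P (hh R G Δ.obj₂ j)) (h2 : P (hh R G Δ.obj₁ j)) (h3 : P (hh R G Δ.obj₂ i)) (h4 : Q (hh R G Δ.obj₁ i)) :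
    P (hh R G Δ.obj₃ i) := by
  obtain ⟨e1⟩ := hsh Δ.obj₁ 1 i j hij.symm
  obtain ⟨e2⟩ := hsh Δ.obj₂ 1 i j hij.symm
  exact h.midP _ _ _ _ _ _ _
    (RHomTri.exact T R adj hT _ (rot_of_distTriang _ (rot_of_distTriang _ hΔ)) hR G i)
    (RHomTri.exact T R adj hT _ (rot_of_distTriang _ hΔ) hR G i)
    (RHomTri.exact T R adj hT _ hΔ hR G i) (h.iso e2.symm h1) (h.iso e1.symm h2) h3 h4

/-- The middle term. -/
theorem midP₂ {Δ : Triangle (DerivedCategory A)} (hΔ : Δ ∈ distTriang _) (i j k : ℤ) (hij : j + 1 = i) (hik : i + 1 = k)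
    (h1 : P (hh R G Δ.obj₁ j)) (h2 : P (hh R G Δ.obj₃ i)) (h3 : P (hh R G Δ.obj₁ i)) (h4 : Q (hh R G Δ.obj₃ k)) :
    P (hh R G Δ.obj₂ i) := by
  obtain ⟨e1⟩ := hsh Δ.obj₃ (-1) j i (by lia)
  obtain ⟨e2⟩ := hsh Δ.obj₃ (-1) i k (by lia)
  exact midP T R adj hT hR G hsh h (inv_rot_of_distTriang _ hΔ) i j hij h1 (h.iso e1.symm h2) h3
    ((h.iso_iff e2).2.2 h4)

/-- Transfer, the third object is in `Z`. -/
theorem tr₃ {Δ : Triangle (DerivedCategory A)} (hΔ : Δ ∈ distTriang _) (hz : ∀ i, Z (hh R G Δ.obj₃ i)) (i : ℤ) :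
    (P (hh R G Δ.obj₂ i) ↔ P (hh R G Δ.obj₁ i)) ∧ (Q (hh R G Δ.obj₂ i) ↔ Q (hh R G Δ.obj₁ i)) := by
  obtain ⟨e⟩ := hsh Δ.obj₃ (-1) i (i + 1) (by lia)
  exact h.tr' _ _ _ _ _ (RHomTri.exact T R adj hT _ hΔ hR G i)
    (RHomTri.exact T R adj hT _ (inv_rot_of_distTriang _ hΔ) hR G i) (hz i) (h.isoZ e.symm (hz (i + 1)))

/-- Transfer, the first object is in `Z`. -/
theorem tr₁ {Δ : Triangle (DerivedCategory A)} (hΔ : Δ ∈ distTriang _) (hz : ∀ i, Z (hh R G Δ.obj₁ i)) (i : ℤ) :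
    (P (hh R G Δ.obj₃ i) ↔ P (hh R G Δ.obj₂ i)) ∧ (Q (hh R G Δ.obj₃ i) ↔ Q (hh R G Δ.obj₂ i)) := by
  obtain ⟨e⟩ := hsh Δ.obj₁ 1 i (i - 1) (by lia)
  exact h.tr' _ _ _ _ _ (RHomTri.exact T R adj hT _ (rot_of_distTriang _ hΔ) hR G i)
    (RHomTri.exact T R adj hT _ hΔ hR G i) (h.isoZ e.symm (hz (i - 1))) (hz i)

omit hsh in
theorem hh_biprod (M N : A) (i : ℤ) (hM : P (hh R G ((singleFunctor A 0).obj M) i))
    (hN : P (hh R G ((singleFunctor A 0).obj N) i)) : P (hh R G ((singleFunctor A 0).obj (M ⊞ N)) i) := by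
  have hS : (ShortComplex.mk (biprod.inl : M ⟶ M ⊞ N) (biprod.snd : M ⊞ N ⟶ N) (by simp)).ShortExact :=
    (ShortComplex.Splitting.ofHasBinaryBiproduct M N).shortExact
  let a := (singleFunctor A 0).map (biprod.inl : M ⟶ M ⊞ N)
  let b := (singleFunctor A 0).map (biprod.snd : M ⊞ N ⟶ N)
  have w : (homologyFunctor A i).map (RHomTri.ρ T R adj b G) ≫ (homologyFunctor A i).map (RHomTri.ρ T R adj a G) = 0 := by
    rw [← Functor.map_comp, ← RHomTri.ρ_comp, ← (singleFunctor A 0).map_comp, biprod.inl_snd, Functor.map_zero,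
      RHomTri.ρ_zero T R adj hT hR, Functor.map_zero]
  have ex : (ShortComplex.mk _ _ w).Exact := RHomTri.exact T R adj hT _ hS.singleTriangle_distinguished hR G i
  have e1 : RHomTri.ρ T R adj b G ≫
      RHomTri.ρ T R adj ((singleFunctor A 0).map (biprod.inr : N ⟶ M ⊞ N)) G = 𝟙 _ := by
    rw [← RHomTri.ρ_comp, ← (singleFunctor A 0).map_comp, biprod.inr_snd, CategoryTheory.Functor.map_id, RHomTri.ρ_id]
  have e2 : RHomTri.ρ T R adj ((singleFunctor A 0).map (biprod.fst : M ⊞ N ⟶ M)) G ≫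
      RHomTri.ρ T R adj a G = 𝟙 _ := by
    rw [← RHomTri.ρ_comp, ← (singleFunctor A 0).map_comp, biprod.inl_fst, CategoryTheory.Functor.map_id, RHomTri.ρ_id]
  have hm : Mono ((homologyFunctor A i).map (RHomTri.ρ T R adj b G)) := by
    have : (homologyFunctor A i).map (RHomTri.ρ T R adj b G) ≫
        (homologyFunctor A i).map (RHomTri.ρ T R adj ((singleFunctor A 0).map (biprod.inr : N ⟶ M ⊞ N)) G) = 𝟙 _ := by
      rw [← Functor.map_comp, e1, CategoryTheory.Functor.map_id]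
    exact mono_of_mono_fac this
  have he : Epi ((homologyFunctor A i).map (RHomTri.ρ T R adj a G)) := by
    have : (homologyFunctor A i).map (RHomTri.ρ T R adj ((singleFunctor A 0).map (biprod.fst : M ⊞ N ⟶ M)) G) ≫
        (homologyFunctor A i).map (RHomTri.ρ T R adj a G) = 𝟙 _ := by
      rw [← Functor.map_comp, e2, CategoryTheory.Functor.map_id]
    exact epi_of_epi_fac this
  exact h.ext (ShortComplex.ShortExact.mk' ex hm he) hN hM

variable (n I : ℤ) (hV : ∀ (X : DerivedCategory A) (b i : ℤ) [X.IsLE b], i + b ≤ n → IsZero (hh R G X i))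
  (hZ : ∀ X : DerivedCategory A, (∀ k, Z ((homologyFunctor A k).obj X)) → ∀ i, Z (hh R G X i))

include hZ

theorem zero_single {M : A} (hM : Z M) (i : ℤ) : Z (hh R G ((singleFunctor A 0).obj M) i) := by
  refine hZ _ (fun k => ?_) i
  by_cases hk : k = 0
  · subst hk
    exact h.isoZ ((singleFunctorCompHomologyFunctorIso A 0).symm.app M) hM
  · refine h.zeroZ ?_
    rcases lt_or_gt_of_ne hk with hk | hk
    · exact ((singleFunctor A 0).obj M).isZero_of_isGE 0 k hk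
    · exact ((singleFunctor A 0).obj M).isZero_of_isLE 0 k hk

theorem tr_single {M₁ M₂ : A} (f : M₁ ⟶ M₂) (hk : Z (kernel f)) (hc : Z (cokernel f)) (i : ℤ) :
    (P (hh R G ((singleFunctor A 0).obj M₂) i) → P (hh R G ((singleFunctor A 0).obj M₁) i)) ∧
    (Q (hh R G ((singleFunctor A 0).obj M₂) i) → Q (hh R G ((singleFunctor A 0).obj M₁) i)) := by
  have hS₁ : (ShortComplex.mk (kernel.ι f) (Abelian.factorThruImage f) (by
      rw [← cancel_mono (Abelian.image.ι f), Category.assoc, Abelian.image.fac, kernel.condition, zero_comp])).ShortExact := by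
    refine ⟨ShortComplex.exact_of_f_is_kernel _ ?_⟩
    exact KernelFork.IsLimit.ofι' _ _ fun {A} k hk =>
      ⟨kernel.lift f k (by rw [← Abelian.image.fac f, ← Category.assoc, hk, zero_comp]), by simp⟩
  have hS₂ : (ShortComplex.mk (Abelian.image.ι f) (cokernel.π f) (kernel.condition _)).ShortExact :=
    ⟨ShortComplex.exact_of_f_is_kernel _ (kernelIsKernel (cokernel.π f))⟩
  have t₁ := tr₁ T R adj hT hR G hsh h hS₁.singleTriangle_distinguished
    (fun i => zero_single T R adj hT hR G hsh h hZ hk i) i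
  have t₂ := tr₃ T R adj hT hR G hsh h hS₂.singleTriangle_distinguished
    (fun i => zero_single T R adj hT hR G hsh h hZ hc i) i
  exact ⟨fun x => t₁.1.1 (t₂.1.1 x), fun x => t₁.2.1 (t₂.2.1 x)⟩

variable {Pf : ObjectProperty A}
  (hres : ∀ M : A, Pf M → ∃ (F M' : A) (φ : F ⟶ M') (f : M ⟶ M'), Pf (kernel φ) ∧ Z (cokernel φ) ∧ Z (kernel f) ∧
    Z (cokernel f) ∧ ∀ i ≤ I, P (hh R G ((singleFunctor A 0).obj F) i))

include hV hres

theorem modP (i : ℤ) (hi : i ≤ I) (M : A) (hM : Pf M) : P (hh R G ((singleFunctor A 0).obj M) i) := by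
  obtain ⟨m, hm⟩ : ∃ m : ℕ, i ≤ n + m := ⟨(i - n).toNat, by have := Int.self_le_toNat (i - n); lia⟩
  induction m generalizing i M with
  | zero => exact h.zero (hV _ 0 i (by simp at hm; lia))
  | succ m ih =>
    have tri : ∀ (M : A), Pf M → ∃ (K F I' : A) (Δ : Triangle (DerivedCategory A)) (_ : Δ ∈ distTriang _), Pf K ∧
        Δ.obj₁ = (singleFunctor A 0).obj K ∧ Δ.obj₂ = (singleFunctor A 0).obj F ∧ 
        Δ.obj₃ = (singleFunctor A 0).obj I' ∧
        (∀ i ≤ I, P (hh R G ((singleFunctor A 0).obj F) i)) ∧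
        (P (hh R G ((singleFunctor A 0).obj I') i) → P (hh R G ((singleFunctor A 0).obj M) i)) ∧
        (Q (hh R G ((singleFunctor A 0).obj I') i) → Q (hh R G ((singleFunctor A 0).obj M) i)) := by
      intro M hM
      obtain ⟨F, M', φ, f, h1, h2, h3, h4, h5⟩ := hres M hM
      have hS₁ : (ShortComplex.mk (kernel.ι φ) (Abelian.factorThruImage φ) (by
          rw [← cancel_mono (Abelian.image.ι φ), Category.assoc, Abelian.image.fac, kernel.condition, zero_comp])).ShortExact := by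
        refine ⟨ShortComplex.exact_of_f_is_kernel _ ?_⟩
        exact KernelFork.IsLimit.ofι' _ _ fun {A} k hk =>
          ⟨kernel.lift φ k (by rw [← Abelian.image.fac φ, ← Category.assoc, hk, zero_comp]), by simp⟩
      have hS₂ : (ShortComplex.mk (Abelian.image.ι φ) (cokernel.π φ) (kernel.condition _)).ShortExact :=
        ⟨ShortComplex.exact_of_f_is_kernel _ (kernelIsKernel (cokernel.π φ))⟩
      have t₂ := tr₃ T R adj hT hR G hsh h hS₂.singleTriangle_distinguished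
        (fun i => zero_single T R adj hT hR G hsh h hZ h2 i) i
      have t := tr_single T R adj hT hR G hsh h hZ f h3 h4 i
      refine ⟨_, _, _, _, hS₁.singleTriangle_distinguished, h1, rfl, rfl, rfl, h5, fun x => t.1 (t₂.1.2 x),
        fun x => t.2 (t₂.2.2 x)⟩
    have hq : ∀ (M : A), Pf M → Q (hh R G ((singleFunctor A 0).obj M) i) := by
      intro M hM
      obtain ⟨K, F, I', Δ, hΔ, hK, h1, h2, h3, hF, t1, t2⟩ := tri M hM
      apply t2
      rw [← h3]
      refine midQ T R adj hT hR G hsh h hΔ i (i - 1) (by lia) ?_ ?_ ?_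
      · rw [h2]; exact hF _ (by lia)
      · rw [h1]; exact ih (i - 1) (by lia) K hK (by push_cast at hm; lia)
      · rw [h2]; exact hF _ (by lia)
    obtain ⟨K, F, I', Δ, hΔ, hK, h1, h2, h3, hF, t1, t2⟩ := tri M hM
    apply t1
    rw [← h3]
    refine midP T R adj hT hR G hsh h hΔ i (i - 1) (by lia) ?_ ?_ ?_ ?_
    · rw [h2]; exact hF _ (by lia)
    · rw [h1]; exact ih (i - 1) (by lia) K hK (by push_cast at hm; lia)
    · rw [h2]; exact hF _ (by lia)
    · rw [h1]; exact hq K hK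

theorem mod_single (j i : ℤ) (hi : i + j ≤ I) (M : A) (hM : Pf M) : P (hh R G ((singleFunctor A j).obj M) i) := by
  have e : (singleFunctor A j).obj M ≅ ((singleFunctor A 0).obj M)⟦-j⟧ :=
    ((singleFunctors A).shiftIso (-j) j 0 (by lia)).symm.app M
  obtain ⟨e'⟩ := hsh ((singleFunctor A 0).obj M) (-j) i (i + j) (by lia)
  refine h.iso (e'.symm ≪≫ (homologyFunctor A i).mapIso (RHomTri.ρIso T R adj e G)) ?_
  exact modP T R adj hT hR G hsh h n I hV hZ hres (i + j) hi M hM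

variable (hPf : ∀ {X Y : A}, (X ≅ Y) → Pf X → Pf Y) (hPf0 : ∀ {X : A}, IsZero X → Pf X)

include hPf hPf0

/-- The main dévissage. -/
theorem dev (b i : ℤ) (hi : i + b + 1 ≤ I) (X : DerivedCategory A) [X.IsLE b]
    (hX : ∀ j, Pf ((homologyFunctor A j).obj X)) : P (hh R G X i) := by
  obtain ⟨m, hm⟩ : ∃ m : ℕ, i + b ≤ n + m := ⟨(i + b - n).toNat, by have := Int.self_le_toNat (i + b - n); lia⟩
  induction m generalizing i b X with
  | zero => exact h.zero (hV _ b i (by simpa using hm))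
  | succ m ih =>
    obtain ⟨Δ, hΔ, rfl, h1, h3, hi1, hi3⟩ := Groth.Agent.LoccohB.Devissage.exists_trunc X (b - 1) b (by lia)
    have hX1 : ∀ j, Pf ((homologyFunctor A j).obj Δ.obj₁) := by
      intro j
      by_cases hj : j ≤ b - 1
      · have := hi1 j hj
        exact hPf (asIso ((homologyFunctor A j).map Δ.mor₁)).symm (hX j)
      · exact hPf0 (Δ.obj₁.isZero_of_isLE (b - 1) j (by lia))
    have hLE : Δ.obj₃.IsLE b := by
      rw [isLE_iff]
      intro i hi
      have := hi3 i (by lia)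
      exact (Δ.obj₂.isZero_of_isLE b i hi).of_iso
        (asIso ((homologyFunctor A i).map Δ.mor₂)).symm
    obtain ⟨e⟩ := Groth.Agent.LoccohB.Devissage.nonempty_iso_single Δ.obj₃ b
    have hX3 : ∀ k, k + b ≤ I → P (hh R G Δ.obj₃ k) := by
      intro k hk
      have := hi3 b le_rfl
      refine h.iso ((homologyFunctor A k).mapIso (RHomTri.ρIso T R adj e G)) ?_
      exact mod_single T R adj hT hR G hsh h n I hV hZ hres b k hk _
        (hPf (asIso ((homologyFunctor A b).map Δ.mor₂)) (hX b))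
    refine midP₂ T R adj hT hR G hsh h hΔ i (i - 1) (i + 1) (by lia) rfl ?_ ?_ ?_ ?_
    · exact ih (b - 1) (i - 1) (by lia) Δ.obj₁ hX1 (by push_cast at hm; lia)
    · exact hX3 i (by lia)
    · exact ih (b - 1) i (by lia) Δ.obj₁ hX1 (by push_cast at hm; lia)
    · exact h.le (hX3 (i + 1) (by lia))

end Main

end K181.RHomDev
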