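import Groth.Agent.FSch.K181.RAdj
import Groth.Agent.FSch.K181.PQZInst
import Groth.Agent.FSch.K181.HomSh
import Groth.Agent.ModSite.K291.Shriek2
import Groth.Agent.SiteCmp.K578.ModTest
import Groth.Agent.SiteCmp.K578.Bound

/-!
# Local computations for `X ↦ H^i(R X G)` on a ringed space
-/

set_option autoImplicit false
set_option linter.style.haveILetI false
universe u

open CategoryTheory TopologicalSpace Opposite CategoryTheory.Limits

attribute [local instance] HasDerivedCategory.standard

noncomputable section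

namespace K181.RHomLoc

open K29.RSec K29.RExact K181.PQZInst K181.RAdj K181.RHomDev DerivedCategory K242.SiteBif

variable {T : TopCat.{u}} {R : Sheaf (Opens.grothendieckTopology T) CommRingCat.{u}}

variable (R) in
/-- The free module on an open. -/
abbrev Fr (V : Opens T) : Mod R := (K578.ModTest.PM (ModSite.ringSh R)).obj V

/-- Maps out of the free module are zero if there are no sections. -/
theorem hom_Fr_eq_zero {V : Opens T} {N : Mod R} (h : Subsingleton (Sec N V)) (f : Fr R V ⟶ N) : f = 0 := by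
  apply (K578.ModTest.homEq (ModSite.ringSh R) V N).injective
  exact h.elim _ _

/-- The free module is flat. -/
theorem isFlat_Fr (V : Opens T) : ModSite.IsFlat (Fr R V) := by
  let a : Fr R V ⟶ ModSite.freeOn R V := (K578.ModTest.homEq (ModSite.ringSh R) V _).symm (K291.FreeOn.gen R V)
  let b : ModSite.freeOn R V ⟶ Fr R V := K291.FreeOn.ofSec (K578.ModTest.gen (ModSite.ringSh R) V)
  have e : ModSite.freeOn R V ≅ Fr R V :=
    { hom := b
      inv := a
      hom_inv_id := by
        refine K291.FreeOn.freeOn_hom_ext ?_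
        rw [K291.FreeOn.sc_comp, K291.FreeOn.sc_ofSec]
        exact (K578.ModTest.homEq_apply a).symm.trans
          (((K578.ModTest.homEq (ModSite.ringSh R) V _).apply_symm_apply _).trans rfl)
      inv_hom_id := by
        apply (K578.ModTest.homEq (ModSite.ringSh R) V _).injective
        rw [K578.ModTest.homEq_comp]
        have h1 : K578.ModTest.homEq (ModSite.ringSh R) V _ a = K291.FreeOn.gen R V :=
          (K578.ModTest.homEq (ModSite.ringSh R) V _).apply_symm_apply _
        rw [h1]
        exact K291.FreeOn.sc_ofSec (O := R) (K578.ModTest.gen (ModSite.ringSh R) V) }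
  exact K291.Flat.isFlat_of_iso e.symm (K291.Shriek.isFlat_freeOn R V)

/-- The tensor product with a module vanishing on `U`. -/
theorem isZero_tensor {U V : Opens T} (hVU : V ≤ U) {N : Mod R} (hN : ZeroOn R U N) :
    IsZero (((ModSite.tensorBi R).obj (Fr R V)).obj N) := by
  have := K291.Colim.hasSheafHom N
  rw [IsZero.iff_id_eq_zero]
  generalize (𝟙 (((ModSite.tensorBi R).obj (Fr R V)).obj N)) = f
  apply ((ModSite.sheafHomAdj N).homEquiv _ _).injective
  have key : ∀ (Z : Mod R) (g : Fr R V ⟶ (ModSite.sheafHom N).obj Z), g = 0 := by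
    intro Z g
    rw [← cancel_mono (K181.HomSh.homShIso N Z).inv, zero_comp]
    refine hom_Fr_eq_zero ⟨fun φ ψ => ?_⟩ _
    refine K181.HomSh.HomOn.ext' (M := N) (N := Z) fun W hW m => ?_
    have := hN W (hW.trans hVU)
    rw [Subsingleton.elim m 0]
    exact (map_zero (φ.1 ⟨W, hW⟩)).trans (map_zero (ψ.1 ⟨W, hW⟩)).symm
  rw [key _ (((ModSite.sheafHomAdj N).homEquiv _ _) f), key _ (((ModSite.sheafHomAdj N).homEquiv _ _) 0)]

/-- the single complex of the free module -/
abbrev SF (R : Sheaf (Opens.grothendieckTopology T) CommRingCat.{u}) (V : Opens T) : DerivedCategory (Mod R) :=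
  (singleFunctor (Mod R) 0).obj (Fr R V)

theorem isLE_tensor (V : Opens T) (X : DerivedCategory (Mod R)) (b : ℤ) [X.IsLE b] :
    (((LTS R).obj (SF R V)).obj X).IsLE b := by
  rw [isLE_iff]
  intro k hk
  obtain ⟨e⟩ := nonempty_homology_iso (Fr R V) (isFlat_Fr V) X k
  have : (((ModSite.tensorBi R).obj (Fr R V))).Additive := K291.Flat.additive_obj _
  exact IsZero.of_iso (((ModSite.tensorBi R).obj (Fr R V)).map_isZero (X.isZero_of_isLE b k hk)) e

theorem isZero_tensorD {U V : Opens T} (hVU : V ≤ U) (X : DerivedCategory (Mod R))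
    (hX : ∀ k, ZeroOn R U ((homologyFunctor (Mod R) k).obj X)) : IsZero (((LTS R).obj (SF R V)).obj X) := by
  have h : ∀ k, IsZero ((homologyFunctor (Mod R) k).obj (((LTS R).obj (SF R V)).obj X)) := fun k => by
    obtain ⟨e⟩ := nonempty_homology_iso (Fr R V) (isFlat_Fr V) X k
    exact (isZero_tensor hVU (hX k)).of_iso e
  have h1 : (((LTS R).obj (SF R V)).obj X).IsLE 0 := by
    rw [isLE_iff]
    exact fun k _ => h k
  have h2 : (((LTS R).obj (SF R V)).obj X).IsGE 1 := by
    rw [isGE_iff]
    exact fun k _ => h k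
  exact Groth.Agent.LoccohB.Devissage.isZero_of_isGE_of_isLE _ 1 0 (by lia)

/-- Vanishing of `H⁰` on `U` by testing with free modules. -/
theorem zeroOn_H0 {U : Opens T} (M : DerivedCategory (Mod R)) (h : ∀ V ≤ U, ∀ x : SF R V ⟶ M, x = 0) :
    ZeroOn R U ((homologyFunctor (Mod R) 0).obj M) := by
  intro V hV
  have hs := K578.ModTest.testSystem (ModSite.ringSh R)
  have key : ∀ s : Fr R V ⟶ (homologyFunctor (Mod R) 0).obj M, s = 0 := by
    intro s
    obtain ⟨S, hS, hS'⟩ := K578.Bound.loc_surj₀ hs s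
    refine hs.joint_epi S hS s fun {W} g hg => ?_
    obtain ⟨x, hx⟩ := hS' g hg
    rw [← hx, h W (g.le.trans hV) x, K578.Bound.can₀_zero]
  refine ⟨fun s t => ?_⟩
  have h1 : ∀ s : Sec ((homologyFunctor (Mod R) 0).obj M) V, s = 0 := fun s => by
    have e : (K578.ModTest.homEq (ModSite.ringSh R) V _) ((K578.ModTest.homEq (ModSite.ringSh R) V _).symm s) = s :=
      Equiv.apply_symm_apply _ _
    rw [key ((K578.ModTest.homEq (ModSite.ringSh R) V _).symm s)] at e
    rw [← e]
    exact K578.ModTest.homEq_zero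
  rw [h1 s, h1 t]

theorem isZero_of_zeroOn_top {N : Mod R} (h : ZeroOn R ⊤ N) : IsZero N := by
  rw [IsZero.iff_id_eq_zero]
  refine K29.RSec.hom_ext fun V m => ?_
  have := h V le_top
  exact Subsingleton.elim _ _

/-- The shifts. -/
theorem hsh (G : DerivedCategory (Mod R)) (X : DerivedCategory (Mod R)) (n i j : ℤ) (hij : i = j + n) :
    Nonempty (hh (RA R) G (X⟦n⟧) i ≅ hh (RA R) G X j) := by
  obtain ⟨e⟩ := nonempty_RA_shift X n
  exact ⟨(homologyFunctor (Mod R) i).mapIso (e.app G) ≪≫
    ((homologyFunctor (Mod R) 0).shiftIso (-n) i j (by lia)).app ((RA R X).obj G)⟩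

theorem eq_zero_of_isZero (G : DerivedCategory (Mod R)) (X Y : DerivedCategory (Mod R))
    (h : ∀ f : (((LTS R).obj Y).obj X) ⟶ G, f = 0) (x : Y ⟶ (RA R X).obj G) : x = 0 := by
  have := additive_flip R X
  apply ((adj R X).homEquiv Y G).symm.injective
  rw [h (((adj R X).homEquiv Y G).symm x), h (((adj R X).homEquiv Y G).symm 0)]

theorem hZ (G : DerivedCategory (Mod R)) {U : Opens T} (X : DerivedCategory (Mod R))
    (hX : ∀ k, ZeroOn R U ((homologyFunctor (Mod R) k).obj X)) (i : ℤ) : ZeroOn R U (hh (RA R) G X i) := by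
  have key : ∀ (X : DerivedCategory (Mod R)) (hX : ∀ k, ZeroOn R U ((homologyFunctor (Mod R) k).obj X)),
      ZeroOn R U (hh (RA R) G X 0) := fun X hX =>
    zeroOn_H0 _ fun V hV x => eq_zero_of_isZero G X _ (fun f => (isZero_tensorD hV X hX).eq_of_src _ _) x
  obtain ⟨e⟩ := hsh G X (-i) 0 i (by lia)
  refine (key (X⟦-i⟧) fun k => ?_).of_mono e.inv inferInstance
  exact (hX (-i + k)).of_mono (((homologyFunctor (Mod R) 0).shiftIso (-i) k (-i + k) rfl).app X).hom inferInstance

theorem hV (G : DerivedCategory (Mod R)) (n : ℤ) (hG : ∀ i ≤ n, IsZero ((homologyFunctor (Mod R) i).obj G))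
    (X : DerivedCategory (Mod R)) (b i : ℤ) [X.IsLE b] (hi : i + b ≤ n) : IsZero (hh (RA R) G X i) := by
  have hGE : G.IsGE (n + 1) := by
    rw [isGE_iff]
    exact fun k hk => hG k (by lia)
  obtain ⟨e⟩ := hsh G X (-i) 0 i (by lia)
  have : (X⟦-i⟧).IsLE (b + i) := by
    rw [isLE_iff]
    intro k hk
    exact (X.isZero_of_isLE b (-i + k) (by lia)).of_iso
      (((homologyFunctor (Mod R) 0).shiftIso (-i) k (-i + k) rfl).app X)
  refine IsZero.of_iso (isZero_of_zeroOn_top (zeroOn_H0 _ fun V hV x => eq_zero_of_isZero G _ _ (fun f => ?_) x)) e.symm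
  have h1 := isLE_tensor V (X⟦-i⟧) (b + i)
  exact (TStructure.t : Triangulated.TStructure (DerivedCategory (Mod R))).zero f (b + i) (n + 1) (by lia)

end K181.RHomLoc
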