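import Groth.Agent.FSch.K181.PQZInst
import Groth.Agent.FSch.K181.FCls
import Groth.Agent.FCompl.K29.FmlUnit

/-!
# Presentations on an open of the basis

`pushD U M`: `j_* j^* M` for the inclusion `j` of `U`; `pw r`: `O^r`.
-/

set_option autoImplicit false
set_option linter.style.haveILetI false
universe u

open CategoryTheory TopologicalSpace Opposite CategoryTheory.Limits

open scoped ZeroObject

noncomputable section

namespace K181.ResOn

open K29.RSec K29.RExact K29.RPres K181.BC K181.Good K181.PQZInst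

variable {T : TopCat.{u}} {R : Sheaf (Opens.grothendieckTopology T) CommRingCat.{u}} {𝔅 : GoodCov R}

section Push

variable (U : Opens T) (M : Mod R)

/-- Sections of `j_* j^* M`. -/
def PS (V : Opens T) : Type u := Sec M (U ⊓ V)

instance (V : Opens T) : AddCommGroup (PS U M V) := inferInstanceAs (AddCommGroup (Sec M (U ⊓ V)))

instance (V : Opens T) : Module (O R V) (PS U M V) :=
  Module.compHom (Sec M (U ⊓ V)) (resO (R := R) (inf_le_right : U ⊓ V ≤ V))

theorem ps_smul (V : Opens T) (a : O R V) (s : PS U M V) :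
    a • s = (show PS U M V from resO (R := R) (inf_le_right : U ⊓ V ≤ V) a • (show Sec M (U ⊓ V) from s)) := rfl

/-- `j_* j^* M`. -/
def pushD : Data R where
  S := PS U M
  r h := res M (inf_le_inf_left U h)
  r_self h s := res_self M _ s
  r_r h h' s := res_res M _ _ s
  r_smul {V W} h a s := by
    rw [ps_smul, ps_smul]
    refine (res_smul M _ _ _).trans ?_
    rw [resO_resO, resO_resO]
    rfl
  ext {ι} V s t h := by
    have hc : U ⊓ ⨆ i, V i ≤ ⨆ i, U ⊓ V i := by rw [inf_iSup_eq]
    exact eq_of_locally M (fun i => U ⊓ V i) _ hc (fun i => inf_le_inf_left U (le_iSup V i)) s t h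
  glue {ι} V s h := by
    have hc : U ⊓ ⨆ i, V i ≤ ⨆ i, U ⊓ V i := by rw [inf_iSup_eq]
    exact exists_glue M (fun i => U ⊓ V i) (U ⊓ ⨆ i, V i) hc (fun i => inf_le_inf_left U (le_iSup V i)) s
      fun i j W hi hj => by
        have e := congrArg (res M (le_inf (hi.trans inf_le_left)
          (le_inf (hi.trans inf_le_right) (hj.trans inf_le_right)) : W ≤ U ⊓ (V i ⊓ V j))) (h i j)
        exact ((res_res M _ _ _).symm.trans e).trans (res_res M _ _ _)

/-- `j_* j^* M`. -/
def pushU : Mod R := (pushD U M).toMod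

/-- The unit. -/
def toPush : M ⟶ pushU U M :=
  homMk (N := pushU U M) (fun V => res M (inf_le_right : U ⊓ V ≤ V))
    (fun _ r m => res_smul M _ r m)
    (fun _ _ _ m => (res_res M _ _ m).trans (res_res M _ _ m).symm)

theorem toPush_bijective {V : Opens T} (hV : V ≤ U) : Function.Bijective (app (toPush U M) V) :=
  (K181.Pre.PM.ofMod M).r_bijective (inf_eq_right.2 hV).symm (inf_le_right : U ⊓ V ≤ V)

variable {U M}

/-- The section of `j_* j^* M` defined by a section over `U`. -/
def sg (s : Sec M U) (V : Opens T) : Sec (pushU U M) V := show Sec M (U ⊓ V) from res M inf_le_left s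

theorem res_sg (s : Sec M U) {V W : Opens T} (h : W ≤ V) : res (pushU U M) h (sg s V) = sg s W :=
  res_res M _ _ s

theorem toPush_res (s : Sec M U) {V : Opens T} (hV : V ≤ U) : app (toPush U M) V (res M hV s) = sg s V :=
  res_res M _ _ s

/-- The map `O → j_* j^* M` defined by a section over `U`. -/
def one (s : Sec M U) : unitR R ⟶ pushU U M :=
  homMk (fun V => AddMonoidHom.mk' (fun a => toO a • sg s V) fun a b => by rw [map_add, add_smul])
    (fun V r m => by
      change toO (r • m) • sg s V = r • toO m • sg s V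
      rw [map_smul, smul_eq_mul, mul_smul])
    (fun V W h m => by
      change toO (res (unitR R) h m) • sg s W = res (pushU U M) h (toO m • sg s V)
      rw [toO_res, res_smul, res_sg])

theorem app_one (s : Sec M U) (V : Opens T) : app (one s) V (ofO 1) = sg s V := one_smul (O R V) (sg s V)

end Push

variable (R) in
/-- `O^r`. -/
def pw : ℕ → Mod R
  | 0 => 0
  | r + 1 => unitR R ⊞ pw r

theorem cartF_pw {U : Opens T} (hU : U ∈ 𝔅.B) (r : ℕ) : CartF 𝔅 (pw R r) U := by
  induction r with
  | zero => exact (ZeroOn.of_isZero (isZero_zero (Mod R))).cartF hU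
  | succ r ih =>
    have hS : (ShortComplex.mk (biprod.inl : unitR R ⟶ unitR R ⊞ pw R r) (biprod.snd : unitR R ⊞ pw R r ⟶ pw R r)
      (by simp)).ShortExact := (ShortComplex.Splitting.ofHasBinaryBiproduct (unitR R) (pw R r)).shortExact
    exact CartF.ext hS (cartF_unit 𝔅 hU) ih

section Desc

variable {U : Opens T} {M : Mod R}

/-- The map `O^r → j_* j^* M` defined by sections. -/
def dsc : ∀ (r : ℕ) (_ : Fin r → Sec M U), (pw R r ⟶ pushU U M)
  | 0, _ => 0
  | r + 1, s => biprod.desc (one (s 0)) (dsc r fun i => s i.succ)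

theorem exists_dsc (r : ℕ) (s : Fin r → Sec M U) (V : Opens T) (i : Fin r) :
    ∃ z : Sec (pw R r) V, app (dsc r s) V z = sg (s i) V := by
  induction r with
  | zero => exact i.elim0
  | succ r ih =>
    refine Fin.cases ?_ (fun i => ?_) i
    · refine ⟨app (biprod.inl : unitR R ⟶ unitR R ⊞ pw R r) V (ofO 1), ?_⟩
      rw [← app_one (s 0) V]
      refine (app_comp _ _ _ _).symm.trans ?_
      congr 2
      exact biprod.inl_desc _ _
    · obtain ⟨z, hz⟩ := ih (fun i => s i.succ) i
      refine ⟨app (biprod.inr : pw R r ⟶ unitR R ⊞ pw R r) V z, ?_⟩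
      rw [← hz]
      refine (app_comp _ _ _ _).symm.trans ?_
      congr 2
      exact biprod.inr_desc _ _

theorem dsc_surjective (h : Cart 𝔅 M U) {r : ℕ} (s : Fin r → Sec M U)
    (hs : Submodule.span (O R U) (Set.range s) = ⊤) {V : Opens T} (hV : V ∈ 𝔅.B) (hVU : V ≤ U) :
    Function.Surjective (app (dsc r s) V) := by
  intro t'
  obtain ⟨t, rfl⟩ := (toPush_bijective U M hVU).2 t'
  have ht : t ∈ Submodule.span (O R V) (Set.range fun i => res M hVU (s i)) := by
    have : Submodule.span (O R U) (Set.range fun i : ULift.{u} (Fin r) => s i.down) = ⊤ := by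
      rw [← hs]
      congr 1
      exact (Equiv.ulift.surjective.range_comp s)
    have h1 := span_res_eq_top h this hV hVU
    have h2 : Set.range (fun i : ULift.{u} (Fin r) => res M hVU (s i.down)) = Set.range fun i => res M hVU (s i) :=
      Equiv.ulift.surjective.range_comp fun i => res M hVU (s i)
    rw [← h2, h1]
    trivial
  refine Submodule.span_induction (p := fun t _ => ∃ z, app (dsc r s) V z = app (toPush U M) V t) ?_ ?_ ?_ ?_ ht
  · rintro _ ⟨i, rfl⟩
    obtain ⟨z, hz⟩ := exists_dsc r s V i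
    exact ⟨z, hz.trans (toPush_res (s i) hVU).symm⟩
  · exact ⟨0, by rw [map_zero, map_zero]⟩
  · rintro _ _ _ _ ⟨z, hz⟩ ⟨z', hz'⟩
    exact ⟨z + z', by rw [map_add, map_add, hz, hz']⟩
  · rintro a _ _ ⟨z, hz⟩
    exact ⟨a • z, by rw [map_smul, map_smul, hz]⟩

end Desc

theorem zeroOn_kernel {U : Opens T} {M N : Mod R} (f : M ⟶ N) (h : ∀ V ≤ U, Function.Injective (app f V)) :
    ZeroOn R U (kernel f) := by
  intro V hV
  have key : ∀ s : Sec (kernel f) V, s = 0 := fun s => by
    apply app_injective (kernel.ι f) V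
    apply h V hV
    rw [← app_comp, kernel.condition, map_zero, map_zero]
    rfl
  exact ⟨fun s t => by rw [key s, key t]⟩

theorem zeroOn_cokernel (𝔅 : GoodCov R) {U : Opens T} {M N : Mod R} (f : M ⟶ N)
    (h : ∀ V ∈ 𝔅.B, V ≤ U → Function.Surjective (app f V)) : ZeroOn R U (cokernel f) := by
  intro V hV
  have key : ∀ s : Sec (cokernel f) V, s = 0 := fun s => by
    refine eq_of_forall_nhds _ s 0 fun x hx => ?_
    obtain ⟨W, hxW, hW, a, ha⟩ := (epi_iff_local (cokernel.π f)).1 inferInstance V s x hx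
    obtain ⟨W', hW', hxW', hW'W⟩ := 𝔅.exists_mem hxW
    refine ⟨W', hxW', hW'W.trans hW, ?_⟩
    obtain ⟨b, hb⟩ := h W' hW' ((hW'W.trans hW).trans hV) (res N hW'W a)
    rw [map_zero, ← res_res _ hW hW'W, ← ha, ← app_res, ← hb, ← app_comp, cokernel.condition]
    rfl
  exact ⟨fun s t => by rw [key s, key t]⟩

/-- Presentations on `U`. -/
theorem exists_res {U : Opens T} (hU : U ∈ 𝔅.B) (hN : IsNoetherianRing (O R U)) (M : Mod R) (hM : CartF 𝔅 M U) :
    ∃ (r : ℕ) (M' : Mod R) (φ : pw R r ⟶ M') (f : M ⟶ M'), CartF 𝔅 (kernel φ) U ∧ ZeroOn R U (cokernel φ) ∧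
      ZeroOn R U (kernel f) ∧ ZeroOn R U (cokernel f) := by
  have := hM.2
  obtain ⟨r, s, hs⟩ := Module.Finite.exists_fin (R := O R U) (M := Sec M U)
  have hb : UBij 𝔅 U (toPush U M) := fun V _ hVU => toPush_bijective U M hVU
  have hM' : CartF 𝔅 (pushU U M) U := (hb.cartF_iff hU).1 hM
  have hpqz := pqz_cartF (𝔅 := 𝔅) hU hN
  refine ⟨r, pushU U M, dsc r s, toPush U M, hpqz.ker _ (cartF_pw hU r) (hpqz.le hM'), ?_, ?_, ?_⟩
  · exact zeroOn_cokernel 𝔅 _ fun V hV hVU => dsc_surjective hM.1 s hs hV hVU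
  · exact zeroOn_kernel _ fun V hV => (toPush_bijective U M hV).1
  · exact zeroOn_cokernel 𝔅 _ fun V hV hVU => (toPush_bijective U M hVU).2

end K181.ResOn
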