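import Groth.Agent.FSch.K181.RHomLoc
import Groth.Agent.FSch.K181.ResOn
import Groth.Agent.FSch.K181.QC

/-!
# `RHom(F, G)` for `F` bounded above with coherent cohomology and `G` bounded below
-/

set_option autoImplicit false
set_option linter.style.haveILetI false
universe u

open CategoryTheory TopologicalSpace Opposite CategoryTheory.Limits

open scoped ZeroObject

attribute [local instance] HasDerivedCategory.standard

noncomputable section

namespace K181.RHomMain

open K29.RSec K29.RExact K181.Good K181.PQZInst K181.RAdj K181.RHomDev K181.RHomLoc K181.ResOn DerivedCategory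
  K242.SiteBif

variable {T : TopCat.{u}} {R : Sheaf (Opens.grothendieckTopology T) CommRingCat.{u}} {𝔅 : GoodCov R}

section Main

variable {U : Opens T} (hU : U ∈ 𝔅.B) (hN : IsNoetherianRing (O R U))
  (G : DerivedCategory (Mod R)) (n : ℤ) (hG : ∀ i ≤ n, IsZero ((homologyFunctor (Mod R) i).obj G))
  (I : ℤ) {P Q : ObjectProperty (Mod R)} (hP : PQZ P Q (ZeroOn R U))
  (hGP : ∀ i ≤ I, P ((homologyFunctor (Mod R) i).obj G))

include hG hP hGP in
theorem pw_mem (r : ℕ) (i : ℤ) (hi : i ≤ I) : P (hh (RA R) G ((singleFunctor (Mod R) 0).obj (pw R r)) i) := by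
  induction r with
  | zero =>
    have hz : IsZero ((singleFunctor (Mod R) 0).obj (pw R 0)) := (singleFunctor (Mod R) 0).map_isZero (isZero_zero _)
    have : ((singleFunctor (Mod R) 0).obj (pw R 0)).IsLE (n - i) := by
      rw [isLE_iff]
      exact fun k _ => (homologyFunctor (Mod R) k).map_isZero hz
    exact hP.zero (hV G n hG _ (n - i) i (by lia))
  | succ r ih =>
    refine hh_biprod (TT R) (RA R) (adj R) (hT R) (additive_flip R) G hP _ _ i ?_ ih
    obtain ⟨e⟩ := nonempty_RA_unit (O := R)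
    exact hP.iso ((homologyFunctor (Mod R) i).mapIso (e.app G).symm) (hGP i hi)

include hU hN hG hP hGP in
theorem main (b i : ℤ) (hi : i + b + 1 ≤ I) (X : DerivedCategory (Mod R)) [X.IsLE b]
    (hX : ∀ j, CartF 𝔅 ((homologyFunctor (Mod R) j).obj X) U) :
    P ((homologyFunctor (Mod R) i).obj ((RA R X).obj G)) :=
  dev (TT R) (RA R) (adj R) (hT R) (additive_flip R) G (hsh G) hP n I
    (fun X b i _ h => hV G n hG X b i h) (fun X h => hZ G X h) (Pf := CartFP 𝔅 U)
    (fun M hM => by
      obtain ⟨r, M', φ, f, h1, h2, h3, h4⟩ := exists_res hU hN M hM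
      exact ⟨pw R r, M', φ, f, h1, h2, h3, h4, fun i hi => pw_mem G n hG I hP hGP r i hi⟩)
    (fun e h => h.of_iso e) (fun h => (ZeroOn.of_isZero h).cartF hU) b i hi X hX

end Main

theorem isLE_of (F : DerivedCategory (Mod R)) (m : ℤ) (h : ∀ i : ℤ, m ≤ i → IsZero ((homologyFunctor (Mod R) i).obj F)) :
    F.IsLE m := by
  rw [isLE_iff]
  exact fun k hk => h k hk.le

/-- Finitely many quasi-coherent cohomology sheaves. -/
theorem exists_common (𝔅 : GoodCov R) (G : DerivedCategory (Mod R)) (n : ℤ)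
    (hG : ∀ i ≤ n, IsZero ((homologyFunctor (Mod R) i).obj G))
    (hGq : ∀ i, SheafOfModules.IsQuasicoherent.{u} ((homologyFunctor (Mod R) i).obj G)) (x : T) (I : ℤ) :
    ∃ (W : Opens T) (_ : x ∈ W), ∀ V ∈ 𝔅.B, V ≤ W → ∀ i ≤ I, Cart 𝔅 ((homologyFunctor (Mod R) i).obj G) V := by
  obtain ⟨m, hm⟩ : ∃ m : ℕ, I ≤ n + m := ⟨(I - n).toNat, by have := Int.self_le_toNat (I - n); lia⟩
  induction m generalizing I with
  | zero =>
    exact ⟨⊤, trivial, fun V hV _ i hi => (ZeroOn.of_isZero (hG i (by simp at hm; lia))).cart hV⟩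
  | succ m ih =>
    obtain ⟨W, hxW, h⟩ := ih (I - 1) (by push_cast at hm; lia)
    obtain ⟨W', hxW', h'⟩ := exists_cart_of_qc 𝔅 _ (hGq I) x
    refine ⟨W ⊓ W', ⟨hxW, hxW'⟩, fun V hV hVW i hi => ?_⟩
    rcases hi.lt_or_eq with hi | rfl
    · exact h V hV (hVW.trans inf_le_left) i (by lia)
    · exact h' V hV (hVW.trans inf_le_right)

end K181.RHomMain
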