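import Groth.Agent.FSch.K182.FBound
import Groth.Agent.FSch.K182.RFZero
import Groth.Agent.FSch.K181.IndCoh
import Groth.Agent.FSch.K181.CoprodBound
import Mathlib.AlgebraicGeometry.Noetherian

/-!
# Uniform bounds for the cohomology of inverse images of small opens
-/

set_option autoImplicit false
universe u

open CategoryTheory CategoryTheory.Limits Opposite TopologicalSpace AlgebraicGeometry

attribute [local instance] HasDerivedCategory.standard

namespace K181.RelBound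

open K182.QCBound Groth.Agent.FormalB.OpenMV

variable {X Y : Scheme.{u}}

/-- A uniform bound for opens `W'` which meet the affine opens of `W` in affine opens. -/
theorem exists_relBound [QuasiSeparatedSpace X] (W : X.Opens) (hW : IsCompact (W : Set X)) :
    ∃ d : ℕ, ∀ W' : X.Opens, (∀ U : X.Opens, IsAffineOpen U → U ≤ W → IsAffineOpen (W' ⊓ U)) →
      ∀ (F : CohTop.Ab X.toTopCat), Acyc F → ∀ q, d < q → Subsingleton (HO F q (W' ⊓ W)) := by
  classical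
  refine compact_open_induction_on (P := fun W => ∃ d : ℕ, ∀ W' : X.Opens,
    (∀ U : X.Opens, IsAffineOpen U → U ≤ W → IsAffineOpen (W' ⊓ U)) →
      ∀ (F : CohTop.Ab X.toTopCat), Acyc F → ∀ q, d < q → Subsingleton (HO F q (W' ⊓ W))) W hW ⟨0, ?_⟩ ?_
  · intro W' _ F hF q hq
    rw [inf_bot_eq]
    exact hF ⊥ (isAffineOpen_bot X) q hq
  rintro S hS ⟨U, hU⟩ ⟨d, hd⟩
  have hSU : IsCompact ((S ⊓ U : X.Opens) : Set X) :=
    QuasiSeparatedSpace.inter_isCompact _ _ S.2 hS U.2 hU.isCompact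
  obtain ⟨s, hs⟩ := exists_finset hU (S ⊓ U) inf_le_right hSU
  refine ⟨max d (s.card + 1), fun W' hW' F hF q hq => ?_⟩
  obtain ⟨q', rfl⟩ : ∃ q', q = q' + 1 := ⟨q - 1, by omega⟩
  change Subsingleton (HO F (q' + 1) (W' ⊓ (S ⊔ U)))
  have hU' : IsAffineOpen (W' ⊓ U) := hW' U hU le_sup_right
  rw [inf_sup_left]
  refine mv F q' _ _ ?_ (hd W' (fun V hV hVS => hW' V hV (hVS.trans le_sup_left)) F hF _ (by omega))
    (hF _ hU' _ (by omega))
  have e : W' ⊓ S ⊓ (W' ⊓ U) = ⨆ f ∈ s.image (X.presheaf.map (homOfLE (inf_le_right : W' ⊓ U ≤ U)).op), X.basicOpen f := by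
    rw [Finset.iSup_finset_image]
    have e1 : W' ⊓ S ⊓ (W' ⊓ U) = (W' ⊓ U) ⊓ (S ⊓ U) := by
      apply le_antisymm
      · exact le_inf inf_le_right (le_inf (inf_le_left.trans inf_le_right) (inf_le_right.trans inf_le_right))
      · exact le_inf (le_inf (inf_le_left.trans inf_le_left) (inf_le_right.trans inf_le_left)) inf_le_left
    rw [e1, hs, inf_iSup₂_eq]
    refine iSup_congr fun f => iSup_congr fun _ => ?_
    exact (X.basicOpen_res f (homOfLE (inf_le_right : W' ⊓ U ≤ U)).op).symm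
  rw [e]
  exact basicUnion hU' F hF s.card _ Finset.card_image_le q' (by omega)

/-- A basis of `Y` with a uniform bound for the cohomology of the inverse images. -/
theorem exists_basis_bound [QuasiSeparatedSpace X] (hX : ∀ W : X.Opens, IsCompact (W : Set X)) [CompactSpace Y]
    (f : X ⟶ Y) : ∃ (B : Set Y.Opens) (d : ℕ), Opens.IsBasis B ∧ ∀ V ∈ B, ∀ (F : CohTop.Ab X.toTopCat), Acyc F →
      ∀ q, d < q → Subsingleton (HO F q (f ⁻¹ᵁ V)) := by
  classical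
  choose V hV hyV _ using fun y : Y => exists_isAffineOpen_mem_and_subset (X := Y) (x := y) (U := ⊤) trivial
  obtain ⟨t, ht⟩ := (isCompact_univ (X := Y)).elim_finite_subcover (fun y : Y => (V y : Set Y))
    (fun y => (V y).2) (fun y _ => Set.mem_iUnion.2 ⟨y, hyV y⟩)
  choose d hd using fun y : Y => exists_relBound (f ⁻¹ᵁ V y) (hX _)
  refine ⟨{V' | ∃ y ∈ t, ∃ g : Γ(Y, V y), V' = Y.basicOpen g}, t.sup d, ?_, ?_⟩
  · rw [Opens.isBasis_iff_nbhd]
    intro U x hx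
    obtain ⟨y, hy, hxy⟩ := Set.mem_iUnion₂.1 (ht (Set.mem_univ x))
    obtain ⟨g, hg, hxg⟩ := (hV y).exists_basicOpen_le (V := U) ⟨x, hx⟩ hxy
    exact ⟨_, ⟨y, hy, g, rfl⟩, hxg, hg⟩
  · rintro _ ⟨y, hy, g, rfl⟩ F hF q hq
    have h1 : f ⁻¹ᵁ Y.basicOpen g = X.basicOpen (f.app (V y) g) := Scheme.preimage_basicOpen f g
    have h2 : f ⁻¹ᵁ Y.basicOpen g = f ⁻¹ᵁ Y.basicOpen g ⊓ f ⁻¹ᵁ V y := by
      rw [inf_eq_left.2]
      exact f.preimage_mono (Y.basicOpen_le g)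
    rw [h2]
    refine hd y _ (fun U hU hUW => ?_) F hF q ((Finset.le_sup (f := d) hy).trans_lt hq)
    have h3 := hU.basicOpen (X.presheaf.map (homOfLE hUW).op (f.app (V y) g))
    rw [Scheme.basicOpen_res, ← h1, inf_comm] at h3
    exact h3

variable (𝔛 𝔜 : FSch.Sys.{u}) (h𝔛 : 𝔛.IsLocNoethFormal) (h𝔜 : 𝔜.IsFormal)

include h𝔛 in
theorem noetherianSpace [CompactSpace (𝔛.X 0)] : NoetherianSpace (𝔛.X 0) := by
  have := h𝔛.2.2 0
  have : IsNoetherian (𝔛.X 0) := {}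
  infer_instance

/-- `Rf_*` is bounded above on the complexes whose cohomology sheaves are acyclic on affine opens. -/
theorem exists_bound [CompactSpace (𝔛.X 0)] [CompactSpace (𝔜.X 0)] (f : 𝔛 ⟶ 𝔜)
    [SiteCmp.HasRpushD (FSch.homMor f h𝔛.1 h𝔜)] (P : ObjectProperty (FSch.ModF 𝔛 h𝔛.1))
    (hP : K182.TopRlim.AcycOn (𝔛.Osh h𝔛.1) P (K182.FBound.affs 𝔛)) :
    ∃ e : ℕ, ∀ (G : DerivedCategory (FSch.ModF 𝔛 h𝔛.1)) (b : ℤ), (∀ i : ℤ, P (SiteCmp.HMod G i)) → G.IsLE b →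
      ∀ i : ℤ, b + e < i → IsZero (SiteCmp.HMod ((SiteCmp.RpushD (FSch.homMor f h𝔛.1 h𝔜)).obj G) i) := by
  have h1 := h𝔛.2.2 0
  have h2 := noetherianSpace 𝔛 h𝔛
  obtain ⟨B₂, d, hB₂, hd⟩ := exists_basis_bound (X := 𝔛.X 0) (Y := 𝔜.X 0)
    (fun W => NoetherianSpace.isCompact (W : Set (𝔛.X 0))) ((f : FSch.Hom 𝔛 𝔜).app 0)
  refine ⟨d, fun G b hG hb i hi => ?_⟩
  letI := K578.Der.rpushCommShift (FSch.homMor f h𝔛.1 h𝔜)
  have := K578.Der.rpush_isTriangulated (FSch.homMor f h𝔛.1 h𝔜)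
  have h0 : IsZero ((DerivedCategory.homologyFunctor _ 0).obj
      ((SiteCmp.RpushD (FSch.homMor f h𝔛.1 h𝔜)).obj (G⟦i⟧))) := by
    refine K182.RFZero.isZero_H0 (K578.ModTest.testSystem (ModSite.ringSh (𝔜.Osh h𝔜)))
      (K578.PushComp.comp (FSch.homMor f h𝔛.1 h𝔜)) (fun V => V ∈ B₂) (fun U => ?_) _ fun V hV ξ => ?_
    · obtain ⟨ι, Z, g, h1, h2, h3⟩ := K182.TopRlim.exists_cover hB₂ U ⊤ ((Opens.grothendieckTopology _).top_mem U)
      exact Groth.Agent.CohtopB.TestSys.gen_mem_of_ofArrows ⊤ _ Z g h1 h2 h3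
    · exact K182.TopRlim.hom_PM_eq_zero (𝔛.Osh h𝔛.1) (K182.FBound.isBasis 𝔛) hP _ d
        (fun F hF q hq => hd V hV (ModSite.toAb F) (fun W hW q hq => hP F hF W hW q hq) q hq) G hG b i hi ξ
  exact h0.of_iso ((((DerivedCategory.homologyFunctor _ 0).shiftIso i 0 i (by lia)).app _).symm ≪≫
    (DerivedCategory.homologyFunctor _ 0).mapIso
      (((SiteCmp.RpushD (FSch.homMor f h𝔛.1 h𝔜)).commShiftIso i).symm.app _))

/-- Ind-coherent modules are acyclic on affine opens. -/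
theorem acycOn_indCoh : K182.TopRlim.AcycOn (𝔛.Osh h𝔛.1) (K181.Formal.IndCoh h𝔛) (K182.FBound.affs 𝔛) := by
  intro F hF V hV q hq
  obtain ⟨q, rfl⟩ : ∃ q', q = q' + 1 := ⟨q - 1, by omega⟩
  exact K181.Formal.subsingleton_HU_of_indCoh h𝔛 hF hV q

end K181.RelBound
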