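import Groth.Agent.FSch.K181.Colim
import Groth.Agent.Dcoh.SecCoprod

/-!
# Sections of a direct sum of sheaves of modules over quasi-compact opens
-/

set_option autoImplicit false
set_option linter.style.haveILetI false
universe u

open CategoryTheory CategoryTheory.Limits TopologicalSpace Opposite

noncomputable section

namespace K181.SecCoprod

open K29.RSec K29.RStalk K181.Good

variable {T : TopCat.{u}} {R : Sheaf (Opens.grothendieckTopology T) CommRingCat.{u}}
  {I : Type u} {M : I → Mod R} (c : Cofan M)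

instance preservesCoproducts_stalkF (I : Type u) (x : T) : PreservesColimitsOfShape (Discrete I) (stalkF R x) :=
  inferInstance

/-- Sections over `U` which are finite sums of sections of the summands. -/
def IsFinSum (U : Opens T) (s : Sec c.pt U) : Prop :=
  ∃ (t : Finset I) (m : ∀ i, Sec (M i) U), s = ∑ i ∈ t, app (c.inj i) U (m i)

variable {c}

theorem IsFinSum.res {U V : Opens T} {s : Sec c.pt U} (h : IsFinSum c U s) (hVU : V ≤ U) :
    IsFinSum c V (K29.RSec.res c.pt hVU s) := by
  obtain ⟨t, m, rfl⟩ := h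
  refine ⟨t, fun i => K29.RSec.res (M i) hVU (m i), ?_⟩
  rw [map_sum]
  refine Finset.sum_congr rfl fun i _ => ?_
  rw [app_res]

theorem IsFinSum.add {U : Opens T} {s s' : Sec c.pt U} (h : IsFinSum c U s) (h' : IsFinSum c U s') :
    IsFinSum c U (s + s') := by
  classical
  obtain ⟨t, m, rfl⟩ := h
  obtain ⟨t', m', rfl⟩ := h'
  refine ⟨t ∪ t', fun i => (if i ∈ t then m i else 0) + (if i ∈ t' then m' i else 0), ?_⟩
  have h1 : ∑ i ∈ t, app (c.inj i) U (m i) =
      ∑ i ∈ t ∪ t', app (c.inj i) U (if i ∈ t then m i else 0) := by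
    rw [← Finset.sum_subset (Finset.subset_union_left (s₁ := t) (s₂ := t'))]
    · exact Finset.sum_congr rfl fun i hi => by rw [if_pos hi]
    · intro i _ hi
      rw [if_neg hi, map_zero]
  have h2 : ∑ i ∈ t', app (c.inj i) U (m' i) =
      ∑ i ∈ t ∪ t', app (c.inj i) U (if i ∈ t' then m' i else 0) := by
    rw [← Finset.sum_subset (Finset.subset_union_right (s₁ := t) (s₂ := t'))]
    · exact Finset.sum_congr rfl fun i hi => by rw [if_pos hi]
    · intro i _ hi
      rw [if_neg hi, map_zero]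
  rw [h1, h2, ← Finset.sum_add_distrib]
  exact Finset.sum_congr rfl fun i _ => by rw [map_add]

/-- Locally every section of a direct sum is a finite sum of sections of the summands. -/
theorem exists_isFinSum_nhd (hc : IsColimit c) {U : Opens T} (s : Sec c.pt U) (x : T) (hx : x ∈ U) :
    ∃ (V : Opens T) (_ : x ∈ V) (hVU : V ≤ U), IsFinSum c V (res c.pt hVU s) := by
  have hc' : IsColimit (Cofan.mk ((stalkF R x).obj c.pt) fun i => (stalkF R x).map (c.inj i)) :=
    isColimitCofanMkObjOfIsColimit (stalkF R x) _ _ (hc.ofIsoColimit (Cocone.ext (Iso.refl _)))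
  have htop := Groth.Agent.Dcoh.SecCoprod.iSup_range_eq_top _ hc'
  have key : ∀ z : St c.pt x, z ∈ (⊤ : AddSubgroup (St c.pt x)) →
      ∃ (V : Opens T) (hxV : x ∈ V) (s' : Sec c.pt V), IsFinSum c V s' ∧ gm c.pt x V hxV s' = z := by
    intro z hz
    have hz' : z ∈ (⨆ i, ((stalkF R x).map (c.inj i)).hom.range : AddSubgroup ((stalkF R x).obj c.pt)) := by
      have : (⨆ i, ((stalkF R x).map (c.inj i)).hom.range : AddSubgroup ((stalkF R x).obj c.pt)) = ⊤ := htop
      rw [this]; trivial
    refine AddSubgroup.iSup_induction (C := fun z : St c.pt x =>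
      ∃ (V : Opens T) (hxV : x ∈ V) (s' : Sec c.pt V), IsFinSum c V s' ∧ gm c.pt x V hxV s' = z)
      (fun i => (((stalkF R x).map (c.inj i)).hom.range : AddSubgroup ((stalkF R x).obj c.pt))) hz' ?_ ?_ ?_
    · rintro i _ ⟨y, rfl⟩
      obtain ⟨V, hxV, m, rfl⟩ := exists_gm (M i) x y
      refine ⟨V, hxV, app (c.inj i) V m, ⟨{i}, ?_⟩, ?_⟩
      · classical
        refine ⟨fun j => if h : i = j then h ▸ m else 0, ?_⟩
        rw [Finset.sum_singleton]
        simp
      · exact (stalkF_map_gm (c.inj i) x hxV m).symm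
    · exact ⟨⊤, trivial, 0, ⟨∅, fun _ => 0, rfl⟩, map_zero _⟩
    · rintro z₁ z₂ ⟨V₁, h₁, s₁, hs₁, rfl⟩ ⟨V₂, h₂, s₂, hs₂, rfl⟩
      refine ⟨V₁ ⊓ V₂, ⟨h₁, h₂⟩, res c.pt inf_le_left s₁ + res c.pt inf_le_right s₂,
        (hs₁.res _).add (hs₂.res _), ?_⟩
      refine (map_add _ _ _).trans ?_
      exact congrArg₂ (· + ·) (gm_res _ _ _ _ _) (gm_res _ _ _ _ _)
  obtain ⟨V, hxV, s', hs', he⟩ := key (gm c.pt x U hx s) trivial
  have hxW : x ∈ V ⊓ U := ⟨hxV, hx⟩
  have e : gm c.pt x (V ⊓ U) hxW (res c.pt inf_le_left s') =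
      gm c.pt x (V ⊓ U) hxW (res c.pt inf_le_right s) := by
    rw [gm_res, gm_res, he]
  obtain ⟨W, hxW', hW, e'⟩ := exists_res_eq c.pt _ e
  rw [res_res, res_res] at e'
  refine ⟨W, hxW', hW.trans inf_le_right, ?_⟩
  rw [← e']
  exact hs'.res _

/-- The projections of a coproduct of modules. -/
def proj (hc : IsColimit c) (i : I) : c.pt ⟶ M i := by
  classical
  exact Cofan.IsColimit.desc hc (fun j => if h : j = i then eqToHom (by rw [h]) else 0)

theorem inj_proj (hc : IsColimit c) (i : I) : c.inj i ≫ proj hc i = 𝟙 _ := by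
  classical
  simp [proj]

theorem inj_proj_ne (hc : IsColimit c) {i j : I} (h : j ≠ i) : c.inj j ≫ proj hc i = 0 := by
  classical
  simp [proj, h]

/-- A finite sum of sections of the summands determines the summands. -/
theorem proj_sum (hc : IsColimit c) {U : Opens T} (t : Finset I) (m : ∀ i, Sec (M i) U) (j : I) (hj : j ∈ t) :
    app (proj hc j) U (∑ i ∈ t, app (c.inj i) U (m i)) = m j := by
  rw [map_sum, Finset.sum_eq_single j]
  · rw [← app_comp, inj_proj]; rfl
  · intro i _ hij
    rw [← app_comp, inj_proj_ne hc hij]; rfl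
  · intro h; exact absurd hj h

theorem proj_sum_notMem (hc : IsColimit c) {U : Opens T} (t : Finset I) (m : ∀ i, Sec (M i) U) (j : I)
    (hj : j ∉ t) : app (proj hc j) U (∑ i ∈ t, app (c.inj i) U (m i)) = 0 := by
  rw [map_sum]
  apply Finset.sum_eq_zero
  intro i hi
  rw [← app_comp, inj_proj_ne hc (fun h : i = j => hj (by rw [← h]; exact hi))]; rfl

/-- A section is a finite sum iff only finitely many of its components are nonzero and it is their sum. -/
theorem IsFinSum.eq_sum_proj (hc : IsColimit c) {U : Opens T} {s : Sec c.pt U} (h : IsFinSum c U s) :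
    ∃ t : Finset I, s = ∑ i ∈ t, app (c.inj i) U (app (proj hc i) U s) ∧
      ∀ i, i ∉ t → app (proj hc i) U s = 0 := by
  obtain ⟨t, m, rfl⟩ := h
  refine ⟨t, ?_, fun i hi => proj_sum_notMem hc t m i hi⟩
  exact Finset.sum_congr rfl fun i hi => by rw [proj_sum hc t m i hi]

/-- A section all of whose components vanish is zero. -/
theorem eq_zero_of_proj (hc : IsColimit c) {U : Opens T} {s : Sec c.pt U} (h : ∀ i, app (proj hc i) U s = 0) :
    s = 0 := by
  refine eq_of_forall_nhds c.pt _ _ fun x hx => ?_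
  obtain ⟨V, hxV, hVU, hV⟩ := exists_isFinSum_nhd hc s x hx
  refine ⟨V, hxV, hVU, ?_⟩
  obtain ⟨t, ht, -⟩ := hV.eq_sum_proj hc
  rw [ht, map_zero]
  refine Finset.sum_eq_zero fun i _ => ?_
  rw [app_res, h, map_zero, map_zero]

theorem isFinSum_of_sup (hc : IsColimit c) {U V₁ V₂ : Opens T} (hU : U = V₁ ⊔ V₂) (s : Sec c.pt U)
    (h1 : V₁ ≤ U) (h2 : V₂ ≤ U) (h₁ : IsFinSum c V₁ (res c.pt h1 s)) (h₂ : IsFinSum c V₂ (res c.pt h2 s)) :
    IsFinSum c U s := by
  classical
  obtain ⟨t₁, e₁, f₁⟩ := h₁.eq_sum_proj hc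
  obtain ⟨t₂, e₂, f₂⟩ := h₂.eq_sum_proj hc
  refine ⟨t₁ ∪ t₂, fun i => app (proj hc i) U s, ?_⟩
  have key : ∀ (V : Opens T) (hV : V ≤ U) (t : Finset I) (_ : t ⊆ t₁ ∪ t₂),
      res c.pt hV s = ∑ i ∈ t, app (c.inj i) V (app (proj hc i) V (res c.pt hV s)) →
      (∀ i, i ∉ t → app (proj hc i) V (res c.pt hV s) = 0) →
      res c.pt hV s = res c.pt hV (∑ i ∈ t₁ ∪ t₂, app (c.inj i) U (app (proj hc i) U s)) := by
    intro V hV t ht e f
    rw [map_sum, e, ← Finset.sum_subset ht]
    · refine Finset.sum_congr rfl fun i _ => ?_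
      rw [← app_res, ← app_res]
    · intro i _ hi
      rw [← app_res, ← app_res, f i hi, map_zero]
  refine eq_of_forall_nhds c.pt _ _ fun x hx => ?_
  rw [hU] at hx
  rcases hx with hx | hx
  · exact ⟨V₁, hx, h1, key V₁ h1 t₁ Finset.subset_union_left e₁ f₁⟩
  · exact ⟨V₂, hx, h2, key V₂ h2 t₂ Finset.subset_union_right e₂ f₂⟩

/-- Over a quasi-compact open, every section of a direct sum of modules is a finite sum of sections
of the summands. -/
theorem isFinSum_of_isCompact (hc : IsColimit c) {U : Opens T} (hU : IsCompact (U : Set T))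
    (s : Sec c.pt U) : IsFinSum c U s := by
  choose V hxV hVU hV using fun x : U => exists_isFinSum_nhd hc s x.1 x.2
  obtain ⟨t, ht⟩ := hU.elim_finite_subcover (fun x : U => (V x : Set T)) (fun x => (V x).2)
    (fun x hx => Set.mem_iUnion.2 ⟨⟨x, hx⟩, hxV _⟩)
  have key : ∀ t : Finset U, ∀ (W : Opens T) (_ : W = t.sup V) (hWU : W ≤ U), IsFinSum c W (res c.pt hWU s) := by
    classical
    intro t
    induction t using Finset.induction_on with
    | empty =>
      intro W hW hWU
      refine ⟨∅, fun _ => 0, ?_⟩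
      refine eq_of_forall_nhds c.pt _ _ fun x hx => ?_
      rw [hW] at hx
      exact absurd hx (by simp)
    | insert a t _ ih =>
      intro W hW hWU
      rw [Finset.sup_insert] at hW
      have h1 : V a ≤ W := hW ▸ le_sup_left
      have h2 : t.sup V ≤ W := hW ▸ le_sup_right
      refine isFinSum_of_sup hc hW _ h1 h2 ?_ ?_
      · rw [res_res]
        exact hV a
      · rw [res_res]
        exact ih _ rfl _
  have hUt : U = t.sup V := by
    apply le_antisymm
    · intro x hx
      obtain ⟨y, hy, hxy⟩ := Set.mem_iUnion₂.1 (ht hx)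
      exact (Finset.le_sup (f := V) hy) hxy
    · exact Finset.sup_le fun x _ => hVU x
  have := key t U hUt le_rfl
  rwa [res_self] at this

end K181.SecCoprod
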